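import Mathlib.AlgebraicGeometry.Properties
import Mathlib.AlgebraicGeometry.Noetherian
import Mathlib.Topology.Sober
import Mathlib.RingTheory.Ideal.KrullsHeightTheorem

/-!
# Points of a scheme, specialization and dimensions of local rings
-/

set_option autoImplicit false
universe u

open CategoryTheory AlgebraicGeometry TopologicalSpace

namespace Groth.Agent.IntSh.K877.Pts

variable {X : Scheme.{u}}

theorem dim_eq_zero_iff (x : X) :
    ringKrullDim (X.presheaf.stalk x) = 0 ↔ ∀ y : X, y ⤳ x → y = x := by
  rw [ringKrullDim_stalk_eq_coheight]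
  have h0 : ((Order.coheight x : ℕ∞) : WithBot ℕ∞) = 0 ↔ Order.coheight x = 0 := by
    exact_mod_cast Iff.rfl
  rw [h0, Order.coheight_eq_zero]
  constructor
  · intro h y hy
    exact (hy.antisymm (h (b := y) hy)).eq
  · intro h y hy
    rw [h y hy]

theorem dim_mono {x y : X} (h : y ⤳ x) :
    ringKrullDim (X.presheaf.stalk y) ≤ ringKrullDim (X.presheaf.stalk x) := by
  rw [ringKrullDim_stalk_eq_coheight, ringKrullDim_stalk_eq_coheight]
  exact_mod_cast Order.coheight_anti (show x ≤ y from h)

theorem dim_lt_top [IsLocallyNoetherian X] (x : X) : ringKrullDim (X.presheaf.stalk x) < ⊤ :=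
  ringKrullDim_lt_top

theorem dim_nonneg (x : X) : 0 ≤ ringKrullDim (X.presheaf.stalk x) :=
  ringKrullDim_nonneg_of_nontrivial

theorem exists_dim (x : X) [IsLocallyNoetherian X] :
    ∃ n : ℕ, ringKrullDim (X.presheaf.stalk x) = n := by
  have h1 := dim_lt_top x
  have h2 := dim_nonneg x
  rw [ringKrullDim_stalk_eq_coheight] at h1 h2 ⊢
  have h3 : (Order.coheight x : ℕ∞) ≠ ⊤ := by
    intro h
    rw [h] at h1
    exact lt_irrefl _ h1
  obtain ⟨n, hn⟩ := ENat.ne_top_iff_exists.1 h3
  exact ⟨n, by rw [← hn]; rfl⟩

theorem dim_lt [IsLocallyNoetherian X] {x y : X} (h : y ⤳ x) (hne : y ≠ x) :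
    ringKrullDim (X.presheaf.stalk y) < ringKrullDim (X.presheaf.stalk x) := by
  have hlt : x < y := by
    refine lt_of_le_not_ge (show x ≤ y from h) fun h' => hne ?_
    exact (h.antisymm (show x ⤳ y from h')).eq
  obtain ⟨n, hn⟩ := exists_dim y
  rw [ringKrullDim_stalk_eq_coheight] at hn ⊢
  rw [ringKrullDim_stalk_eq_coheight]
  have hf : (Order.coheight y : ℕ∞) < ⊤ := by
    rw [lt_top_iff_ne_top]
    intro h'
    rw [h'] at hn
    exact absurd hn (by exact_mod_cast (ENat.natCast_ne_top n).symm)
  exact_mod_cast Order.coheight_strictAnti hlt hf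

/-- adding one to dimensions along a proper specialization -/
theorem dim_add_one_le [IsLocallyNoetherian X] {x y : X} (h : y ⤳ x) (hne : y ≠ x) :
    ringKrullDim (X.presheaf.stalk y) + 1 ≤ ringKrullDim (X.presheaf.stalk x) := by
  obtain ⟨n, hn⟩ := exists_dim y
  obtain ⟨m, hm⟩ := exists_dim x
  have h1 := dim_lt h hne
  rw [hn, hm] at h1 ⊢
  have : n < m := by exact_mod_cast h1
  exact_mod_cast this

theorem one_le_dim_iff [IsLocallyNoetherian X] (x : X) :
    1 ≤ ringKrullDim (X.presheaf.stalk x) ↔ ringKrullDim (X.presheaf.stalk x) ≠ 0 := by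
  obtain ⟨n, hn⟩ := exists_dim x
  rw [hn]
  constructor
  · intro h h0
    have h0' : n = 0 := by exact_mod_cast h0
    have : 1 ≤ n := by exact_mod_cast h
    omega
  · intro h
    have : n ≠ 0 := fun h' => h (by exact_mod_cast h')
    have : 1 ≤ n := by omega
    exact_mod_cast this

/-- A point whose local ring is zero-dimensional is the generic point of an irreducible component. -/
theorem closure_mem_irreducibleComponents {x : X} (h : ringKrullDim (X.presheaf.stalk x) = 0) :
    closure {x} ∈ irreducibleComponents X := by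
  rw [dim_eq_zero_iff] at h
  refine ⟨isIrreducible_singleton.closure, fun Z hZ hle => ?_⟩
  obtain ⟨z, hz⟩ := QuasiSober.sober hZ.closure isClosed_closure
  have h1 : z ⤳ x := by
    rw [specializes_iff_mem_closure, hz.def]
    exact subset_closure (hle (subset_closure rfl))
  have h2 := h z h1
  subst h2
  rw [hz.def]
  exact subset_closure

theorem finite_dim_zero [NoetherianSpace X] :
    {x : X | ringKrullDim (X.presheaf.stalk x) = 0}.Finite := by
  have h : (irreducibleComponents X).Finite := NoetherianSpace.finite_irreducibleComponents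
  refine Set.Finite.of_finite_image (f := fun x : X => closure {x}) (h.subset ?_) ?_
  · rintro _ ⟨x, hx, rfl⟩
    exact closure_mem_irreducibleComponents hx
  · intro x _ y _ hxy
    have hxy' : closure {x} = closure {y} := hxy
    have h1 : x ⤳ y := by
      rw [specializes_iff_mem_closure, hxy']
      exact subset_closure rfl
    have h2 : y ⤳ x := by
      rw [specializes_iff_mem_closure, ← hxy']
      exact subset_closure rfl
    exact (h1.antisymm h2).eq

end Groth.Agent.IntSh.K877.Pts
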