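import Groth.Prelude.Def_DCoh4
import Groth.Agent.Ega2.TensMon
import Groth.Agent.Ega2.TensGen
import Groth.Agent.Fga.RegSec
import Groth.Agent.PerfA.QCohSerre

/-!
# The functor `F ⊗ -` of the bifunctor `DCoh.tensorBi` and multiplication by sections
-/

set_option autoImplicit false
universe u

open CategoryTheory CategoryTheory.Limits AlgebraicGeometry TopologicalSpace Opposite MonoidalCategory

namespace Groth.Agent.IntSh.K877.TensBi

open Groth.Agent.Ega1 Groth.Agent.Ega2

variable {X : Scheme.{u}}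

theorem obj_map_tmul (M : X.Modules) {N N' : X.Modules} (f : N ⟶ N') (U : X.Opens)
    (m : Γ(M, U)) (n : Γ(N, U)) :
    ((DCoh.tensorBi.obj M).map f).app U (Tens.tmul m n) = Tens.tmul m (f.app U n) := by
  let adj := PresheafOfModules.sheafificationAdjunction (R := X.ringCatSheaf) (𝟙 X.ringCatSheaf.obj)
  let P : X.PresheafOfModules := CohB1.tensorPre M N
  let Q : X.PresheafOfModules := CohB1.tensorPre M N'
  let g : P ⟶ Q := (tensorLeft (CohB1.toPMod M)).map (DCoh.toP.map f)
  have h := adj.unit.naturality g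
  exact (congrArg (fun φ => (PresheafOfModules.Hom.app φ (op U)).hom (Tens.pt m n)) h).symm

theorem obj_map_eq (M : X.Modules) {N N' : X.Modules} (f : N ⟶ N') :
    (DCoh.tensorBi.obj M).map f = Tens.mapT (𝟙 M) f :=
  Tens.hom_ext _ _ fun U m n => (obj_map_tmul M f U m n).trans
    ((Tens.mapT_tmul (𝟙 M) f m n).trans rfl).symm

theorem mapT_swap {M M' N N' : X.Modules} (f : M ⟶ M') (g : N ⟶ N') :
    Tens.mapT f g = (Tens.swap M N).hom ≫ Tens.mapT g f ≫ (Tens.swap M' N').inv := by
  rw [← Category.assoc, Iso.eq_comp_inv]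
  refine Tens.hom_ext _ _ fun U m n => ?_
  change (Tens.swapHom M' N').app U ((Tens.mapT f g).app U (Tens.tmul m n)) =
    (Tens.mapT g f).app U ((Tens.swapHom M N).app U (Tens.tmul m n))
  rw [Tens.mapT_tmul, Tens.swapHom_tmul, Tens.swapHom_tmul, Tens.mapT_tmul]

/-- `F ⊗ τ` is a monomorphism when the section `τ` generates at the associated points of `F`. -/
theorem mono_obj_map [IsLocallyNoetherian X] {L : X.Modules} (τ : Coh.structureModule X ⟶ L)
    (F : X.Modules) (hF : Coh.IsCoh F) (hL : PicF.IsInvertible L)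
    (hAss : AssSch.Ass F ⊆ CohB1.genLocus L τ) : Mono ((DCoh.tensorBi.obj F).map τ) := by
  have hq : Coh.IsQCoh (CohB1.tensorMod L F) :=
    QCohLoc.isQCoh_of_iso (Tens.swap F L) (TensGen.isQCoh_tensor hF.1 hL)
  have h1 : Mono (Fga.RegSec.mulS τ F) :=
    Fga.RegSec.mulS_mono τ F hF (PerfA.QCohSerre.isQCoh_kernel _ hF.1 hq) hAss
  have h2 : Mono (Tens.mapT τ (𝟙 F)) := by
    have : Tens.mapT τ (𝟙 F) = (Tens.lunit F).hom ≫ Fga.RegSec.mulS τ F := by
      rw [Fga.RegSec.mulS, Iso.hom_inv_id_assoc]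
    rw [this]
    exact mono_comp _ _
  rw [obj_map_eq, mapT_swap]
  have h3 : Mono ((Tens.swap F (Coh.structureModule X)).hom ≫ Tens.mapT τ (𝟙 F) ≫
      (Tens.swap F L).inv) := inferInstance
  exact h3

end Groth.Agent.IntSh.K877.TensBi
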