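import Groth.Prelude.Def_ChowK
import Groth.Prelude.Def_ClSub2
import Groth.Prelude.Def_SGA6
import Groth.Agent.CohqA.DevInd
import Groth.Agent.CohqA.AffPush
import Groth.Agent.CycB.ClosSheaf
import Groth.Agent.CycB.StalkExact
import Groth.Agent.Sga67.K0Loc
import Groth.Agent.Sga67.CohBasic
import Groth.Agent.Sga67.ClosedPush
import Groth.Agent.Ega1.ReducedSub
import Groth.Agent.CohqB.DevSupport

/-!
# Devissage of classes of coherent modules by supports

* `G S`: the subgroup of `K₀(Coh X)` generated by the classes of coherent modules with support in `S`;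
* `exists_devissage`: for `X` Noetherian and sets `S ⊆ T` stable under specialization such that all proper
  specializations of points of `T \ S` lie in `S`, every coherent `M` with support in `T` satisfies
  `[M] - Σ_x m_x [O_x̄] ∈ G S`, with `m_x` the length of the stalk at `x`, for `x ∈ T \ S`.
* `cl_mem_closure_closureStructureSheaf`: `[M]` is in the subgroup generated by `[O_x̄]`, `x ∈ Supp M`.
-/

set_option autoImplicit false
universe u

open CategoryTheory CategoryTheory.Limits AlgebraicGeometry TopologicalSpace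

namespace Groth.Agent.IntSh.K877.Dev

variable {X Y Z : Scheme.{u}}

/-- the property of being coherent -/
abbrev cohP (X : Scheme.{u}) : ObjectProperty X.Modules := fun M => Coh.IsCoh M

/-- the class of a coherent module -/
noncomputable abbrev cl (M : X.Modules) : SGA6.Kcoh X := KZero.clSub (cohP X) M

theorem isIso_unitToPush (f : X ⟶ Y) [IsIso f] : IsIso (ClSub.unitToPush f) := by
  rw [Scheme.Modules.Hom.isIso_iff_isIso_app]
  intro U
  rw [ConcreteCategory.isIso_iff_bijective]
  exact ConcreteCategory.bijective_of_isIso (f.app U)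

/-- direct images of structure sheaves along morphisms which differ by an isomorphism -/
noncomputable def pushIso (f : X ⟶ Y) [IsIso f] (g : Y ⟶ Z) :
    (Coh.push (f ≫ g)).obj (Coh.structureModule X) ≅ (Coh.push g).obj (Coh.structureModule Y) :=
  have := isIso_unitToPush f
  (Scheme.Modules.pushforwardComp f g).symm.app (Coh.structureModule X) ≪≫
    (Coh.push g).mapIso (asIso (ClSub.unitToPush f)).symm

theorem exists_iso_of_ker (i : Z ⟶ X) [IsClosedImmersion i] (I : X.IdealSheafData) (h : i.ker = I) :
    ∃ e : Z ⟶ I.subscheme, IsIso e ∧ e ≫ I.subschemeι = i := by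
  subst h
  exact ⟨i.toImage, inferInstance, i.toImage_imageι⟩

theorem ker_eq_ptIdeal (i : Z ⟶ X) [IsClosedImmersion i] [IsIntegral Z] :
    i.ker = IntMult.ptIdeal (i (genericPoint Z)) := by
  rw [Ega1.ReducedSub.ker_eq_vanishingIdeal i]
  unfold IntMult.ptIdeal
  congr 1
  apply TopologicalSpace.Closeds.ext
  change closure (Set.range i) = closure {i (genericPoint Z)}
  apply subset_antisymm
  · refine closure_minimal ?_ isClosed_closure
    rintro _ ⟨z, rfl⟩
    exact ((genericPoint_specializes z).map i.continuous).mem_closure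
  · exact closure_mono (by rintro _ rfl; exact ⟨_, rfl⟩)

theorem exists_iso_closure (i : Z ⟶ X) [IsClosedImmersion i] [IsIntegral Z] :
    Nonempty ((Coh.push i).obj (Coh.structureModule Z) ≅
      Cyc.closureStructureSheaf (i (genericPoint Z))) := by
  obtain ⟨e, he, hi⟩ := exists_iso_of_ker i _ (ker_eq_ptIdeal i)
  generalize hI : IntMult.ptIdeal (i (genericPoint Z)) = I at e he hi
  subst hi
  unfold Cyc.closureStructureSheaf
  rw [hI]
  exact ⟨pushIso e _⟩

theorem cl_shortExact {S : ShortComplex X.Modules} (hS : S.ShortExact) (h₁ : Coh.IsCoh S.X₁)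
    (h₂ : Coh.IsCoh S.X₂) (h₃ : Coh.IsCoh S.X₃) : cl S.X₂ = cl S.X₁ + cl S.X₃ := by
  rw [cl, cl, cl, Sga67.K0Loc.clSub_eq_mk (cohP X) h₁, Sga67.K0Loc.clSub_eq_mk (cohP X) h₂,
    Sga67.K0Loc.clSub_eq_mk (cohP X) h₃]
  exact Sga67.K0Loc.mk_shortExact hS h₁ h₂ h₃

theorem cl_isZero {M : X.Modules} (hM : IsZero M) : cl M = 0 := by
  have h : Coh.IsCoh M := Sga67.CohBasic.isCoh_of_isZero hM
  rw [cl, Sga67.K0Loc.clSub_eq_mk (cohP X) h]
  exact Sga67.K0Loc.mk_of_isZero hM h

theorem cl_iso {M N : X.Modules} (e : M ≅ N) : cl M = cl N := by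
  by_cases h : Coh.IsCoh M
  · have hN : Coh.IsCoh N := Sga67.CohBasic.isCoh_of_iso e h
    rw [cl, cl, Sga67.K0Loc.clSub_eq_mk (cohP X) h, Sga67.K0Loc.clSub_eq_mk (cohP X) hN]
    exact Sga67.K0Loc.mk_congr_of_zero e (isZero_zero _)
      (Sga67.CohBasic.isCoh_of_isZero (isZero_zero X.Modules)) h hN
  · have hN : ¬ Coh.IsCoh N := fun hN => h (Sga67.CohBasic.isCoh_of_iso e.symm hN)
    simp only [cl, KZero.clSub]
    rw [dif_neg h, dif_neg hN]

variable (X) in
/-- The subgroup generated by the classes of coherent modules with support in `S`. -/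
noncomputable def G (S : Set X) : AddSubgroup (SGA6.Kcoh X) :=
  AddSubgroup.closure {c | ∃ F : X.Modules, Coh.IsCoh F ∧ (∀ x ∈ CohB1.support F, x ∈ S) ∧ c = cl F}

theorem cl_mem_G {S : Set X} {F : X.Modules} (hF : Coh.IsCoh F) (h : CohB1.support F ⊆ S) :
    cl F ∈ G X S := AddSubgroup.subset_closure ⟨F, hF, h, rfl⟩

theorem G_mono {S T : Set X} (h : S ⊆ T) : G X S ≤ G X T :=
  AddSubgroup.closure_mono (by rintro c ⟨F, h1, h2, h3⟩; exact ⟨F, h1, fun x hx => h (h2 x hx), h3⟩)

theorem isCoh_push (i : Z ⟶ X) [IsClosedImmersion i] {M : Z.Modules} (h : Coh.IsCoh M) :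
    Coh.IsCoh ((Coh.push i).obj M) :=
  ⟨CohqA.AffPush.isQCoh_push i _ h.1, CohqA.AffPush.isFT_push i _ h.1 h.2⟩


open CycB.StalkExact CycB.PushStalk in
/-- A nonzero ideal of an integral scheme is everything at the generic point. -/
theorem not_mem_support_cokernel [IsIntegral Z] {I : Z.Modules} (ι : I ⟶ Coh.structureModule Z)
    [Mono ι] (hI : ¬ IsZero I) : genericPoint Z ∉ CohB1.support (cokernel ι) := by
  obtain ⟨x, hx⟩ : (CohB1.support I).Nonempty := by
    rw [Set.nonempty_iff_ne_empty]
    exact fun h => hI (CohqB.DevSupport.isZero_of_support_eq_empty h)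
  have hn : Nontrivial (I.presheaf.stalk x) := not_subsingleton_iff_nontrivial.1 hx
  obtain ⟨m, hm⟩ := exists_ne (0 : I.presheaf.stalk x)
  obtain ⟨U, hxU, s, rfl⟩ := I.presheaf.exists_germ_eq m
  have hUne : Nonempty U := ⟨⟨x, hxU⟩⟩
  have hgU : genericPoint Z ∈ U :=
    (genericPoint_specializes x).mem_open U.2 hxU
  set r : Γ(Z, U) := ι.app U s with hr
  have h1 : r ≠ 0 := by
    intro h0
    apply hm
    apply stalkLin_injective ι x
    rw [stalkLin_germ, map_zero]
    have : ι.app U s = 0 := h0
    rw [this, map_zero]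
  have h2 : Z.presheaf.germ U (genericPoint Z) hgU r ≠ 0 := by
    intro h0
    apply h1
    have hinj := germ_injective_of_isIntegral Z (genericPoint Z) hgU
    exact hinj (h0.trans (map_zero _).symm)
  have h3 : Function.Surjective (stalkLin ι (genericPoint Z)) := by
    intro t
    obtain ⟨a, rfl⟩ := (unitStalk Z (genericPoint Z)).surjective t
    let _ : Field (Z.presheaf.stalk (genericPoint Z)) := inferInstanceAs (Field Z.functionField)
    refine ⟨(a / Z.presheaf.germ U (genericPoint Z) hgU r) •
      I.presheaf.germ U (genericPoint Z) hgU s, ?_⟩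
    rw [map_smul, stalkLin_germ]
    have h4 := unitStalkLin_germ (X := Z) (genericPoint Z) U hgU r
    change _ • (Coh.structureModule Z).presheaf.germ U (genericPoint Z) hgU r = _
    rw [← h4]
    change _ • (unitStalk Z (genericPoint Z)) _ = _
    rw [← map_smul]
    congr 1
    exact div_mul_cancel₀ a h2
  have h4 : Function.Exact (stalkLin ι (genericPoint Z))
      (stalkLin (cokernel.π ι) (genericPoint Z)) :=
    stalkLin_exact (ShortComplex.mk ι (cokernel.π ι) (cokernel.condition ι))
      (ShortComplex.exact_of_g_is_cokernel _ (cokernelIsCokernel ι)) _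
  rw [CohqB.DevSupport.not_mem_support_iff]
  refine ⟨fun a b => ?_⟩
  obtain ⟨a, rfl⟩ := stalkLin_surjective (cokernel.π ι) _ a
  obtain ⟨b, rfl⟩ := stalkLin_surjective (cokernel.π ι) _ b
  rw [(h4 a).2 (h3 a), (h4 b).2 (h3 b)]


theorem shortExact_push (i : Z ⟶ X) [IsClosedImmersion i] {S : ShortComplex Z.Modules}
    (hS : S.ShortExact) : (S.map (Coh.push i)).ShortExact := by
  have h1 := Sga67.ClosedPush.preservesFiniteColimits_pushforward i
  have h2 : PreservesFiniteLimits (Scheme.Modules.pushforward i) := inferInstance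
  exact hS.map_of_exact (Scheme.Modules.pushforward i)

open CycB.StalkExact in
/-- The class of a quotient allowed in devissage. -/
theorem devQuot_class {Q : X.Modules} (h : CohqA.DevInd.IsDevQuot Q) :
    ∃ (z : X) (R : X.Modules), Coh.IsCoh R ∧ (∀ x ∈ CohB1.support R, z ⤳ x ∧ x ≠ z) ∧
      (Coh.IsCoh Q → cl Q = cl (Cyc.closureStructureSheaf z) - cl R) ∧ z ∈ CohB1.support Q ∧
      CohB1.support Q ⊆ closure {z} ∧
      Module.length (X.presheaf.stalk z) (Q.presheaf.stalk z) = 1 := by
  obtain ⟨Z, i, hi, hZ, I, ι, hι, hI, hI0, ⟨e⟩⟩ := h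
  have hO : Coh.IsCoh (Coh.structureModule Z) := Fdesc.StructMod.isCoh_structureModule Z
  have hC : Coh.IsCoh (cokernel ι) := Sga67.CohBasic.isCoh_cokernel ι hI hO
  have hS : (ShortComplex.mk ι (cokernel.π ι) (cokernel.condition ι)).ShortExact :=
    { exact := ShortComplex.exact_of_g_is_cokernel _ (cokernelIsCokernel ι) }
  have hS' := shortExact_push i hS
  obtain ⟨e'⟩ := exists_iso_closure i
  have hsR : CohB1.support ((Coh.push i).obj (cokernel ι)) = i '' CohB1.support (cokernel ι) :=
    Sga67.ClosedPush.support_pushforward i _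
  have hgen := not_mem_support_cokernel ι hI0
  have hzR : i (genericPoint Z) ∉ CohB1.support ((Coh.push i).obj (cokernel ι)) := by
    rw [hsR]
    rintro ⟨w, hw, hw'⟩
    rw [i.isClosedEmbedding.injective hw'] at hw
    exact hgen hw
  have hlen : Module.length (X.presheaf.stalk (i (genericPoint Z)))
      (Q.presheaf.stalk (i (genericPoint Z))) = 1 := by
    rw [(stalkLinEquiv e _).length_eq]
    have h1 := length_stalk_shortExact _ hS' (i (genericPoint Z))
    have h2 : Subsingleton (((Coh.push i).obj (cokernel ι)).presheaf.stalk (i (genericPoint Z))) :=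
      (CohqB.DevSupport.not_mem_support_iff _ _).1 hzR
    have h3 : Module.length (X.presheaf.stalk (i (genericPoint Z)))
        (((Coh.push i).obj (cokernel ι)).presheaf.stalk (i (genericPoint Z))) = 0 :=
      Module.length_eq_zero
    have h4 : Module.length (X.presheaf.stalk (i (genericPoint Z)))
        (((Coh.push i).obj (Coh.structureModule Z)).presheaf.stalk (i (genericPoint Z))) = 1 := by
      rw [(stalkLinEquiv e' _).length_eq]
      exact CycB.ClosSheaf.length_stalk_self _
    have h5 : (1 : ℕ∞) = Module.length (X.presheaf.stalk (i (genericPoint Z)))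
        (((Coh.push i).obj I).presheaf.stalk (i (genericPoint Z))) + 0 :=
      h4.symm.trans (h1.trans (congrArg₂ (· + ·) rfl h3))
    rw [add_zero] at h5
    exact h5.symm
  refine ⟨i (genericPoint Z), (Coh.push i).obj (cokernel ι), isCoh_push i hC, ?_, ?_, ?_, ?_, hlen⟩
  · intro x hx
    rw [hsR] at hx
    obtain ⟨w, hw, rfl⟩ := hx
    refine ⟨(genericPoint_specializes w).map i.continuous, fun h => hgen ?_⟩
    rwa [i.isClosedEmbedding.injective h] at hw
  · intro hQ
    have h1 : Coh.IsCoh ((Coh.push i).obj I) := Sga67.CohBasic.isCoh_of_iso e hQ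
    have h2 := cl_shortExact hS' h1 (isCoh_push i hO) (isCoh_push i hC)
    have h3 : cl ((Coh.push i).obj (Coh.structureModule Z)) =
        cl ((Coh.push i).obj I) + cl ((Coh.push i).obj (cokernel ι)) := h2
    rw [← cl_iso e', h3, cl_iso e, add_sub_cancel_right]
  · intro hs
    have : Module.length (X.presheaf.stalk (i (genericPoint Z)))
      (Q.presheaf.stalk (i (genericPoint Z))) = 0 := Module.length_eq_zero
    rw [this] at hlen
    exact zero_ne_one hlen
  · rw [CohqB.DevSupport.support_congr e]
    intro x hx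
    have hx' : x ∈ i '' CohB1.support I := by
      rw [← Sga67.ClosedPush.support_pushforward i I]
      exact hx
    obtain ⟨w, hw, rfl⟩ := hx'
    exact ((genericPoint_specializes w).map i.continuous).mem_closure

/-- The conclusion of the devissage. -/
def DevConcl (S T : Set X) (M : X.Modules) : Prop :=
  ∃ m : X →₀ ℕ, (∀ x, m x ≠ 0 → x ∈ T ∧ x ∉ S) ∧
    cl M - m.sum (fun x n => n • cl (Cyc.closureStructureSheaf x)) ∈ G X S ∧
    ∀ x ∈ T, x ∉ S → Module.length (X.presheaf.stalk x) (M.presheaf.stalk x) = m x

open CycB.StalkExact in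
/-- Devissage: for sets of points `S ⊆ T` with `S` stable under specialization and such that proper
specializations of points of `T \ S` lie in `S`, the class of a coherent module with support in `T` is
`Σ_{x ∈ T \ S} length(M_x) [O_x̄]` modulo classes of coherent modules with support in `S`. -/
theorem exists_devissage [IsNoetherian X] (S T : Set X)
    (hS : ∀ x ∈ S, ∀ y, x ⤳ y → y ∈ S)
    (hST : ∀ x ∈ T, x ∉ S → ∀ y, x ⤳ y → y ≠ x → y ∈ S)
    (M : X.Modules) (hM : Coh.IsCoh M) (hsupp : CohB1.support M ⊆ T) : DevConcl S T M := by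
  classical
  revert hM hsupp
  refine fun hM => CohqA.DevInd.coh_induction (fun M => CohB1.support M ⊆ T → DevConcl S T M)
    ?_ ?_ ?_ M hM
  · rintro M N ⟨e⟩ h hN
    obtain ⟨m, h1, h2, h3⟩ := h (by rwa [CohqB.DevSupport.support_congr e])
    refine ⟨m, h1, ?_, fun x hx hxS => ?_⟩
    · rwa [← cl_iso e]
    · rw [← h3 x hx hxS]
      exact ((stalkLinEquiv e x).length_eq).symm
  · intro M hM _
    refine ⟨0, by simp, ?_, fun x _ _ => ?_⟩
    · rw [cl_isZero hM]
      simp
    · have h1 : x ∉ CohB1.support M := by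
        rw [CohqB.DevSupport.support_eq_empty_of_isZero hM]
        exact Set.notMem_empty x
      have h2 : Subsingleton (M.presheaf.stalk x) := (CohqB.DevSupport.not_mem_support_iff _ _).1 h1
      rw [Module.length_eq_zero]
      simp
  · intro A B f hf hA hB hq ih hBT
    have hsE : (ShortComplex.mk f (cokernel.π f) (cokernel.condition f)).ShortExact :=
      { exact := ShortComplex.exact_of_g_is_cokernel _ (cokernelIsCokernel f) }
    have hC : Coh.IsCoh (cokernel f) := Sga67.CohBasic.isCoh_cokernel f hA.1 hB
    have hsup := CohqB.DevSupport.support_shortExact hsE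
    change CohB1.support B = CohB1.support A ∪ CohB1.support (cokernel f) at hsup
    obtain ⟨m, h1, h2, h3⟩ := ih (fun x hx => hBT (by rw [hsup]; exact Or.inl hx))
    obtain ⟨z, R, hR, hRs, hcl, hz, hzs, hlen⟩ := devQuot_class hq
    have hcl' := hcl hC
    have hzT : z ∈ T := hBT (by rw [hsup]; exact Or.inr hz)
    have hB' : cl B = cl A + cl (cokernel f) := cl_shortExact hsE hA hB hC
    have hlenB : ∀ x, Module.length (X.presheaf.stalk x) (B.presheaf.stalk x) =
        Module.length (X.presheaf.stalk x) (A.presheaf.stalk x) +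
        Module.length (X.presheaf.stalk x) ((cokernel f).presheaf.stalk x) :=
      fun x => length_stalk_shortExact _ hsE x
    have hlen0 : ∀ x, x ∉ CohB1.support (cokernel f) →
        Module.length (X.presheaf.stalk x) ((cokernel f).presheaf.stalk x) = 0 := by
      intro x hx
      have h2 : Subsingleton ((cokernel f).presheaf.stalk x) :=
        (CohqB.DevSupport.not_mem_support_iff _ _).1 hx
      exact Module.length_eq_zero
    by_cases hzS : z ∈ S
    · refine ⟨m, h1, ?_, fun x hx hxS => ?_⟩
      · rw [hB', add_sub_right_comm]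
        refine add_mem h2 (cl_mem_G hC fun x hx => ?_)
        exact hS z hzS x (specializes_iff_mem_closure.2 (hzs hx))
      · rw [hlenB, h3 x hx hxS, hlen0 x ?_, add_zero]
        intro hx'
        exact hxS (hS z hzS x (specializes_iff_mem_closure.2 (hzs hx')))
    · refine ⟨m + Finsupp.single z 1, ?_, ?_, fun x hx hxS => ?_⟩
      · intro x hx
        by_cases hxz : x = z
        · subst hxz
          exact ⟨hzT, hzS⟩
        · refine h1 x ?_
          rw [Finsupp.add_apply, Finsupp.single_apply, if_neg (Ne.symm hxz), add_zero] at hx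
          exact hx
      · rw [Finsupp.sum_add_index' (by simp) (by simp [add_smul]), Finsupp.sum_single_index (by simp),
          one_smul, hB', hcl']
        have : cl A + (cl (Cyc.closureStructureSheaf z) - cl R) -
            ((m.sum fun x n => n • cl (Cyc.closureStructureSheaf x)) +
              cl (Cyc.closureStructureSheaf z)) =
            (cl A - m.sum fun x n => n • cl (Cyc.closureStructureSheaf x)) - cl R := by abel
        rw [this]
        refine sub_mem h2 (cl_mem_G hR fun x hx => ?_)
        exact hST z hzT hzS x (hRs x hx).1 (hRs x hx).2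
      · rw [hlenB, h3 x hx hxS, Finsupp.add_apply, Finsupp.single_apply]
        by_cases hxz : z = x
        · subst hxz
          rw [if_pos rfl, hlen]
          simp
        · rw [if_neg hxz, hlen0 x ?_]
          · simp
          · intro hx'
            exact hxS (hST z hzT hzS x (specializes_iff_mem_closure.2 (hzs hx')) (Ne.symm hxz))

end Groth.Agent.IntSh.K877.Dev
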