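import Mathlib.GroupTheory.CosetCover
import Mathlib.RingTheory.Nakayama
import Mathlib.RingTheory.LocalRing.ResidueField.Basic
import Mathlib.RingTheory.Ideal.Operations
import Mathlib.LinearAlgebra.Pi

/-!
# Avoiding finitely many proper submodules of a finite free module over a local ring with infinite
# residue field
-/

set_option autoImplicit false

namespace Groth.Agent.IntSh.K877.Avoid

open IsLocalRing

variable {A : Type*} [CommRing A] [IsLocalRing A] {n : ℕ}

/-- reduction of vectors modulo the maximal ideal -/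
noncomputable def red : (Fin n → A) →ₛₗ[algebraMap A (ResidueField A)] (Fin n → ResidueField A) where
  toFun a i := residue A (a i)
  map_add' a b := by funext i; simp
  map_smul' r a := by funext i; simp [Pi.smul_apply]

theorem red_surjective : Function.Surjective (red (A := A) (n := n)) := by
  intro b
  choose a ha using fun i => residue_surjective (b i)
  exact ⟨a, funext ha⟩

theorem mem_smul_top_of_red_eq_zero {a : Fin n → A} (h : red a = 0) :
    a ∈ maximalIdeal A • (⊤ : Submodule A (Fin n → A)) := by
  have h1 : ∀ i, a i ∈ maximalIdeal A := fun i => (residue_eq_zero_iff _).1 (congrFun h i)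
  have h2 : a = ∑ i, a i • (Pi.single i (1 : A) : Fin n → A) := by
    funext j
    simp [Finset.sum_apply, Pi.single_apply]
  rw [h2]
  exact sum_mem fun i _ => Submodule.smul_mem_smul (h1 i) trivial

/-- the subspace generated by the reduction of a submodule -/
noncomputable def redSub (W : Submodule A (Fin n → A)) : Subspace (ResidueField A) (Fin n → ResidueField A) where
  carrier := {b | ∃ a ∈ W, red a = b}
  add_mem' := by
    rintro _ _ ⟨a, ha, rfl⟩ ⟨b, hb, rfl⟩
    exact ⟨a + b, W.add_mem ha hb, map_add _ _ _⟩
  zero_mem' := ⟨0, W.zero_mem, map_zero _⟩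
  smul_mem' := by
    rintro c _ ⟨a, ha, rfl⟩
    obtain ⟨r, rfl⟩ := residue_surjective c
    exact ⟨r • a, W.smul_mem r ha, map_smulₛₗ _ _ _⟩

theorem redSub_ne_top {W : Submodule A (Fin n → A)} (hW : W ≠ ⊤) : redSub W ≠ ⊤ := by
  intro h
  apply hW
  rw [eq_top_iff]
  refine Submodule.le_of_le_smul_of_le_jacobson_bot (I := maximalIdeal A) Module.Finite.fg_top
    (IsLocalRing.maximalIdeal_le_jacobson _) fun a _ => ?_
  have h1 : red a ∈ redSub W := by rw [h]; trivial
  obtain ⟨w, hw, hwa⟩ := h1
  have h2 : a - w ∈ maximalIdeal A • (⊤ : Submodule A (Fin n → A)) :=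
    mem_smul_top_of_red_eq_zero (by rw [map_sub, hwa, sub_self])
  have h3 : a = w + (a - w) := by abel
  rw [h3]
  exact add_mem (Submodule.mem_sup_left hw) (Submodule.mem_sup_right h2)

/-- A finite union of proper submodules is not everything. -/
theorem exists_notMem [Infinite (ResidueField A)] {ι : Type*} [Finite ι]
    (W : ι → Submodule A (Fin n → A)) (hW : ∀ i, W i ≠ ⊤) : ∃ a : Fin n → A, ∀ i, a ∉ W i := by
  classical
  have := Fintype.ofFinite ι
  have h := Subspace.biUnion_ne_univ_of_top_notMem
    (s := Finset.univ.image fun i => redSub (W i)) (by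
      intro h
      obtain ⟨i, -, hi⟩ := Finset.mem_image.1 h
      exact redSub_ne_top (hW i) hi)
  rw [Set.ne_univ_iff_exists_notMem] at h
  obtain ⟨b, hb⟩ := h
  obtain ⟨a, rfl⟩ := red_surjective b
  refine ⟨a, fun i hi => hb ?_⟩
  simp only [Set.mem_iUnion]
  exact ⟨redSub (W i), Finset.mem_image_of_mem _ (Finset.mem_univ i), ⟨a, hi, rfl⟩⟩

end Groth.Agent.IntSh.K877.Avoid
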