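import Groth.Agent.IntSh.K877.ChowMap

/-!
Transcendence degree bounds from the Chow form.
-/

set_option autoImplicit false
set_option linter.unusedSectionVars false
universe u
open CategoryTheory CategoryTheory.Limits AlgebraicGeometry

namespace Groth.Agent.IntSh.K877.ChowBound

open ProjPt ChowNorm ChowCoord ChowFld CohB1 IsLocalRing ChowMap
open Groth.Agent.CycB.RelDim Groth.Agent.CycB.TrdegAlg

section enum

variable {σ : Type} {K : Type u} [CommRing K] (F : MvPolynomial σ K)

/-- number of coefficients minus one. -/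
noncomputable def deg : ℕ := F.support.card - 1

theorem deg_add_one (hF : F ≠ 0) : deg F + 1 = F.support.card := by
  have h : 0 < F.support.card := by
    rw [Finset.card_pos, Finset.nonempty_iff_ne_empty]
    exact fun h => hF (MvPolynomial.support_eq_empty.1 h)
  unfold deg
  omega

/-- enumeration of the support. -/
noncomputable def enum (hF : F ≠ 0) : Fin (deg F + 1) ≃ F.support :=
  (finCongr (deg_add_one F hF)).trans F.support.equivFin.symm

/-- the coefficients. -/
noncomputable def coef (hF : F ≠ 0) (m : Fin (deg F + 1)) : K := F.coeff (enum F hF m)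

theorem coef_ne_zero (hF : F ≠ 0) (m : Fin (deg F + 1)) : coef F hF m ≠ 0 :=
  MvPolynomial.mem_support_iff.1 (enum F hF m).2

theorem eq_sum (hF : F ≠ 0) :
    F = ∑ m, MvPolynomial.monomial (enum F hF m : σ →₀ ℕ) (coef F hF m) := by
  conv_lhs => rw [MvPolynomial.as_sum F]
  rw [← Finset.sum_coe_sort F.support (fun v => MvPolynomial.monomial v (F.coeff v)),
    ← (enum F hF).sum_comp]
  rfl

theorem coeff_sum (hF : F ≠ 0) {A : Type*} [CommRing A] (t : Fin (deg F + 1) → A) (m₀ : Fin (deg F + 1)) :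
    (∑ m, MvPolynomial.monomial (enum F hF m : σ →₀ ℕ) (t m)).coeff (enum F hF m₀) = t m₀ := by
  classical
  rw [MvPolynomial.coeff_sum, Finset.sum_eq_single m₀]
  · simp
  · intro m _ hm
    rw [MvPolynomial.coeff_monomial, if_neg]
    intro h
    exact hm ((enum F hF).injective (Subtype.ext h))
  · intro h
    exact absurd (Finset.mem_univ _) h

end enum

variable {Z Y : Scheme.{u}} [IsIntegral Z] [IsIntegral Y]

theorem normalizable {ι ℓ : Type} (F : MvPolynomial (ι × ℓ) Y.functionField) (hF : F ≠ 0) (y : Y)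
    (h : ∃ α, F.coeff α ≠ 0 ∧ ∀ β, ∃ s : Y.presheaf.stalk y, (toFF y).hom s = F.coeff β / F.coeff α) :
    Normalizable (coef F hF) y := by
  obtain ⟨α, hα, h⟩ := h
  have hm : α ∈ F.support := MvPolynomial.mem_support_iff.2 hα
  refine ⟨(enum F hF).symm ⟨α, hm⟩, fun m => ?_⟩
  obtain ⟨s, hs⟩ := h (enum F hF m)
  refine ⟨s, ?_⟩
  rw [hs]
  unfold coef
  rw [Equiv.apply_symm_apply]

/-- **Main bound.** -/
theorem trd_lt {ι : Type} [Fintype ι] [DecidableEq ι] {n : ℕ} (π : Z ⟶ Y)
    (hπ : π (genericPoint Z) = genericPoint Y) (c : Z ⟶ ProjSpace n ZZ.{u}) (D : Coords c)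
    (F : MvPolynomial (ι × Fin (n + 1)) Y.functionField) (hF : F ≠ 0)
    (hF0 : MvPolynomial.eval₂Hom (MvPolynomial.C.comp (ffMap π hπ).hom) (ChowIndep.W D.τ D.j₀) F = 0)
    (x : Z) (m₀ : Fin (deg F + 1)) (s : Fin (deg F + 1) → Y.presheaf.stalk (π x))
    (hs : ∀ m, (toFF (π x)).hom (s m) = coef F hF m / coef F hF m₀)
    {κ : Type u} [Field κ] (σ : κ →+* Y.residueField (π x)) (t : Fin (deg F + 1) → κ)
    (ht : ∀ m, σ (t m) = (Y.residue (π x)).hom (s m))
    (hgen : ∀ (ζ : Fin (n + 1) → Z.residueField x) (j : Fin (n + 1)) (hj : ζ j = 1) (β : ZZ.{u} →+* Z.residueField x),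
      Z.fromSpecResidueField x ≫ c = coordPt β ζ j (by rw [hj]; exact isUnit_one) →
      @IntermediateField.adjoin κ _ (Z.residueField x) _ ((π.residueFieldMap x).hom.comp σ).toAlgebra
        (Set.range ζ) = ⊤) :
    trd ((π.residueFieldMap x).hom.comp σ) < (Fintype.card ι : Cardinal) := by
  classical
  obtain ⟨j, β, s', hs', hc, hτj, hl⟩ := D.exists_local x
  have hs1 : s m₀ = 1 := toFF_injective (π x) (by
    rw [hs, map_one]
    exact div_self (coef_ne_zero F hF m₀))
  -- the normalized form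
  set F₁ : MvPolynomial (ι × Fin (n + 1)) (Y.presheaf.stalk (π x)) :=
    ∑ m, MvPolynomial.monomial (enum F hF m : ι × Fin (n + 1) →₀ ℕ) (s m) with hF₁
  have hμ : MvPolynomial.map (toFF (π x)).hom F₁ = MvPolynomial.C (coef F hF m₀)⁻¹ * F := by
    refine Eq.trans ?_ (congrArg (fun P => MvPolynomial.C (coef F hF m₀)⁻¹ * P) (eq_sum F hF).symm)
    show _ = MvPolynomial.C (coef F hF m₀)⁻¹ * _
    rw [hF₁, map_sum, Finset.mul_sum]
    refine Finset.sum_congr rfl fun m _ => ?_
    rw [MvPolynomial.map_monomial, MvPolynomial.C_mul_monomial, hs, div_eq_inv_mul]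
  have hcomm : (ffMap π hπ).hom.comp (toFF (π x)).hom = (toFF x).hom.comp (π.stalkMap x).hom := by
    have h1 := stMap_toFF π hπ (x := x) rfl
    have h2 : stMap π (rfl : π x = π x) = π.stalkMap x := by
      rw [stMap, TopCat.Presheaf.stalkSpecializes_refl, Category.id_comp]
    rw [h2] at h1
    exact (congrArg CommRingCat.Hom.hom h1).symm
  have h1 := ChowRed.eval_local (toFF (π x)).hom (toFF x).hom (toFF_injective x) (π.stalkMap x).hom
    (ffMap π hπ).hom hcomm D.τ D.j₀ D.hτ F hF0 s' j hs' (D.τ j) (fun l => by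
      rw [hl]
      exact (mul_div_cancel₀ _ hτj).symm) F₁ _ hμ
  -- the reduced form
  let G : MvPolynomial (ι × Fin (n + 1)) κ :=
    ∑ m, MvPolynomial.monomial (enum F hF m : ι × Fin (n + 1) →₀ ℕ) (t m)
  have hG : MvPolynomial.map σ G = MvPolynomial.map (residue (Y.presheaf.stalk (π x))) F₁ := by
    simp only [G, hF₁, map_sum, MvPolynomial.map_monomial]
    exact Finset.sum_congr rfl fun m _ => congrArg _ (ht m)
  have hG0 : G ≠ 0 := by
    intro h
    have h2 := congrArg (fun P => P.coeff (enum F hF m₀ : ι × Fin (n + 1) →₀ ℕ)) h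
    simp only [G, MvPolynomial.coeff_zero] at h2
    rw [coeff_sum] at h2
    have h3 := ht m₀
    rw [h2, hs1, map_zero, map_one] at h3
    exact zero_ne_one h3
  have h2 := ChowRed.eval_residue (π.stalkMap x).hom s' j F₁ h1 σ G hG
  let _ : Algebra κ (Z.residueField x) := ((π.residueFieldMap x).hom.comp σ).toAlgebra
  refine ChowRed.trdeg_lt (κ := κ) (κ' := Z.residueField x) (fun l => residue (Z.presheaf.stalk x) (s' l)) j
    (by rw [hs', map_one]; rfl) G hG0 h2 ?_
  refine hgen _ j (by rw [hs', map_one]; rfl) ((residue (Z.presheaf.stalk x)).comp β) ?_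
  have h3 := coordPt_map (residue (Z.presheaf.stalk x)) β s' j (by rw [hs']; exact isUnit_one)
  refine Eq.trans ?_ h3
  rw [← hc, ← Category.assoc]
  rfl

end Groth.Agent.IntSh.K877.ChowBound
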