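import Groth.Agent.IntSh.K877.ChowNorm
import Mathlib.AlgebraicGeometry.Birational.RationalMap

/-!
Gluing morphisms from local rings of an integral scheme.
-/

set_option autoImplicit false
universe u
open CategoryTheory CategoryTheory.Limits AlgebraicGeometry

namespace Groth.Agent.IntSh.K877.GlueMap

open ChowNorm

variable {S X P : Scheme.{u}} [IsIntegral X]

theorem fromFunctionField_eq (f : X.PartialMap P) {x : X} (hx : x ∈ f.domain) :
    f.fromFunctionField = Spec.map (toFF x) ≫ f.fromSpecStalkOfMem hx := by
  unfold Scheme.PartialMap.fromFunctionField Scheme.PartialMap.fromSpecStalkOfMem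
  rw [← Category.assoc]
  congr 1
  rw [← cancel_mono f.domain.ι, Category.assoc, Scheme.Opens.fromSpecStalkOfMem_ι,
    Scheme.Opens.fromSpecStalkOfMem_ι, Scheme.SpecMap_stalkSpecializes_fromSpecStalk]

/-- A morphism defined on all local rings, agreeing at the generic point, is defined everywhere. -/
theorem exists_glue [P.IsSeparated] (sX : X ⟶ S) (sP : P ⟶ S) [LocallyOfFiniteType sP]
    (g : Spec X.functionField ⟶ P) (hg : g ≫ sP = X.fromSpecStalk _ ≫ sX)
    (h : ∀ x : X, ∃ φ : Spec (X.presheaf.stalk x) ⟶ P,
      φ ≫ sP = X.fromSpecStalk x ≫ sX ∧ Spec.map (toFF x) ≫ φ = g) :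
    ∃ f : X ⟶ P, X.fromSpecStalk (genericPoint X) ≫ f = g := by
  let r : X.RationalMap P := Scheme.RationalMap.ofFunctionField sX sP g hg
  have hr : r.fromFunctionField = g := Scheme.RationalMap.fromFunctionField_ofFunctionField _ _ _ _
  have hdom : r.domain = ⊤ := by
    rw [eq_top_iff]
    rintro x -
    obtain ⟨φ, hφ, hφg⟩ := h x
    rw [Scheme.RationalMap.mem_domain]
    have hm := Scheme.PartialMap.mem_domain_ofFromSpecStalk sX sP φ hφ
    refine ⟨Scheme.PartialMap.ofFromSpecStalk sX sP φ hφ, hm, ?_⟩
    apply Scheme.RationalMap.eq_of_fromFunctionField_eq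
    rw [hr, Scheme.RationalMap.fromFunctionField_toRationalMap, fromFunctionField_eq _ hm,
      Scheme.PartialMap.fromSpecStalkOfMem_ofFromSpecStalk, hφg]
  have hf0 : r.toPartialMap.toRationalMap = r := Scheme.RationalMap.toRationalMap_toPartialMap r
  have hd : r.toPartialMap.domain = ⊤ := hdom
  generalize r.toPartialMap = f0 at hf0 hd
  obtain ⟨U, hU, f⟩ := f0
  obtain rfl : U = ⊤ := hd
  refine ⟨X.topIso.inv ≫ f, ?_⟩
  rw [← hr, ← hf0, Scheme.RationalMap.fromFunctionField_toRationalMap]
  unfold Scheme.PartialMap.fromFunctionField Scheme.PartialMap.fromSpecStalkOfMem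
  rw [← Category.assoc]
  congr 1
  rw [← cancel_mono X.topIso.hom, Category.assoc, Iso.inv_hom_id, Category.comp_id]
  exact (Scheme.Opens.fromSpecStalkOfMem_ι _ _ _).symm

instance isDominant_toFF (x : X) : IsDominant (Spec.map (toFF x)) := by
  constructor
  have h : Function.Injective (toFF x).hom := toFF_injective x
  exact (PrimeSpectrum.denseRange_comap_iff_ker_le_nilRadical _).2 (by
    rw [(RingHom.injective_iff_ker_eq_bot _).1 h]; exact bot_le)

/-- Two morphisms agreeing at the generic point agree. -/
theorem hom_ext_generic [P.IsSeparated] (f g : X ⟶ P)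
    (h : X.fromSpecStalk (genericPoint X) ≫ f = X.fromSpecStalk (genericPoint X) ≫ g) : f = g := by
  have hd : IsDominant (X.fromSpecStalk (genericPoint X)) := by
    constructor
    rw [DenseRange, Scheme.range_fromSpecStalk, dense_iff_closure_eq, Set.eq_univ_iff_forall]
    intro x
    have h1 := (genericPoint_spec X).specializes (Set.mem_univ x)
    rw [specializes_iff_mem_closure] at h1
    exact closure_mono (by rintro _ rfl; exact specializes_rfl) h1
  exact ext_of_isDominant _ h

theorem stalk_hom_ext [P.IsSeparated] {x : X} (f g : Spec (X.presheaf.stalk x) ⟶ P)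
    (h : Spec.map (toFF x) ≫ f = Spec.map (toFF x) ≫ g) : f = g :=
  ext_of_isDominant _ h

end Groth.Agent.IntSh.K877.GlueMap
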