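import Groth.Agent.IntSh.K877.ProjPt
import Groth.Agent.IntSh.K877.GlueMap

/-!
Homogeneous coordinates of a morphism to projective space; generation of residue fields.
-/

set_option autoImplicit false
universe u
open CategoryTheory CategoryTheory.Limits AlgebraicGeometry

namespace Groth.Agent.IntSh.K877.ChowCoord

open ProjPt ChowNorm CohB1 IsLocalRing

section alg

variable {k κ : Type u} [Field k] [Field κ] [Algebra k κ] {ℓ : Type}

theorem isAlgebraic_of_adjoin (ζ : ℓ → κ) (h : IntermediateField.adjoin k (Set.range ζ) = ⊤) :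
    Algebra.IsAlgebraic (Algebra.adjoin k (Set.range ζ)) κ := by
  refine ⟨fun z => ?_⟩
  have hz : z ∈ IntermediateField.adjoin k (Set.range ζ) := by rw [h]; trivial
  obtain ⟨r, hr, s, hs, rfl⟩ := IntermediateField.mem_adjoin_iff_div.1 hz
  by_cases hs0 : s = 0
  · rw [hs0, div_zero]; exact isAlgebraic_zero
  refine ⟨Polynomial.C ⟨s, hs⟩ * Polynomial.X - Polynomial.C ⟨r, hr⟩, ?_, ?_⟩
  · intro h0
    have h1 := congrArg (fun p => p.coeff 1) h0
    simp only [Polynomial.coeff_sub, Polynomial.coeff_C_mul, Polynomial.coeff_X_one, mul_one,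
      Polynomial.coeff_C_succ, sub_zero, Polynomial.coeff_zero] at h1
    exact hs0 (congrArg Subtype.val h1)
  · rw [map_sub, map_mul, Polynomial.aeval_C, Polynomial.aeval_X, Polynomial.aeval_C]
    show s * (r / s) - r = 0
    rw [mul_div_cancel₀ _ hs0, sub_self]

/-- independent coordinates. -/
theorem exists_indep_coords (ζ : ℓ → κ) (h : IntermediateField.adjoin k (Set.range ζ) = ⊤) (m : ℕ)
    (hm : (m : Cardinal) ≤ Algebra.trdeg k κ) : ∃ e : Fin m → ℓ, AlgebraicIndependent k (ζ ∘ e) := by
  have := isAlgebraic_of_adjoin ζ h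
  obtain ⟨t, hts, ht⟩ := exists_isTranscendenceBasis_subset (R := k) (A := κ) (Set.range ζ)
  rw [← ht.cardinalMk_eq_trdeg] at hm
  obtain ⟨g⟩ : Nonempty (Fin m ↪ t) := by
    have h1 : Cardinal.lift.{u} (Cardinal.mk (Fin m)) ≤ Cardinal.lift.{0} (Cardinal.mk t) := by
      simpa using hm
    exact Cardinal.lift_mk_le'.1 h1
  choose f hf using fun a : Fin m => hts (g a).2
  refine ⟨f, ?_⟩
  have h2 : ζ ∘ f = (fun x : t => (x : κ)) ∘ g := by
    funext a
    exact hf a
  rw [h2]
  exact ht.1.comp g g.injective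

end alg

section generation

theorem surjective_of_fac_aux {T : Scheme.{u}} (t t' : T) (htt : t' = t) {E : Type u} [Field E]
    (e : CommRingCat.of E ⟶ T.residueField t) (φ : T.residueField t' ⟶ CommRingCat.of E)
    (heq : Spec.map e ≫ Spec.map φ ≫ T.fromSpecResidueField t' = T.fromSpecResidueField t) :
    Function.Surjective e.hom := by
  subst htt
  rw [← Category.assoc, ← Spec.map_comp] at heq
  have h2 : Spec.map (φ ≫ e) = 𝟙 _ := by
    rw [← cancel_mono (T.fromSpecResidueField t'), heq, Category.id_comp]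
  rw [← Spec.map_id] at h2
  have h3 : φ ≫ e = 𝟙 _ := Spec.map_injective h2
  intro a
  exact ⟨φ.hom a, congrArg (fun f => f.hom a) h3⟩

/-- The residue field is the smallest field of definition of a point. -/
theorem surjective_of_fac {T : Scheme.{u}} (t : T) {E : Type u} [Field E] (e : CommRingCat.of E ⟶ T.residueField t)
    (h : Spec (CommRingCat.of E) ⟶ T) (heq : Spec.map e ≫ h = T.fromSpecResidueField t) :
    Function.Surjective e.hom := by
  have h1 := Scheme.descResidueField_stalkClosedPointTo_fromSpecResidueField E T h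
  have htt : h (closedPoint E) = t := by
    have h2 : ∀ z, (Spec.map e ≫ h) z = T.fromSpecResidueField t z := by rw [heq]; exact fun _ => rfl
    obtain ⟨z0⟩ : Nonempty (Spec (T.residueField t)) := inferInstance
    have h3 := (h2 z0).trans (Scheme.fromSpecResidueField_apply t z0)
    rw [← h3]
    show h (closedPoint E) = h (Spec.map e z0)
    congr 1
    exact Subsingleton.elim (α := PrimeSpectrum E) _ _
  exact surjective_of_fac_aux t _ htt e _ (by rw [h1, heq])

theorem surjective_of_fac' {Z T : Scheme.{u}} (g : Z ⟶ T) (x : Z) (hg : Function.Surjective (g.residueFieldMap x).hom)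
    {E : Type u} [Field E] (e : CommRingCat.of E ⟶ Z.residueField x)
    (h : Spec (CommRingCat.of E) ⟶ T) (heq : Spec.map e ≫ h = Z.fromSpecResidueField x ≫ g) :
    Function.Surjective e.hom := by
  have hbij : Function.Bijective (g.residueFieldMap x).hom := ⟨(g.residueFieldMap x).hom.injective, hg⟩
  have hiso : IsIso (g.residueFieldMap x) := by
    rw [ConcreteCategory.isIso_iff_bijective]
    exact hbij
  have h1 : Spec.map (e ≫ inv (g.residueFieldMap x)) ≫ h = T.fromSpecResidueField (g x) := by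
    rw [Spec.map_comp, Category.assoc, heq, ← Scheme.Hom.SpecMap_residueFieldMap_fromSpecResidueField,
      ← Category.assoc, ← Spec.map_comp, IsIso.hom_inv_id, Spec.map_id, Category.id_comp]
  have h2 := surjective_of_fac (g x) _ h h1
  intro a
  obtain ⟨b, hb⟩ := h2 ((inv (g.residueFieldMap x)).hom a)
  refine ⟨b, ?_⟩
  have h3 : (inv (g.residueFieldMap x)).hom (e.hom b) = (inv (g.residueFieldMap x)).hom a := hb
  have h4 := congrArg (g.residueFieldMap x).hom h3
  have h5 : ∀ c, (g.residueFieldMap x).hom ((inv (g.residueFieldMap x)).hom c) = c := fun c =>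
    congrArg (fun f => f.hom c) (IsIso.inv_hom_id (g.residueFieldMap x))
  rwa [h5, h5] at h4

end generation

section coords

variable {n : ℕ} {R : Type u} [CommRing R] {Z : Scheme.{u}} [IsIntegral Z]

/-- The homogeneous coordinates of a morphism. -/
structure Coords (c : Z ⟶ ProjSpace n R) where
  j₀ : Fin (n + 1)
  β : R →+* Z.functionField
  τ : Fin (n + 1) → Z.functionField
  hτ : τ j₀ = 1
  heq : Z.fromSpecStalk (genericPoint Z) ≫ c = coordPt β τ j₀ (by rw [hτ]; exact isUnit_one)

theorem exists_coords (c : Z ⟶ ProjSpace n R) : Nonempty (Coords c) := by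
  let q : Spec (CommRingCat.of Z.functionField) ⟶ ProjSpace n R := Z.fromSpecStalk (genericPoint Z) ≫ c
  obtain ⟨j, β, s, hs, h⟩ := exists_coordPt q
  exact ⟨⟨j, β, s, hs, h⟩⟩

/-- Local normalization of the coordinates. -/
theorem Coords.exists_local {c : Z ⟶ ProjSpace n R} (D : Coords c) (x : Z) :
    ∃ (j : Fin (n + 1)) (β : R →+* Z.presheaf.stalk x) (s : Fin (n + 1) → Z.presheaf.stalk x) (hs : s j = 1),
      Z.fromSpecStalk x ≫ c = coordPt β s j (by rw [hs]; exact isUnit_one) ∧ D.τ j ≠ 0 ∧
      ∀ l, (toFF x).hom (s l) = D.τ l / D.τ j := by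
  let q : Spec (CommRingCat.of (Z.presheaf.stalk x)) ⟶ ProjSpace n R := Z.fromSpecStalk x ≫ c
  obtain ⟨j, β, s, hs, h⟩ := exists_coordPt q
  refine ⟨j, β, s, hs, h, ?_⟩
  have h1 : Spec.map (toFF x) ≫ Z.fromSpecStalk x ≫ c = Z.fromSpecStalk (genericPoint Z) ≫ c := by
    rw [← Category.assoc, Scheme.SpecMap_stalkSpecializes_fromSpecStalk]
  have h2 : Spec.map (CommRingCat.ofHom (toFF x).hom) ≫ coordPt β s j (by rw [hs]; exact isUnit_one) =
      coordPt D.β D.τ D.j₀ (by rw [D.hτ]; exact isUnit_one) := by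
    rw [← D.heq, ← h1, ← h]
    rfl
  rw [coordPt_map] at h2
  obtain ⟨-, a, ha, h3⟩ := coordPt_eq_imp (Field.toIsField Z.functionField) h2
  have h4 : D.τ j = a := by
    rw [h3, hs, map_one, mul_one]
  have ha0 : a ≠ 0 := ha.ne_zero
  refine ⟨by rw [h4]; exact ha0, fun l => ?_⟩
  rw [h3, h4]
  exact (mul_div_cancel_left₀ _ ha0).symm

theorem Coords.isCoord {c : Z ⟶ ProjSpace n R} (D : Coords c) : IsCoord D.τ := by
  intro x
  obtain ⟨j, β, s, hs, -, h1, h2⟩ := D.exists_local x
  exact ⟨j, h1, fun l => ⟨s l, h2 l⟩⟩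

end coords

end Groth.Agent.IntSh.K877.ChowCoord
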