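import Groth.Agent.CycB.RelDim4
import Groth.Agent.Variety.K432.CurveLift
import Groth.Agent.S3387

/-!
Fibre dimension and transcendence degree.
-/

set_option autoImplicit false
universe u
open CategoryTheory CategoryTheory.Limits AlgebraicGeometry

namespace Groth.Agent.IntSh.K877.ChowDim

open Groth.Agent.CycB.RelDim Groth.Agent.CycB.TrdegAlg Cardinal TopologicalSpace

variable {X Y : Scheme.{u}}

/-- natural number version of `rtd`. -/
noncomputable def nrtd (f : X ⟶ Y) (x : X) : ℕ := (rtd f x).toNat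

theorem cast_nrtd (f : X ⟶ Y) [LocallyOfFiniteType f] (x : X) : (nrtd f x : Cardinal.{u}) = rtd f x :=
  cast_toNat_of_lt_aleph0 (rtd_lt_aleph0 f x)

theorem nrtd_comp (f : X ⟶ Y) {Z : Scheme.{u}} (g : Y ⟶ Z) [LocallyOfFiniteType f] [LocallyOfFiniteType g] (x : X) :
    nrtd (f ≫ g) x = nrtd g (f x) + nrtd f x := by
  have h : ((nrtd (f ≫ g) x : ℕ) : Cardinal.{u}) = ((nrtd g (f x) + nrtd f x : ℕ) : Cardinal.{u}) := by
    rw [cast_nrtd, rtd_comp]
    push_cast
    rw [cast_nrtd, cast_nrtd]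
  exact_mod_cast h

theorem nrtd_of_isPreimmersion (f : X ⟶ Y) [IsPreimmersion f] (x : X) : nrtd f x = 0 := by
  rw [nrtd, rtd_eq_zero_of_isPreimmersion]
  simp

theorem nrtd_lt_of_specializes (f : X ⟶ Y) [LocallyOfFiniteType f] {x x' : X} (h : x' ⤳ x)
    (hne : x' ≠ x) (hf : f x' = f x) : nrtd f x < nrtd f x' := by
  have h1 := rtd_lt_of_specializes f h hne hf
  rw [← cast_nrtd, ← cast_nrtd] at h1
  exact_mod_cast h1

theorem f_fiberι (f : X ⟶ Y) (y : Y) (w : f.fiber y) : f (f.fiberι y w) = y := by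
  have : f.fiberι y w ∈ Set.range (f.fiberι y) := ⟨w, rfl⟩
  rw [Scheme.Hom.range_fiberι] at this
  exact this

/-- points of large transcendence degree. -/
theorem exists_nrtd_ge (f : X ⟶ Y) [LocallyOfFiniteType f] (y : Y) (d : ℕ)
    (h : (d : WithBot ℕ∞) ≤ topologicalKrullDim (f.fiber y)) : ∃ x, f x = y ∧ d ≤ nrtd f x := by
  rw [topologicalKrullDim, Order.le_krullDim_iff] at h
  obtain ⟨l, hl⟩ := h
  let g : IrreducibleCloseds (f.fiber y) → ℕ := fun T => nrtd f (f.fiberι y T.2.genericPoint)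
  have hg : StrictMono g := by
    intro S T hST
    have h1 : T.2.genericPoint ⤳ S.2.genericPoint := by
      rw [specializes_iff_closure_subset, S.2.isGenericPoint_genericPoint_closure.def,
        T.2.isGenericPoint_genericPoint_closure.def, S.3.closure_eq, T.3.closure_eq]
      exact hST.le
    refine nrtd_lt_of_specializes f (h1.map (f.fiberι y).continuous) ?_ (by rw [f_fiberι, f_fiberι])
    intro h2
    have h3 := (f.fiberι y).isEmbedding.injective h2
    apply hST.ne
    apply IrreducibleCloseds.ext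
    have h4 : closure S.carrier = closure T.carrier := by
      rw [← S.2.isGenericPoint_genericPoint_closure.def, ← T.2.isGenericPoint_genericPoint_closure.def, h3]
    rw [S.3.closure_eq, T.3.closure_eq] at h4
    exact h4
  have h1 := (l.map g hg).head_add_length_le_nat
  rw [LTSeries.map_length, hl] at h1
  exact ⟨_, f_fiberι f y _, (Nat.le_add_left _ _).trans h1⟩

theorem nrtd_le_dim (f : X ⟶ Y) [LocallyOfFiniteType f] (x : X) (d : ℕ)
    (h : topologicalKrullDim (f.fiber (f x)) ≤ d) : nrtd f x ≤ d := by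
  obtain ⟨n, hn, hn'⟩ := exists_dim_closure_fiber f (f x) (f.asFiber x)
  rw [Scheme.Hom.fiberι_asFiber] at hn
  have h1 : nrtd f x = n := by rw [nrtd, hn]; simp
  have h2 : topologicalKrullDim (closure {f.asFiber x} : Set (f.fiber (f x))) ≤
      topologicalKrullDim (f.fiber (f x)) := topologicalKrullDim_subspace_le _ _
  rw [hn'] at h2
  rw [h1]
  exact_mod_cast h2.trans h

/-- conversely. -/
theorem dim_le_of_nrtd (f : X ⟶ Y) [LocallyOfFiniteType f] (y : Y) (d : ℕ)
    (h : ∀ x, f x = y → nrtd f x ≤ d) : topologicalKrullDim (f.fiber y) ≤ d := by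
  by_contra hcon
  have h1 : ((d + 1 : ℕ) : WithBot ℕ∞) ≤ topologicalKrullDim (f.fiber y) := by
    rw [S3387.natCast_succ_le_iff]
    exact hcon
  obtain ⟨x, hx, hx'⟩ := exists_nrtd_ge f y (d + 1) h1
  have := h x hx
  omega

theorem le_dim_of_nrtd (f : X ⟶ Y) [LocallyOfFiniteType f] (x : X) :
    (nrtd f x : WithBot ℕ∞) ≤ topologicalKrullDim (f.fiber (f x)) := by
  obtain ⟨n, hn, hn'⟩ := exists_dim_closure_fiber f (f x) (f.asFiber x)
  rw [Scheme.Hom.fiberι_asFiber] at hn
  have h1 : nrtd f x = n := by rw [nrtd, hn]; simp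
  have h2 : topologicalKrullDim (closure {f.asFiber x} : Set (f.fiber (f x))) ≤
      topologicalKrullDim (f.fiber (f x)) := topologicalKrullDim_subspace_le _ _
  rw [hn'] at h2
  rw [h1]
  exact h2

end Groth.Agent.IntSh.K877.ChowDim
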