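import Groth.Agent.IntSh.K877.ChowGenr

/-!
Chow forms with enumerated terms; transport between families.
-/

set_option autoImplicit false
set_option linter.unusedSectionVars false
universe u
open CategoryTheory CategoryTheory.Limits AlgebraicGeometry

namespace Groth.Agent.IntSh.K877.ChowFam

open ProjPt ChowNorm ChowCoord ChowFld CohB1 IsLocalRing ChowMap ChowBound ChowDim ChowGenr
open Groth.Agent.CycB.RelDim Groth.Agent.CycB.TrdegAlg

section terms

variable {σ : Type} {K K' : Type u} [CommRing K] [CommRing K'] {F : MvPolynomial σ K} {M : ℕ}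

/-- An enumeration of the terms of a polynomial. -/
structure Terms (F : MvPolynomial σ K) (M : ℕ) where
  en : Fin (M + 1) → σ →₀ ℕ
  inj : Function.Injective en
  a : Fin (M + 1) → K
  ne : ∀ m, a m ≠ 0
  eq : F = ∑ m, MvPolynomial.monomial (en m) (a m)

/-- The terms of a nonzero polynomial. -/
noncomputable def terms (F : MvPolynomial σ K) (hF : F ≠ 0) : Terms F (deg F) where
  en m := enum F hF m
  inj := fun _ _ h => (enum F hF).injective (Subtype.ext h)
  a := coef F hF
  ne := coef_ne_zero F hF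
  eq := eq_sum F hF

/-- Transport along an injective ring map. -/
noncomputable def Terms.map (E : Terms F M) (f : K →+* K') (hf : Function.Injective f) :
    Terms (MvPolynomial.map f F) M where
  en := E.en
  inj := E.inj
  a m := f (E.a m)
  ne m := fun h => E.ne m (hf (by rw [h, map_zero]))
  eq := by
    conv_lhs => rw [E.eq]
    rw [map_sum]
    exact Finset.sum_congr rfl fun m _ => MvPolynomial.map_monomial _ _ _

theorem coeff_sum' {en : Fin (M + 1) → σ →₀ ℕ} (hen : Function.Injective en) {A : Type*} [CommRing A]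
    (t : Fin (M + 1) → A) (m₀ : Fin (M + 1)) :
    (∑ m, MvPolynomial.monomial (en m) (t m)).coeff (en m₀) = t m₀ := by
  classical
  rw [MvPolynomial.coeff_sum, Finset.sum_eq_single m₀]
  · simp
  · intro m _ hm
    rw [MvPolynomial.coeff_monomial, if_neg]
    intro h
    exact hm (hen h)
  · intro h
    exact absurd (Finset.mem_univ _) h

theorem Terms.coeff_en (E : Terms F M) (m : Fin (M + 1)) : F.coeff (E.en m) = E.a m :=
  (congrArg (MvPolynomial.coeff (E.en m)) E.eq).trans (coeff_sum' E.inj E.a m)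

theorem Terms.exists_en (E : Terms F M) (α : σ →₀ ℕ) (h : F.coeff α ≠ 0) : ∃ m, E.en m = α := by
  classical
  by_contra hcon
  apply h
  rw [E.eq, MvPolynomial.coeff_sum]
  refine Finset.sum_eq_zero fun m _ => ?_
  rw [MvPolynomial.coeff_monomial, if_neg]
  exact fun h' => hcon ⟨m, h'⟩

end terms

variable {Z Y : Scheme.{u}} [IsIntegral Z] [IsIntegral Y]

theorem normalizable' {σ : Type} {M : ℕ} {F : MvPolynomial σ Y.functionField} (E : Terms F M) (y : Y)
    (h : ∃ α, F.coeff α ≠ 0 ∧ ∀ β, ∃ s : Y.presheaf.stalk y, (toFF y).hom s = F.coeff β / F.coeff α) :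
    Normalizable E.a y := by
  obtain ⟨α, hα, h⟩ := h
  obtain ⟨m₀, rfl⟩ := E.exists_en α hα
  refine ⟨m₀, fun m => ?_⟩
  obtain ⟨s, hs⟩ := h (E.en m)
  exact ⟨s, by rw [hs, E.coeff_en, E.coeff_en]⟩

/-- **Main bound.** -/
theorem trd_lt' {ι : Type} [Fintype ι] [DecidableEq ι] {n M : ℕ} (π : Z ⟶ Y)
    (hπ : π (genericPoint Z) = genericPoint Y) (c : Z ⟶ ProjSpace n ZZ.{u}) (D : Coords c)
    (F : MvPolynomial (ι × Fin (n + 1)) Y.functionField) (E : Terms F M)
    (hF0 : MvPolynomial.eval₂Hom (MvPolynomial.C.comp (ffMap π hπ).hom) (ChowIndep.W D.τ D.j₀) F = 0)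
    (x : Z) (m₀ : Fin (M + 1)) (s : Fin (M + 1) → Y.presheaf.stalk (π x))
    (hs : ∀ m, (toFF (π x)).hom (s m) = E.a m / E.a m₀)
    {κ : Type u} [Field κ] (σ : κ →+* Y.residueField (π x)) (t : Fin (M + 1) → κ)
    (ht : ∀ m, σ (t m) = (Y.residue (π x)).hom (s m))
    (hgen : ∀ (ζ : Fin (n + 1) → Z.residueField x) (j : Fin (n + 1)) (hj : ζ j = 1) (β : ZZ.{u} →+* Z.residueField x),
      Z.fromSpecResidueField x ≫ c = coordPt β ζ j (by rw [hj]; exact isUnit_one) →
      @IntermediateField.adjoin κ _ (Z.residueField x) _ ((π.residueFieldMap x).hom.comp σ).toAlgebra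
        (Set.range ζ) = ⊤) :
    trd ((π.residueFieldMap x).hom.comp σ) < (Fintype.card ι : Cardinal) := by
  classical
  obtain ⟨j, β, s', hs', hc, hτj, hl⟩ := D.exists_local x
  have hs1 : s m₀ = 1 := toFF_injective (π x) (by
    rw [hs, map_one]
    exact div_self (E.ne m₀))
  -- the normalized form
  set F₁ : MvPolynomial (ι × Fin (n + 1)) (Y.presheaf.stalk (π x)) :=
    ∑ m, MvPolynomial.monomial (E.en m) (s m) with hF₁
  have hμ : MvPolynomial.map (toFF (π x)).hom F₁ = MvPolynomial.C (E.a m₀)⁻¹ * F := by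
    refine Eq.trans ?_ (congrArg (fun P => MvPolynomial.C (E.a m₀)⁻¹ * P) E.eq.symm)
    show _ = MvPolynomial.C (E.a m₀)⁻¹ * _
    rw [hF₁, map_sum, Finset.mul_sum]
    refine Finset.sum_congr rfl fun m _ => ?_
    rw [MvPolynomial.map_monomial, MvPolynomial.C_mul_monomial, hs, div_eq_inv_mul]
  have hcomm : (ffMap π hπ).hom.comp (toFF (π x)).hom = (toFF x).hom.comp (π.stalkMap x).hom := by
    have h1 := stMap_toFF π hπ (x := x) rfl
    have h2 : stMap π (rfl : π x = π x) = π.stalkMap x := by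
      rw [stMap, TopCat.Presheaf.stalkSpecializes_refl, Category.id_comp]
    rw [h2] at h1
    exact (congrArg CommRingCat.Hom.hom h1).symm
  have h1 := ChowRed.eval_local (toFF (π x)).hom (toFF x).hom (toFF_injective x) (π.stalkMap x).hom
    (ffMap π hπ).hom hcomm D.τ D.j₀ D.hτ F hF0 s' j hs' (D.τ j) (fun l => by
      rw [hl]
      exact (mul_div_cancel₀ _ hτj).symm) F₁ _ hμ
  -- the reduced form
  let G : MvPolynomial (ι × Fin (n + 1)) κ :=
    ∑ m, MvPolynomial.monomial (E.en m) (t m)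
  have hG : MvPolynomial.map σ G = MvPolynomial.map (residue (Y.presheaf.stalk (π x))) F₁ := by
    simp only [G, hF₁, map_sum, MvPolynomial.map_monomial]
    exact Finset.sum_congr rfl fun m _ => congrArg _ (ht m)
  have hG0 : G ≠ 0 := by
    intro h
    have h2 := congrArg (fun P => P.coeff (E.en m₀)) h
    simp only [G, MvPolynomial.coeff_zero] at h2
    rw [coeff_sum' E.inj] at h2
    have h3 := ht m₀
    rw [h2, hs1, map_zero, map_one] at h3
    exact zero_ne_one h3
  have h2 := ChowRed.eval_residue (π.stalkMap x).hom s' j F₁ h1 σ G hG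
  let _ : Algebra κ (Z.residueField x) := ((π.residueFieldMap x).hom.comp σ).toAlgebra
  refine ChowRed.trdeg_lt (κ := κ) (κ' := Z.residueField x) (fun l => residue (Z.presheaf.stalk x) (s' l)) j
    (by rw [hs', map_one]; rfl) G hG0 h2 ?_
  refine hgen _ j (by rw [hs', map_one]; rfl) ((residue (Z.presheaf.stalk x)).comp β) ?_
  have h3 := coordPt_map (residue (Z.presheaf.stalk x)) β s' j (by rw [hs']; exact isUnit_one)
  refine Eq.trans ?_ h3
  rw [← hc, ← Category.assoc]
  rfl

section transport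

variable {ι ℓ : Type} [Fintype ι] [DecidableEq ι] [Fintype ℓ] [DecidableEq ℓ]

theorem map_W {L L' : Type u} [CommRing L] [CommRing L'] (ψ : L →+* L') (τ : ℓ → L) (j₀ : ℓ) (p : ι × ℓ) :
    MvPolynomial.map ψ (ChowIndep.W τ j₀ p) = ChowIndep.W (ψ ∘ τ) j₀ p := by
  unfold ChowIndep.W
  split_ifs with h
  · simp [map_sum]
  · simp

theorem eval_comp {K L L' : Type u} [CommRing K] [CommRing L] [CommRing L'] (θ : K →+* L) (ψ : L →+* L')
    (τ : ℓ → L) (j₀ : ℓ) (P : MvPolynomial (ι × ℓ) K) :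
    MvPolynomial.eval₂Hom (MvPolynomial.C.comp (ψ.comp θ)) (ChowIndep.W (ψ ∘ τ) j₀) P =
      MvPolynomial.map ψ (MvPolynomial.eval₂Hom (MvPolynomial.C.comp θ) (ChowIndep.W τ j₀) P) := by
  rw [← RingHom.comp_apply (MvPolynomial.map ψ)]
  congr 1
  refine MvPolynomial.ringHom_ext (fun r => ?_) fun p => ?_
  · simp
  · rw [MvPolynomial.eval₂Hom_X', RingHom.comp_apply, MvPolynomial.eval₂Hom_X', map_W]

theorem eval_comp_eq_zero {K L L' : Type u} [CommRing K] [CommRing L] [CommRing L'] (θ : K →+* L) (ψ : L →+* L')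
    (hψ : Function.Injective ψ) (τ : ℓ → L) (j₀ : ℓ) (P : MvPolynomial (ι × ℓ) K) :
    MvPolynomial.eval₂Hom (MvPolynomial.C.comp (ψ.comp θ)) (ChowIndep.W (ψ ∘ τ) j₀) P = 0 ↔
      MvPolynomial.eval₂Hom (MvPolynomial.C.comp θ) (ChowIndep.W τ j₀) P = 0 := by
  rw [eval_comp, map_eq_zero_iff _ (MvPolynomial.map_injective ψ hψ)]

theorem isForm_comp {K L L' : Type u} [CommRing K] [CommRing L] [CommRing L'] (θ : K →+* L) (ψ : L →+* L')
    (hψ : Function.Injective ψ) (τ : ℓ → L) (j₀ : ℓ) (F : MvPolynomial (ι × ℓ) K) :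
    IsForm (ψ.comp θ) (ψ ∘ τ) j₀ F ↔ IsForm θ τ j₀ F := by
  unfold IsForm
  simp only [eval_comp_eq_zero θ ψ hψ]

theorem isForm_map {K K' L : Type u} [CommRing K] [CommRing K'] [CommRing L] (θ : K →+* L) (e : K' ≃+* K)
    (τ : ℓ → L) (j₀ : ℓ) (F : MvPolynomial (ι × ℓ) K') :
    IsForm θ τ j₀ (MvPolynomial.map (e : K' →+* K) F) ↔ IsForm (θ.comp (e : K' →+* K)) τ j₀ F := by
  have h1 : ∀ P : MvPolynomial (ι × ℓ) K',
      MvPolynomial.eval₂Hom (MvPolynomial.C.comp (θ.comp (e : K' →+* K))) (ChowIndep.W τ j₀) P =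
      MvPolynomial.eval₂Hom (MvPolynomial.C.comp θ) (ChowIndep.W τ j₀) (MvPolynomial.map (e : K' →+* K) P) := by
    intro P
    rw [← RingHom.comp_apply]
    congr 1
    refine MvPolynomial.ringHom_ext (fun r => ?_) fun p => ?_
    · simp
    · simp
  let e' := MvPolynomial.mapEquiv (ι × ℓ) e
  have he' : ∀ P, MvPolynomial.map (e : K' →+* K) P = e' P := fun P => rfl
  unfold IsForm
  simp only [h1, he']
  constructor
  · rintro ⟨h2, h3⟩
    refine ⟨fun h => h2 (by rw [h, map_zero]), fun P => ?_⟩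
    rw [h3 (e' P)]
    exact map_dvd_iff e'
  · rintro ⟨h2, h3⟩
    refine ⟨fun h => h2 ((map_eq_zero_iff e' e'.injective).1 h), fun P => ?_⟩
    have h4 := h3 (e'.symm P)
    rw [RingEquiv.apply_symm_apply] at h4
    rw [h4]
    have h5 := map_dvd_iff e' (a := F) (b := e'.symm P)
    rw [RingEquiv.apply_symm_apply] at h5
    exact h5.symm

end transport

section ff

variable {X W : Scheme.{u}} [IsIntegral X] [IsIntegral W]

theorem ffMap_comp (f : Z ⟶ Y) (hf : f (genericPoint Z) = genericPoint Y) (g : Y ⟶ X)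
    (hg : g (genericPoint Y) = genericPoint X) :
    ffMap (f ≫ g) (by rw [Scheme.Hom.comp_apply, hf, hg]) = ffMap g hg ≫ ffMap f hf := by
  unfold ffMap stMap
  rw [Scheme.Hom.stalkMap_comp, Category.assoc, ← Scheme.Hom.stalkSpecializes_stalkMap_assoc,
    ← Category.assoc, ← Category.assoc, TopCat.Presheaf.stalkSpecializes_comp]
  rfl

theorem ffMap_injective (f : Z ⟶ Y) (hf : f (genericPoint Z) = genericPoint Y) :
    Function.Injective (ffMap f hf).hom := by
  have : Function.Injective (α := Y.functionField) (ffMap f hf).hom := RingHom.injective _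
  exact this

theorem ffMap_bijective (f : Z ⟶ Y) (hf : f (genericPoint Z) = genericPoint Y) [IsOpenImmersion f] :
    Function.Bijective (ffMap f hf).hom := by
  have : IsIso (ffMap f hf) := by
    unfold ffMap stMap
    have h1 : IsIso (Y.presheaf.stalkSpecializes (specializes_of_eq hf)) := by
      have := (Y.presheaf.stalkCongr (.of_eq hf)).isIso_inv
      exact this
    infer_instance
  exact ConcreteCategory.bijective_of_isIso _

theorem fromSpecStalk_ffMap (f : Z ⟶ Y) (hf : f (genericPoint Z) = genericPoint Y) :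
    Spec.map (ffMap f hf) ≫ Y.fromSpecStalk (genericPoint Y) = Z.fromSpecStalk (genericPoint Z) ≫ f := by
  unfold ffMap stMap
  rw [Spec.map_comp, Category.assoc, Scheme.SpecMap_stalkSpecializes_fromSpecStalk,
    Scheme.SpecMap_stalkMap_fromSpecStalk]

end ff

end Groth.Agent.IntSh.K877.ChowFam
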