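import Groth.Agent.IntSh.K877.Pts
import Groth.Agent.Divis.CartierStalk
import Groth.Agent.Divis.EffCartier
import Groth.Agent.Ega4fib.H113.DimFibre
import Mathlib.AlgebraicGeometry.Fiber

/-!
# Effective Cartier divisors through the fibre over a point of codimension one
-/

set_option autoImplicit false
universe u
open CategoryTheory CategoryTheory.Limits AlgebraicGeometry TopologicalSpace

namespace Groth.Agent.IntSh.K877.EffFibre

open Groth.Agent.Divis.CartierBasic Groth.Agent.Divis.EffCartier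

theorem mem_support_mul {X : Scheme.{u}} (I J : X.IdealSheafData) (x : X) :
    x ∈ (I * J).support ↔ x ∈ I.support ∨ x ∈ J.support := by
  rw [mem_support_iff_stalkIdeal_ne_top, mem_support_iff_stalkIdeal_ne_top, mem_support_iff_stalkIdeal_ne_top,
    stalkIdeal_mul]
  constructor
  · intro h
    by_contra hcon
    push Not at hcon
    rw [hcon.1, hcon.2] at h
    exact h (by simp)
  · rintro (h | h) h'
    · exact h (top_le_iff.1 (h'.symm.le.trans Ideal.mul_le_left))
    · exact h (top_le_iff.1 (h'.symm.le.trans Ideal.mul_le_right))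

theorem exists_product {X : Scheme.{u}} (S : Set X) (hS : S.Finite)
    (h : ∀ ξ ∈ S, ∃ I : X.IdealSheafData, BlowUp.IsEffCartierIdeal I ∧ (I.support : Set X) = closure {ξ}) :
    ∃ I : X.IdealSheafData, BlowUp.IsEffCartierIdeal I ∧ ∀ x, x ∈ I.support ↔ ∃ ξ ∈ S, ξ ⤳ x := by
  induction S, hS using Set.Finite.induction_on with
  | empty =>
    refine ⟨⊤, isEff_top, fun x => ?_⟩
    rw [mem_support_iff_stalkIdeal_ne_top, stalkIdeal_top]
    simp
  | @insert a S _ _ IH =>
    obtain ⟨I, hI, hIs⟩ := IH fun ξ hξ => h ξ (Set.mem_insert_of_mem _ hξ)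
    obtain ⟨J, hJ, hJs⟩ := h a (Set.mem_insert _ _)
    refine ⟨J * I, isEff_mul hJ hI, fun x => ?_⟩
    rw [mem_support_mul, hIs]
    have h1 : x ∈ J.support ↔ a ⤳ x := by
      rw [specializes_iff_mem_closure, ← hJs]
      rfl
    rw [h1]
    simp

/-- The generic points of a fibre. -/
theorem exists_minimal {X Y : Scheme.{u}} (π : X ⟶ Y) [LocallyOfFiniteType π] [QuasiCompact π] (η : Y) :
    ∃ S : Set X, S.Finite ∧ (∀ ξ ∈ S, π ξ = η ∧ ∀ z, z ⤳ ξ → π z = η → z = ξ) ∧
      ∀ z, π z = η → ∃ ξ ∈ S, ξ ⤳ z := by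
  let F := π.fiber η
  have : LocallyOfFiniteType (π.fiberToSpecResidueField η) :=
    inferInstanceAs (LocallyOfFiniteType (pullback.snd π (Y.fromSpecResidueField η)))
  have : QuasiCompact (π.fiberToSpecResidueField η) :=
    inferInstanceAs (QuasiCompact (pullback.snd π (Y.fromSpecResidueField η)))
  have : IsLocallyNoetherian F := LocallyOfFiniteType.isLocallyNoetherian (π.fiberToSpecResidueField η)
  have : CompactSpace F := QuasiCompact.compactSpace_of_compactSpace (π.fiberToSpecResidueField η)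
  have : IsNoetherian F := {}
  have hfin := Pts.finite_dim_zero (X := F)
  have hmap : ∀ w : F, π (π.fiberι η w) = η := fun w => by
    have : π.fiberι η w ∈ Set.range (π.fiberι η) := ⟨w, rfl⟩
    rwa [Scheme.Hom.range_fiberι] at this
  have hlift : ∀ z, π z = η → ∃ w : F, π.fiberι η w = z := fun z hz => by
    have : z ∈ Set.range (π.fiberι η) := by rw [Scheme.Hom.range_fiberι]; exact hz
    exact this
  have hemb : Topology.IsEmbedding (π.fiberι η) := (π.fiberι η).isEmbedding
  refine ⟨π.fiberι η '' {x : F | ringKrullDim (F.presheaf.stalk x) = 0}, hfin.image _, ?_, ?_⟩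
  · rintro _ ⟨w, hw, rfl⟩
    refine ⟨hmap w, fun z hz hzη => ?_⟩
    obtain ⟨z', rfl⟩ := hlift z hzη
    rw [(Pts.dim_eq_zero_iff w).1 hw z' (hemb.isInducing.specializes_iff.1 hz)]
  · intro z hz
    obtain ⟨w, rfl⟩ := hlift z hz
    obtain ⟨Z, hZ, hwZ⟩ := exists_mem_irreducibleComponents_subset_of_isIrreducible {w} isIrreducible_singleton
    have hZc : IsClosed Z := isClosed_of_mem_irreducibleComponents Z hZ
    obtain ⟨ζ, hζ⟩ := QuasiSober.sober hZ.1 hZc
    have hζw : ζ ⤳ w := by
      rw [specializes_iff_mem_closure, hζ.def]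
      exact hwZ rfl
    refine ⟨_, ⟨ζ, ?_, rfl⟩, hζw.map (π.fiberι η).continuous⟩
    change ringKrullDim (F.presheaf.stalk ζ) = 0
    rw [Pts.dim_eq_zero_iff]
    intro y hy
    have h1 : Z ⊆ closure {y} := by
      rw [← hζ.def]
      exact closure_minimal (Set.singleton_subset_iff.2 (specializes_iff_mem_closure.1 hy)) isClosed_closure
    have h2 : closure {y} ⊆ Z := hZ.2 isIrreducible_singleton.closure h1
    have h3 : y ∈ closure {ζ} := by
      rw [hζ.def]; exact h2 (subset_closure rfl)
    exact (hy.antisymm (specializes_iff_mem_closure.2 h3)).eq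

theorem map_genericPoint {X Y : Scheme.{u}} [IsIntegral X] [IsIntegral Y] (π : X ⟶ Y) [Surjective π] :
    π (genericPoint X) = genericPoint Y := by
  obtain ⟨x, hx⟩ := π.surjective (genericPoint Y)
  have h1 : π (genericPoint X) ⤳ π x := (genericPoint_specializes x).map π.continuous
  rw [hx] at h1
  exact (h1.antisymm (genericPoint_specializes _)).eq

theorem dim_eq_one {X Y : Scheme.{u}} [IsLocallyNoetherian X] [IsLocallyNoetherian Y] [IsIntegral X] [IsIntegral Y]
    (π : X ⟶ Y) (hdom : π (genericPoint X) = genericPoint Y) (ξ : X)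
    (hdim : ringKrullDim (Y.presheaf.stalk (π ξ)) = 1) (hmin : ∀ z, z ⤳ ξ → π z = π ξ → z = ξ) :
    ringKrullDim (X.presheaf.stalk ξ) = 1 := by
  apply le_antisymm
  · have h1 := Ega4fib.H113.DimFibre.coheight_le_add_fiber π ξ
    have h2 : ringKrullDim ((π.fiber (π ξ)).presheaf.stalk (π.asFiber ξ)) = 0 := by
      rw [Pts.dim_eq_zero_iff]
      intro y hy
      have h3 : π.fiberι (π ξ) y ⤳ ξ := by
        have := hy.map (π.fiberι (π ξ)).continuous
        rwa [Scheme.Hom.fiberι_asFiber] at this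
      have h4 : π (π.fiberι (π ξ) y) = π ξ := by
        have : π.fiberι (π ξ) y ∈ Set.range (π.fiberι (π ξ)) := ⟨y, rfl⟩
        rwa [Scheme.Hom.range_fiberι] at this
      have h5 := hmin _ h3 h4
      have h6 : π.fiberι (π ξ) (π.asFiber ξ) = ξ := Scheme.Hom.fiberι_asFiber π ξ
      exact (π.fiberι (π ξ)).isEmbedding.injective (h5.trans h6.symm)
    rw [ringKrullDim_stalk_eq_coheight] at h2 hdim ⊢
    have h3 : Order.coheight (π.asFiber ξ) = 0 := by exact_mod_cast h2
    rw [h3, add_zero] at h1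
    rw [← hdim]
    exact_mod_cast h1
  · rw [Pts.one_le_dim_iff]
    intro h0
    rw [Pts.dim_eq_zero_iff] at h0
    have h1 : genericPoint X = ξ := h0 _ (genericPoint_specializes ξ)
    have h2 : ringKrullDim (Y.presheaf.stalk (π ξ)) = 0 := by
      rw [Pts.dim_eq_zero_iff]
      intro y hy
      have h3 : π ξ = genericPoint Y := by rw [← h1, hdom]
      rw [h3] at hy ⊢
      exact (hy.antisymm (genericPoint_specializes y)).eq
    rw [h2] at hdim
    exact absurd hdim (by norm_num)

/-- If the closures of the points of codimension one of `X` are supports of effective Cartier divisors, there is an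
effective Cartier divisor supported on the closure of the fibre over a point of codimension one. -/
theorem exists_effCartier {X Y : Scheme.{u}} [IsLocallyNoetherian X] [IsLocallyNoetherian Y] [IsIntegral X]
    [IsIntegral Y] (π : X ⟶ Y) [LocallyOfFiniteType π] [QuasiCompact π] [Surjective π]
    (hX : ∀ ξ : X, ringKrullDim (X.presheaf.stalk ξ) = 1 →
      ∃ I : X.IdealSheafData, BlowUp.IsEffCartierIdeal I ∧ (I.support : Set X) = closure {ξ})
    (η : Y) (hη : ringKrullDim (Y.presheaf.stalk η) = 1) :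
    ∃ E : X.IdealSheafData, BlowUp.IsEffCartierIdeal E ∧ (∀ x, π x = η → x ∈ E.support) ∧
      ∀ x ∈ E.support, η ⤳ π x := by
  obtain ⟨S, hS, hS1, hS2⟩ := exists_minimal π η
  obtain ⟨E, hE, hEs⟩ := exists_product S hS fun ξ hξ => hX ξ (by
    obtain ⟨rfl, h2⟩ := hS1 ξ hξ
    exact dim_eq_one π (map_genericPoint π) ξ hη h2)
  refine ⟨E, hE, fun x hx => (hEs x).2 (hS2 x hx), fun x hx => ?_⟩
  obtain ⟨ξ, hξ, hξx⟩ := (hEs x).1 hx
  have := hξx.map π.continuous
  rwa [(hS1 ξ hξ).1] at this

end Groth.Agent.IntSh.K877.EffFibre
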