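import Groth.Agent.IntSh.K877.ChowGenr
import Groth.Agent.IntSh.K877.EffFibre

/-!
Projectivity of the base of an equidimensional family.
-/

set_option autoImplicit false
universe u
open CategoryTheory CategoryTheory.Limits AlgebraicGeometry

namespace Groth.Agent.IntSh.K877.ChowFin

open ProjPt ChowNorm ChowCoord ChowFld CohB1 IsLocalRing ChowMap ChowBound ChowDim ChowGenr
open Groth.Agent.CycB.RelDim Groth.Agent.CycB.TrdegAlg K432.CurveLift

theorem locallyQuasiFinite_of_nrtd {Y T : Scheme.{u}} (Φ : Y ⟶ T) [LocallyOfFiniteType Φ] [QuasiCompact Φ]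
    (h : ∀ y, nrtd Φ y = 0) : LocallyQuasiFinite Φ := by
  apply LocallyQuasiFinite.of_finite_preimage_singleton
  intro t
  obtain ⟨S, hS, hS1, hS2⟩ := EffFibre.exists_minimal Φ t
  refine hS.subset ?_
  intro z hz
  have hz' : Φ z = t := hz
  obtain ⟨ξ, hξ, hξz⟩ := hS2 z hz'
  by_cases hne : ξ = z
  · exact hne ▸ hξ
  · have := nrtd_lt_of_specializes Φ hξz hne ((hS1 ξ hξ).1.trans hz'.symm)
    rw [h ξ] at this
    omega

end Groth.Agent.IntSh.K877.ChowFin
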