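import Groth.Agent.IntSh.K877.ChowRed

/-!
The Chow form for extensions of fields given as commutative rings.
-/

set_option autoImplicit false
universe u

namespace Groth.Agent.IntSh.K877.ChowFld

open MvPolynomial ChowIndep

variable {ι ℓ : Type} [Fintype ι] [DecidableEq ι] [Fintype ℓ] [DecidableEq ℓ]

/-- The coordinates `τ` contain `m` independent elements over `K`. -/
def Indep {K L : Type u} [CommRing K] [CommRing L] (θ : K →+* L) (τ : ℓ → L) (m : ℕ) : Prop :=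
  ∃ e : Fin m → ℓ, Function.Injective (eval₂Hom θ (τ ∘ e))

/-- `F` generates the kernel. -/
def IsForm {K L : Type u} [CommRing K] [CommRing L] (θ : K →+* L) (τ : ℓ → L) (j₀ : ℓ)
    (F : MvPolynomial (ι × ℓ) K) : Prop :=
  F ≠ 0 ∧ ∀ P, eval₂Hom (C.comp θ) (W τ j₀) P = 0 ↔ F ∣ P

theorem exists_form {K L : Type u} [Field K] [Field L] (θ : K →+* L) (τ : ℓ → L) (j₀ : ℓ) (h0 : τ j₀ = 1)
    (m : ℕ) (hm : Fintype.card ι = m + 1) (hind : Indep θ τ m)
    (hne : ∃ P : MvPolynomial (ι × ℓ) K, P ≠ 0 ∧ eval₂Hom (C.comp θ) (W τ j₀) P = 0) :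
    ∃ F : MvPolynomial (ι × ℓ) K, IsForm θ τ j₀ F := by
  let _ : Algebra K L := θ.toAlgebra
  obtain ⟨e, he⟩ := hind
  exact ChowForm.exists_generator τ j₀ h0 m hm e he hne

set_option backward.isDefEq.respectTransparency false in
theorem exists_form' {K L : Type u} [CommRing K] [CommRing L] (hK : IsField K) (hL : IsField L) (θ : K →+* L)
    (τ : ℓ → L) (j₀ : ℓ) (h0 : τ j₀ = 1)
    (m : ℕ) (hm : Fintype.card ι = m + 1) (hind : Indep θ τ m)
    (hne : ∃ P : MvPolynomial (ι × ℓ) K, P ≠ 0 ∧ eval₂Hom (C.comp θ) (W τ j₀) P = 0) :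
    ∃ F : MvPolynomial (ι × ℓ) K, IsForm θ τ j₀ F :=
  @exists_form ι ℓ _ _ _ _ K L hK.toField hL.toField θ τ j₀ h0 m hm hind hne

end Groth.Agent.IntSh.K877.ChowFld
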