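import Mathlib

/-!
Gauss lemma for normal local domains.
-/

set_option autoImplicit false

namespace Groth.Agent.IntSh.K877.ChowGauss

open MvPolynomial

variable {K : Type*} [Field K] {σ : Type*}

/-- rescaling a polynomial to have coefficients in a valuation ring, one of which is a unit. -/
theorem exists_normalize (V : ValuationSubring K) (F : MvPolynomial σ K) (hF : F ≠ 0) :
    ∃ (α : σ →₀ ℕ) (F' : MvPolynomial σ V), F.coeff α ≠ 0 ∧
      F = C (F.coeff α) * map V.subtype F' ∧ F'.coeff α = 1 := by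
  classical
  have hne : F.support.Nonempty := by
    rw [Finset.nonempty_iff_ne_empty]
    exact fun h => hF (support_eq_empty.1 h)
  obtain ⟨α, hα, hmax⟩ := Finset.exists_max_image F.support (fun β => V.valuation (F.coeff β)) hne
  have hα0 : F.coeff α ≠ 0 := mem_support_iff.1 hα
  have hmem : ∀ β, F.coeff β / F.coeff α ∈ V := by
    intro β
    by_cases hβ : F.coeff β = 0
    · rw [hβ, zero_div]; exact V.zero_mem
    rw [← V.valuation_le_one_iff, map_div₀]
    exact div_le_one_of_le₀ (hmax β (mem_support_iff.2 hβ)) zero_le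
  have hr : (C (F.coeff α)⁻¹ * F) ∈ Set.range (MvPolynomial.map (σ := σ) V.subtype) := by
    rw [mem_range_map_iff_coeffs_subset]
    intro c hc
    obtain ⟨β, hβ, rfl⟩ := mem_coeffs_iff.1 hc
    rw [coeff_C_mul]
    refine ⟨⟨_, hmem β⟩, ?_⟩
    show F.coeff β / F.coeff α = _
    rw [div_eq_inv_mul]
  obtain ⟨F', hF'⟩ := hr
  refine ⟨α, F', hα0, ?_, ?_⟩
  · rw [hF', ← mul_assoc, ← C_mul, mul_inv_cancel₀ hα0, C_1, one_mul]
  · apply Subtype.ext
    have : V.subtype (F'.coeff α) = coeff α (map V.subtype F') := (coeff_map _ _ _).symm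
    show V.subtype (F'.coeff α) = _
    rw [this, hF', coeff_C_mul, inv_mul_cancel₀ hα0]
    rfl

theorem mul_mem (V : ValuationSubring K) (F H : MvPolynomial σ K)
    (hV : ∀ γ, (F * H).coeff γ ∈ V) (α β : σ →₀ ℕ) : F.coeff α * H.coeff β ∈ V := by
  by_cases hF : F = 0
  · subst hF; simp [V.zero_mem]
  by_cases hH : H = 0
  · subst hH; simp [V.zero_mem]
  obtain ⟨α', F', hα', hF', hF1⟩ := exists_normalize V F hF
  obtain ⟨β', H', hβ', hH', hH1⟩ := exists_normalize V H hH
  -- the product of the reductions is nonzero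
  have hred : MvPolynomial.map (IsLocalRing.residue V) (F' * H') ≠ 0 := by
    rw [map_mul]
    refine mul_ne_zero ?_ ?_
    · intro h
      have := congrArg (coeff α') h
      rw [coeff_map, hF1, map_one, coeff_zero] at this
      exact one_ne_zero this
    · intro h
      have := congrArg (coeff β') h
      rw [coeff_map, hH1, map_one, coeff_zero] at this
      exact one_ne_zero this
  obtain ⟨γ, hγ⟩ := (ne_zero_iff).1 hred
  rw [coeff_map] at hγ
  have hunit : IsUnit ((F' * H').coeff γ) := by
    by_contra h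
    exact hγ ((IsLocalRing.residue_eq_zero_iff _).2 ((IsLocalRing.mem_maximalIdeal _).2 h))
  have hprod : F * H = C (F.coeff α' * H.coeff β') * map V.subtype (F' * H') := by
    conv_lhs => rw [hF', hH']
    simp only [map_mul]; ring
  have h1 : F.coeff α' * H.coeff β' ∈ V := by
    have h2 := hV γ
    rw [hprod, coeff_C_mul, coeff_map] at h2
    obtain ⟨v, hv⟩ := hunit
    have h3 : F.coeff α' * H.coeff β' = (F.coeff α' * H.coeff β' * V.subtype ((F' * H').coeff γ)) *
        V.subtype (↑v⁻¹ : V) := by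
      rw [← hv, mul_assoc, ← map_mul, Units.mul_inv, map_one, mul_one]
    rw [h3]
    exact V.mul_mem _ _ h2 (Subtype.mem _)
  have h4 : F.coeff α * H.coeff β =
      (F.coeff α' * H.coeff β') * (V.subtype (F'.coeff α) * V.subtype (H'.coeff β)) := by
    conv_lhs => rw [hF', hH']
    rw [coeff_C_mul, coeff_C_mul, coeff_map, coeff_map]; ring
  rw [h4]
  exact V.mul_mem _ _ h1 (V.mul_mem _ _ (Subtype.mem _) (Subtype.mem _))

/-- **Gauss lemma** over an integrally closed domain. -/
theorem exists_mul_coeff {O : Type*} [CommRing O] [IsDomain O] [Algebra O K] [IsFractionRing O K]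
    [IsIntegrallyClosed O] (F H : MvPolynomial σ K) (E : MvPolynomial σ O)
    (hE : map (algebraMap O K) E = F * H) (α β : σ →₀ ℕ) :
    ∃ c : O, algebraMap O K c = F.coeff α * H.coeff β := by
  have hi := iInf_valuationSubring_superset (K := K) (s := Set.range (algebraMap O K))
  have h1 : F.coeff α * H.coeff β ∈
      (⨅ V : {V : ValuationSubring K // Set.range (algebraMap O K) ⊆ V.toSubring}, V.1.toSubring) := by
    rw [Subring.mem_iInf]
    rintro ⟨V, hV⟩
    refine mul_mem V F H (fun γ => ?_) α β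
    rw [← hE, coeff_map]
    exact hV ⟨_, rfl⟩
  rw [hi] at h1
  have h2 : IsIntegral (Subring.closure (Set.range (algebraMap O K))) (F.coeff α * H.coeff β) := h1
  have h3 : Subring.closure (Set.range (algebraMap O K)) = (algebraMap O K).range := by
    rw [← RingHom.coe_range, Subring.closure_eq]
  rw [h3] at h2
  have h4 : IsIntegral O (F.coeff α * H.coeff β) := by
    obtain ⟨p, hp, hp0⟩ := h2
    have hr : p ∈ Polynomial.lifts (algebraMap O K).rangeRestrict := by
      rw [Polynomial.lifts_iff_coeff_lifts]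
      intro n
      exact (algebraMap O K).rangeRestrict_surjective _
    obtain ⟨q, hq, -, hqm⟩ := Polynomial.lifts_and_degree_eq_and_monic hr hp
    refine ⟨q, hqm, ?_⟩
    rw [← hq, Polynomial.eval₂_map] at hp0
    exact hp0
  exact IsIntegrallyClosed.isIntegral_iff.1 h4

/-- Normalization of a factor of a polynomial with a unit coefficient. -/
theorem exists_normalized {O : Type*} [CommRing O] [IsDomain O] [IsLocalRing O] [Algebra O K]
    [IsFractionRing O K] [IsIntegrallyClosed O] (F H : MvPolynomial σ K) (E : MvPolynomial σ O)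
    (hE : map (algebraMap O K) E = F * H) (hu : ∃ γ, IsUnit (E.coeff γ)) :
    ∃ α, F.coeff α ≠ 0 ∧ ∀ β, ∃ c : O, algebraMap O K c = F.coeff β / F.coeff α := by
  classical
  choose c hc using fun α β => exists_mul_coeff F H E hE α β
  obtain ⟨γ, hγ⟩ := hu
  have hsum : E.coeff γ = ∑ p ∈ Finset.HasAntidiagonal.antidiagonal γ, c p.1 p.2 := by
    apply IsFractionRing.injective O K
    rw [← coeff_map, hE, coeff_mul, map_sum]
    exact Finset.sum_congr rfl fun p _ => (hc _ _).symm
  obtain ⟨⟨α, β⟩, -, hαβ⟩ : ∃ p ∈ Finset.HasAntidiagonal.antidiagonal γ, IsUnit (c p.1 p.2) := by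
    by_contra h
    push Not at h
    rw [hsum] at hγ
    refine (IsLocalRing.mem_maximalIdeal _).1 (sum_mem fun p hp => ?_) hγ
    exact (IsLocalRing.mem_maximalIdeal _).2 (h p hp)
  have hne : F.coeff α * H.coeff β ≠ 0 := by
    rw [← hc]
    exact fun h => hαβ.ne_zero (IsFractionRing.injective O K (by rw [h, map_zero]))
  refine ⟨α, left_ne_zero_of_mul hne, fun δ => ?_⟩
  obtain ⟨v, hv⟩ := hαβ
  refine ⟨c δ β * ↑v⁻¹, ?_⟩
  rw [map_mul, hc]
  have h5 : algebraMap O K ↑v⁻¹ * (F.coeff α * H.coeff β) = 1 := by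
    rw [← hc, ← hv, ← map_mul, Units.inv_mul, map_one]
  have hH : H.coeff β ≠ 0 := right_ne_zero_of_mul hne
  have hF : F.coeff α ≠ 0 := left_ne_zero_of_mul hne
  rw [eq_div_iff hF]
  calc F.coeff δ * H.coeff β * algebraMap O K ↑v⁻¹ * F.coeff α
      = F.coeff δ * (algebraMap O K ↑v⁻¹ * (F.coeff α * H.coeff β)) := by ring
    _ = F.coeff δ := by rw [h5, mul_one]

end Groth.Agent.IntSh.K877.ChowGauss
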