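import Groth.Agent.IntSh.K877.ChowIndep
import Groth.Agent.IntSh.K877.ChowGauss

/-!
The Chow form: the relations among generic linear combinations form a principal ideal.
-/

set_option autoImplicit false
set_option linter.unusedSectionVars false

namespace Groth.Agent.IntSh.K877.ChowForm

open MvPolynomial ChowIndep

universe u v w

/-- A nonzero element of the kernel can be added to a family with independent images. -/
theorem option_indep {k A A' : Type*} [Field k] [CommRing A] [IsDomain A] [Algebra k A]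
    [CommRing A'] [Algebra k A'] (f : A →ₐ[k] A') {σ : Type*} (v : σ → A)
    (hv : AlgebraicIndependent k (f ∘ v)) {g : A} (hg : f g = 0) (hg0 : g ≠ 0) :
    AlgebraicIndependent k (fun o : Option σ => o.elim g v) := by
  rw [AlgebraicIndependent.option_iff]
  refine ⟨AlgebraicIndependent.of_comp f hv, ?_⟩
  intro halg
  obtain ⟨r, hr, s, hs⟩ := halg.exists_nonzero_dvd (mem_nonZeroDivisors_of_ne_zero hg0)
  obtain ⟨P, hP⟩ : ∃ P : MvPolynomial σ k, aeval v P = (r : A) := by
    have h1 : (r : A) ∈ (aeval v : MvPolynomial σ k →ₐ[k] A).range := by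
      have h2 := r.2
      exact (Algebra.adjoin_range_eq_range_aeval k v).le h2
    exact h1
  have h2 : aeval (f ∘ v) P = 0 := by
    have h3 : aeval (f ∘ v) P = f (aeval v P) := by
      rw [← AlgHom.comp_apply, MvPolynomial.comp_aeval]
      rfl
    rw [h3, hP]
    have h4 : (r : A) = g * s := hs
    rw [h4, map_mul, hg, zero_mul]
  have h3 : P = 0 := (injective_iff_map_eq_zero _).1 (algebraicIndependent_iff_injective_aeval.1 hv) P h2
  apply hr
  apply Subtype.ext
  rw [← hP, h3, map_zero]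
  rfl

section gen

variable {ι ℓ : Type v} [Fintype ι] [DecidableEq ι] [Fintype ℓ] [DecidableEq ℓ]
  {k : Type u} [Field k] {B : Type w} [Field B] [Algebra k B]

/-- **The Chow form.** -/
theorem exists_generator (t : ℓ → B) (j : ℓ) (ht : t j = 1) (m : ℕ) (hm : Fintype.card ι = m + 1)
    (e : Fin m → ℓ) (he : AlgebraicIndependent k (t ∘ e))
    (hne : ∃ P : MvPolynomial (ι × ℓ) k, P ≠ 0 ∧ aeval (W t j) P = 0) :
    ∃ F : MvPolynomial (ι × ℓ) k, F ≠ 0 ∧ ∀ P, aeval (W t j) P = 0 ↔ F ∣ P := by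
  classical
  obtain ⟨s, hs, hind⟩ := exists_indep (ι := ι) t j ht m (by omega) e he
  -- `s ≠ univ`
  have hs1 : s ≠ Finset.univ := by
    rintro rfl
    have h1 : idx j (Finset.univ : Finset ι) = Set.univ := by
      ext p; simp [idx]
    rw [h1, AlgebraicIndepOn.univ] at hind
    obtain ⟨P, hP, hP0⟩ := hne
    exact hP ((injective_iff_map_eq_zero _).1 (algebraicIndependent_iff_injective_aeval.1 hind) P hP0)
  obtain ⟨i₀, hi₀⟩ : ∃ i₀, i₀ ∉ s := by
    by_contra h
    push Not at h
    exact hs1 (Finset.eq_univ_iff_forall.2 h)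
  have hsi : s = Finset.univ.erase i₀ := by
    refine Finset.eq_of_subset_of_card_le (fun i hi => Finset.mem_erase.2 ⟨?_, Finset.mem_univ _⟩) ?_
    · rintro rfl; exact hi₀ hi
    · rw [Finset.card_erase_of_mem (Finset.mem_univ _), Finset.card_univ, hm]
      simpa using hs
  have hidx : idx j s = {p : ι × ℓ | p ≠ (i₀, j)} := by
    ext ⟨a, b⟩
    simp only [idx, hsi, Set.mem_ofPred_eq, Finset.mem_erase, Finset.mem_univ, and_true, ne_eq,
      Prod.mk.injEq]
    tauto
  rw [hidx] at hind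
  set φ : MvPolynomial (ι × ℓ) k →ₐ[k] MvPolynomial (ι × ℓ) B := aeval (W t j) with hφ
  have hv : AlgebraicIndependent k (φ ∘ fun p : {p : ι × ℓ | p ≠ (i₀, j)} => X p.1) := by
    have h1 : (φ ∘ fun p : {p : ι × ℓ | p ≠ (i₀, j)} => X p.1) =
        fun p : {p : ι × ℓ | p ≠ (i₀, j)} => W t j p.1 := by
      funext p
      simp [hφ]
    rw [h1]
    exact hind
  -- an irreducible element of the kernel
  have hprime : (RingHom.ker φ).IsPrime := RingHom.ker_isPrime _
  have hbot : RingHom.ker φ ≠ ⊥ := by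
    obtain ⟨P, hP, hP0⟩ := hne
    intro h
    have : P ∈ RingHom.ker φ := hP0
    rw [h] at this
    exact hP this
  obtain ⟨F, hF, hFp⟩ := hprime.exists_mem_prime_of_ne_bot hbot
  refine ⟨F, hFp.ne_zero, fun P => ⟨fun hP => ?_, ?_⟩⟩
  swap
  · rintro ⟨Q, rfl⟩
    have : φ F = 0 := hF
    rw [map_mul, this, zero_mul]
  by_contra hdiv
  -- the domain `k[u]/(F)`
  have hspan : (Ideal.span {F}).IsPrime := (Ideal.span_singleton_prime hFp.ne_zero).2 hFp
  have hdom : IsDomain (MvPolynomial (ι × ℓ) k ⧸ Ideal.span {F}) := Ideal.Quotient.isDomain _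
  let q : (MvPolynomial (ι × ℓ) k ⧸ Ideal.span {F}) →ₐ[k] MvPolynomial (ι × ℓ) B :=
    Ideal.Quotient.liftₐ (Ideal.span {F}) φ (by
      intro a ha
      obtain ⟨c, rfl⟩ := Ideal.mem_span_singleton'.1 ha
      have : φ F = 0 := hF
      rw [map_mul, this, mul_zero])
  let mk := Ideal.Quotient.mkₐ k (Ideal.span {F})
  have hq : ∀ x, q (mk x) = φ x := fun x => rfl
  have hmkP : mk P ≠ 0 := by
    intro h
    exact hdiv (Ideal.mem_span_singleton.1 (Ideal.Quotient.eq_zero_iff_mem.1 h))
  have h1 : AlgebraicIndependent k (fun o : Option {p : ι × ℓ | p ≠ (i₀, j)} =>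
      o.elim (mk P) fun p => mk (X p.1)) := by
    refine option_indep q _ ?_ (by rw [hq]; exact hP) hmkP
    exact hv
  have h2 : AlgebraicIndependent k (mk ∘ fun o : Option {p : ι × ℓ | p ≠ (i₀, j)} =>
      o.elim P fun p => X p.1) := by
    have h3 : (mk ∘ fun o : Option {p : ι × ℓ | p ≠ (i₀, j)} => o.elim P fun p => X p.1) =
      (fun o : Option {p : ι × ℓ | p ≠ (i₀, j)} => o.elim (mk P) fun p => mk (X p.1)) := by
      funext o; cases o <;> rfl
    rw [h3]; exact h1
  have hmkF : mk F = 0 := Ideal.Quotient.eq_zero_iff_mem.2 (Ideal.mem_span_singleton_self F)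
  have h4 := option_indep mk _ h2 hmkF hFp.ne_zero
  have h5 := h4.lift_cardinalMk_le_trdeg
  rw [MvPolynomial.trdeg_of_isDomain] at h5
  simp only [Cardinal.mk_fintype, Cardinal.lift_natCast] at h5
  have h6 : Fintype.card {p : ι × ℓ | p ≠ (i₀, j)} + 1 = Fintype.card (ι × ℓ) := by
    have h7 := Set.card_ne_eq (i₀, j)
    have h8 : 0 < Fintype.card (ι × ℓ) := Fintype.card_pos_iff.2 ⟨(i₀, j)⟩
    have h9 : Fintype.card {p : ι × ℓ | p ≠ (i₀, j)} = Fintype.card (ι × ℓ) - 1 := by
      convert h7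
    omega
  have h7 : (Fintype.card {p : ι × ℓ | p ≠ (i₀, j)} + 1 + 1) ≤ Fintype.card (ι × ℓ) := by
    have h8 : Fintype.card (Option (Option {p : ι × ℓ | p ≠ (i₀, j)})) ≤ Fintype.card (ι × ℓ) := by
      exact_mod_cast h5
    rwa [Fintype.card_option, Fintype.card_option] at h8
  omega

/-- A nonzero polynomial vanishing on the incidence relations bounds the transcendence degree. -/
theorem not_indep (t : ℓ → B) (j : ℓ) (ht : t j = 1) (P : MvPolynomial (ι × ℓ) k) (hP : P ≠ 0)
    (h0 : aeval (W t j) P = 0) (e : Fin (Fintype.card ι) → ℓ) :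
    ¬ AlgebraicIndependent k (t ∘ e) := by
  intro he
  obtain ⟨s, hs, hind⟩ := exists_indep (ι := ι) t j ht _ le_rfl e he
  have hs1 : s = Finset.univ := Finset.eq_univ_of_card _ (le_antisymm (Finset.card_le_univ _) hs)
  subst hs1
  have h1 : idx j (Finset.univ : Finset ι) = Set.univ := by
    ext p; simp [idx]
  rw [h1, AlgebraicIndepOn.univ] at hind
  exact hP ((injective_iff_map_eq_zero _).1 (algebraicIndependent_iff_injective_aeval.1 hind) P h0)

end gen

/-- **Counting lemma**: too many independent incidence relations. -/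
theorem card_le_trdeg {ι ℓ : Type} [Fintype ι] [DecidableEq ι] [Fintype ℓ] [DecidableEq ℓ]
    {k κ V : Type u} [Field k] [Field κ] [Field V] [Algebra k κ] [Algebra κ V] [Algebra k V]
    [IsScalarTower k κ V] (t : ℓ → κ) (j : ℓ) (ht : t j = 1) (x : ι × ℓ → V)
    (hx : AlgebraicIndependent k x) (hrel : ∀ i, ∑ l, algebraMap κ V (t l) * x (i, l) = 0) :
    (Fintype.card ι : Cardinal) ≤ Algebra.trdeg k κ := by
  classical
  -- the field generated by `κ` and the `x (i, l)`, `l ≠ j`
  let S : Set V := x '' {p | p.2 ≠ j}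
  let A : Subalgebra κ V := Algebra.adjoin κ S
  have hxA : ∀ p, x p ∈ A := by
    rintro ⟨i, l⟩
    by_cases hl : l = j
    · subst hl
      have h1 := hrel i
      rw [← Finset.add_sum_erase _ _ (Finset.mem_univ l), ht, map_one, one_mul] at h1
      rw [eq_neg_of_add_eq_zero_left h1]
      refine neg_mem (sum_mem fun m hm => ?_)
      exact mul_mem (A.algebraMap_mem _) (Algebra.subset_adjoin ⟨(i, m), Finset.ne_of_mem_erase hm, rfl⟩)
    · exact Algebra.subset_adjoin ⟨(i, l), hl, rfl⟩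
  let y : ι × ℓ → A := fun p => ⟨x p, hxA p⟩
  have hy : AlgebraicIndependent k y :=
    AlgebraicIndependent.of_comp (A.val.restrictScalars k) hx
  have h1 := hy.lift_cardinalMk_le_trdeg
  have h2 : Algebra.trdeg k A = Algebra.trdeg k κ + Algebra.trdeg κ A :=
    (_root_.trdeg_add_eq k κ).symm
  let S' : Set A := y '' {p | p.2 ≠ j}
  have hS' : Algebra.adjoin κ S' = ⊤ := by
    have h3 : (Algebra.adjoin κ S').map A.val = A := by
      rw [AlgHom.map_adjoin]
      congr 1
      ext z
      simp only [S', S, Set.mem_image]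
      constructor
      · rintro ⟨_, ⟨p, hp, rfl⟩, rfl⟩; exact ⟨p, hp, rfl⟩
      · rintro ⟨p, hp, rfl⟩; exact ⟨_, ⟨p, hp, rfl⟩, rfl⟩
    rw [eq_top_iff]
    rintro z -
    have h4 : (z : V) ∈ (Algebra.adjoin κ S').map A.val := by rw [h3]; exact z.2
    obtain ⟨z', hz', h5⟩ := h4
    have : z' = z := Subtype.ext h5
    exact this ▸ hz'
  have halg : Algebra.IsAlgebraic (Algebra.adjoin κ S') A := by
    refine ⟨fun z => ?_⟩
    have hz : z ∈ Algebra.adjoin κ S' := by rw [hS']; trivial
    exact isAlgebraic_algebraMap (⟨z, hz⟩ : Algebra.adjoin κ S')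
  have h3 : Algebra.trdeg κ A ≤ Cardinal.mk S' := Algebra.IsAlgebraic.trdeg_le_cardinalMk κ S'
  have h4 : Cardinal.lift.{0} (Cardinal.mk S') ≤ Cardinal.lift.{u} (Cardinal.mk {p : ι × ℓ | p.2 ≠ j}) :=
    Cardinal.mk_image_le_lift
  rw [h2] at h1
  have hfin : Fintype.card {p : ι × ℓ | p.2 ≠ j} + Fintype.card ι = Fintype.card (ι × ℓ) := by
    have h5 : {p : ι × ℓ | p.2 ≠ j}ᶜ = Set.range fun i : ι => (i, j) := by
      ext ⟨a, b⟩
      simp only [Set.mem_compl_iff, Set.mem_ofPred_eq, not_not, Set.mem_range, Prod.mk.injEq]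
      constructor
      · rintro rfl; exact ⟨a, rfl, rfl⟩
      · rintro ⟨c, rfl, rfl⟩; rfl
    have h6 : Fintype.card ↥({p : ι × ℓ | p.2 ≠ j}ᶜ) = Fintype.card ι := by
      exact (Fintype.card_congr ((Equiv.ofInjective (fun i : ι => (i, j))
        fun a b h => (Prod.mk.inj h).1).trans (Equiv.setCongr h5.symm))).symm
    have h7 := Fintype.card_compl_set {p : ι × ℓ | p.2 ≠ j}
    rw [h6] at h7
    have h8 : Fintype.card {p : ι × ℓ | p.2 ≠ j} ≤ Fintype.card (ι × ℓ) := Fintype.card_subtype_le _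
    omega
  have h5 : Algebra.trdeg κ A ≤ (Fintype.card {p : ι × ℓ | p.2 ≠ j} : Cardinal.{u}) := by
    refine h3.trans ?_
    simpa using h4
  have h6 : ((Fintype.card (ι × ℓ) : ℕ) : Cardinal.{u}) ≤
      Algebra.trdeg k κ + (Fintype.card {p : ι × ℓ | p.2 ≠ j} : Cardinal.{u}) := by
    refine le_trans ?_ (h1.trans ?_)
    · simp
    · rw [Cardinal.lift_id']
      exact add_le_add le_rfl h5
  rw [← hfin] at h6
  push_cast at h6
  rw [add_comm] at h6
  exact (Cardinal.add_le_add_iff_of_lt_aleph0 (Cardinal.natCast_lt_aleph0)).1 h6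

end Groth.Agent.IntSh.K877.ChowForm
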