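import Groth.Agent.IntSh.K877.ChowBound
import Groth.Agent.IntSh.K877.ChowDim

/-!
Generation of residue fields by coordinates; independence of coordinates.
-/

set_option autoImplicit false
set_option linter.unusedSectionVars false
universe u
open CategoryTheory CategoryTheory.Limits AlgebraicGeometry

namespace Groth.Agent.IntSh.K877.ChowGenr

open ProjPt ChowNorm ChowCoord ChowFld CohB1 IsLocalRing ChowMap ChowBound ChowDim
open Groth.Agent.CycB.RelDim Groth.Agent.CycB.TrdegAlg

/-- projection to `P^n_ℤ`. -/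
noncomputable def toPn (n : ℕ) (S : Scheme.{u}) : ProjSpaceOver n S ⟶ ProjSpace n ZZ.{u} :=
  pullback.fst (ProjSpace.toSpec n ZZ.{u}) (specULiftZIsTerminal.from S)

/-- morphisms to `P^n_S`. -/
noncomputable def liftPn {n : ℕ} {W S : Scheme.{u}} (a : W ⟶ ProjSpace n ZZ.{u}) (b : W ⟶ S) :
    W ⟶ ProjSpaceOver n S :=
  pullback.lift a b (specULiftZIsTerminal.hom_ext _ _)

theorem liftPn_toPn {n : ℕ} {W S : Scheme.{u}} (a : W ⟶ ProjSpace n ZZ.{u}) (b : W ⟶ S) :
    liftPn a b ≫ toPn n S = a := pullback.lift_fst _ _ _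

theorem liftPn_toBase {n : ℕ} {W S : Scheme.{u}} (a : W ⟶ ProjSpace n ZZ.{u}) (b : W ⟶ S) :
    liftPn a b ≫ ProjSpaceOver.toBase n S = b := pullback.lift_snd _ _ _

theorem ext_Pn {n : ℕ} {W S : Scheme.{u}} {f g : W ⟶ ProjSpaceOver n S} (h1 : f ≫ toPn n S = g ≫ toPn n S)
    (h2 : f ≫ ProjSpaceOver.toBase n S = g ≫ ProjSpaceOver.toBase n S) : f = g :=
  pullback.hom_ext h1 h2

theorem adjoin_eq_top {Z S : Scheme.{u}} {n : ℕ} (i : Z ⟶ ProjSpaceOver n S) (x : Z)
    (hi : Function.Surjective (i.residueFieldMap x).hom) {κ : Type u} [Field κ] (σ : κ →+* Z.residueField x)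
    (hS : Spec (CommRingCat.of κ) ⟶ S)
    (hhS : Spec.map (CommRingCat.ofHom σ) ≫ hS = Z.fromSpecResidueField x ≫ i ≫ ProjSpaceOver.toBase n S)
    (ζ : Fin (n + 1) → Z.residueField x) (j : Fin (n + 1)) (hj : ζ j = 1) (β : ZZ.{u} →+* Z.residueField x)
    (hζ : Z.fromSpecResidueField x ≫ i ≫ toPn n S =
      coordPt β ζ j (by rw [hj]; exact isUnit_one)) :
    @IntermediateField.adjoin κ _ (Z.residueField x) _ σ.toAlgebra (Set.range ζ) = ⊤ := by
  let _ : Algebra κ (Z.residueField x) := σ.toAlgebra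
  let E := IntermediateField.adjoin κ (Set.range ζ)
  let e : CommRingCat.of E ⟶ Z.residueField x := CommRingCat.ofHom (algebraMap E (Z.residueField x))
  let ζE : Fin (n + 1) → E := fun l => ⟨ζ l, IntermediateField.subset_adjoin κ _ ⟨l, rfl⟩⟩
  have hζE : ζE j = 1 := Subtype.ext hj
  let h : Spec (CommRingCat.of E) ⟶ ProjSpaceOver n S :=
    liftPn (coordPt (zb E) ζE j (by rw [hζE]; exact isUnit_one))
      (Spec.map (CommRingCat.ofHom (algebraMap κ E)) ≫ hS)
  have heq : Spec.map e ≫ h = Z.fromSpecResidueField x ≫ i := by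
    apply ext_Pn
    · rw [Category.assoc, Category.assoc, liftPn_toPn, hζ]
      have h1 := coordPt_map (n := n) (algebraMap E (Z.residueField x)) (zb E) ζE j (by rw [hζE]; exact isUnit_one)
      refine h1.trans ?_
      congr 1
      exact zz_ext _ _
    · rw [Category.assoc, Category.assoc, liftPn_toBase, ← Category.assoc, ← Spec.map_comp]
      exact hhS
  have hs := surjective_of_fac' i x hi e h heq
  rw [eq_top_iff]
  rintro z -
  obtain ⟨w, rfl⟩ := hs z
  exact w.2

variable {Z Y : Scheme.{u}} [IsIntegral Z] [IsIntegral Y]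

theorem indep_of_gen {n : ℕ} (p : Z ⟶ Y) (hp : p (genericPoint Z) = genericPoint Y) (c : Z ⟶ ProjSpace n ZZ.{u})
    (D : Coords c) (d : ℕ) (hd : (d : Cardinal.{u}) ≤ rtd p (genericPoint Z))
    (hgen : ∀ (ζ : Fin (n + 1) → Z.residueField (genericPoint Z)) (j : Fin (n + 1)) (hj : ζ j = 1)
      (β : ZZ.{u} →+* Z.residueField (genericPoint Z)),
      Z.fromSpecResidueField (genericPoint Z) ≫ c = coordPt β ζ j (by rw [hj]; exact isUnit_one) →
      @IntermediateField.adjoin (Y.residueField (p (genericPoint Z))) _ (Z.residueField (genericPoint Z)) _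
        (p.residueFieldMap (genericPoint Z)).hom.toAlgebra (Set.range ζ) = ⊤) :
    Indep (ffMap p hp).hom D.τ d := by
  let _ : Algebra (Y.residueField (p (genericPoint Z))) (Z.residueField (genericPoint Z)) :=
    (p.residueFieldMap (genericPoint Z)).hom.toAlgebra
  let ζ : Fin (n + 1) → Z.residueField (genericPoint Z) := fun l => (Z.residue (genericPoint Z)).hom (D.τ l)
  have hζ1 : ζ D.j₀ = 1 := by
    show (Z.residue (genericPoint Z)).hom (D.τ D.j₀) = 1
    rw [D.hτ, map_one]
  have h1 : Z.fromSpecResidueField (genericPoint Z) ≫ c =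
      coordPt ((Z.residue (genericPoint Z)).hom.comp D.β) ζ D.j₀ (by rw [hζ1]; exact isUnit_one) := by
    have h2 := coordPt_map (Z.residue (genericPoint Z)).hom D.β D.τ D.j₀ (by rw [D.hτ]; exact isUnit_one)
    refine Eq.trans ?_ h2
    rw [← D.heq, ← Category.assoc]
    rfl
  obtain ⟨e, he⟩ := exists_indep_coords (k := Y.residueField (p (genericPoint Z)))
    (κ := Z.residueField (genericPoint Z)) ζ (hgen ζ D.j₀ hζ1 _ h1) d hd
  refine ⟨e, ?_⟩
  rw [injective_iff_map_eq_zero]
  intro P hP
  let ρ : Y.functionField →+* Y.residueField (p (genericPoint Z)) :=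
    (Y.presheaf.stalkSpecializes (specializes_of_eq hp) ≫ Y.residue _).hom
  have hρ : Function.Injective ρ := by
    have : Function.Injective (α := Y.functionField) ρ := RingHom.injective ρ
    exact this
  have hcomp : (Z.residue (genericPoint Z)).hom.comp (ffMap p hp).hom =
      (algebraMap (Y.residueField (p (genericPoint Z))) (Z.residueField (genericPoint Z))).comp ρ := by
    show (ffMap p hp ≫ Z.residue (genericPoint Z)).hom = _
    rw [ffMap, stMap, Category.assoc]
    have h3 : p.stalkMap (genericPoint Z) ≫ Z.residue (genericPoint Z) =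
        Y.residue _ ≫ p.residueFieldMap (genericPoint Z) := rfl
    rw [h3, ← Category.assoc]
    rfl
  have h4 : MvPolynomial.aeval (R := Y.residueField (p (genericPoint Z))) (ζ ∘ e) (MvPolynomial.map ρ P) = 0 := by
    have h5 : (Z.residue (genericPoint Z)).hom.comp (MvPolynomial.eval₂Hom (ffMap p hp).hom (D.τ ∘ e)) =
        (MvPolynomial.aeval (R := Y.residueField (p (genericPoint Z))) (ζ ∘ e)).toRingHom.comp
          (MvPolynomial.map ρ) := by
      refine MvPolynomial.ringHom_ext (fun r => ?_) fun l => ?_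
      · rw [RingHom.comp_apply, RingHom.comp_apply, MvPolynomial.eval₂Hom_C, MvPolynomial.map_C]
        show _ = MvPolynomial.aeval _ (MvPolynomial.C (ρ r))
        rw [MvPolynomial.aeval_C]
        exact congrArg (fun f => f r) hcomp
      · rw [RingHom.comp_apply, RingHom.comp_apply, MvPolynomial.eval₂Hom_X', MvPolynomial.map_X]
        show _ = MvPolynomial.aeval _ (MvPolynomial.X l)
        rw [MvPolynomial.aeval_X]
        rfl
    have h6 := congrArg (fun f => f P) h5
    rw [RingHom.comp_apply, hP, map_zero] at h6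
    exact h6.symm
  have h7 := (injective_iff_map_eq_zero _).1 (algebraicIndependent_iff_injective_aeval.1 he) _ h4
  exact MvPolynomial.map_injective ρ hρ (by rw [h7, map_zero])

end Groth.Agent.IntSh.K877.ChowGenr
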