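import Groth.Agent.IntSh.K877.ChowFam
import Groth.Agent.IntSh.K877.ChowFin

/-!
Graph closures, fibre dimensions, coordinates.
-/

set_option autoImplicit false
set_option linter.unusedSectionVars false
universe u
open CategoryTheory CategoryTheory.Limits AlgebraicGeometry

namespace Groth.Agent.IntSh.K877.ChowGr

open ProjPt ChowNorm ChowCoord ChowFld CohB1 IsLocalRing ChowMap ChowBound ChowDim ChowGenr ChowFam
open Groth.Agent.CycB.RelDim Groth.Agent.CycB.TrdegAlg

section alg

theorem exists_nonzero {ι ℓ : Type} [Fintype ι] [DecidableEq ι] [Fintype ℓ] [DecidableEq ℓ]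
    {K L : Type u} [Field K] [Field L] (θ : K →+* L) (τ : ℓ → L) (j₀ : ℓ)
    (h0 : τ j₀ = 1) (h : trd θ < (Fintype.card ι : Cardinal)) :
    ∃ P : MvPolynomial (ι × ℓ) K, P ≠ 0 ∧
      MvPolynomial.eval₂Hom (MvPolynomial.C.comp θ) (ChowIndep.W τ j₀) P = 0 := by
  by_contra hcon
  push Not at hcon
  let _ : Algebra K L := θ.toAlgebra
  let V := FractionRing (MvPolynomial (ι × ℓ) L)
  let x : ι × ℓ → V := fun p => algebraMap _ V (ChowIndep.W τ j₀ p)
  have hx : AlgebraicIndependent K x := by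
    rw [algebraicIndependent_iff_injective_aeval, injective_iff_map_eq_zero]
    intro P hP
    by_contra hP0
    apply hcon P hP0
    have h1 : MvPolynomial.aeval x P = algebraMap (MvPolynomial (ι × ℓ) L) V
        (MvPolynomial.aeval (ChowIndep.W τ j₀) P) := by
      rw [← MvPolynomial.aeval_algebraMap_apply]
      rfl
    rw [h1] at hP
    exact (IsFractionRing.injective (MvPolynomial (ι × ℓ) L) V) (hP.trans (map_zero _).symm)
  refine absurd (ChowForm.card_le_trdeg (k := K) (κ := L) (V := V) τ j₀ h0 x hx fun i => ?_) (not_le.2 h)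
  have h2 := congrArg (algebraMap (MvPolynomial (ι × ℓ) L) V) (ChowIndep.rel_W (ι := ι) τ h0 i)
  rw [map_sum, map_zero] at h2
  refine Eq.trans (Finset.sum_congr rfl fun l _ => ?_) h2
  rw [map_mul]
  rfl

set_option backward.isDefEq.respectTransparency false in
theorem exists_nonzero' {ι ℓ : Type} [Fintype ι] [DecidableEq ι] [Fintype ℓ] [DecidableEq ℓ]
    {K L : Type u} [CommRing K] [CommRing L] (hK : IsField K) (hL : IsField L) (θ : K →+* L) (τ : ℓ → L) (j₀ : ℓ)
    (h0 : τ j₀ = 1) (h : trd θ < (Fintype.card ι : Cardinal)) :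
    ∃ P : MvPolynomial (ι × ℓ) K, P ≠ 0 ∧
      MvPolynomial.eval₂Hom (MvPolynomial.C.comp θ) (ChowIndep.W τ j₀) P = 0 :=
  @exists_nonzero ι ℓ _ _ _ _ K L hK.toField hL.toField θ τ j₀ h0 h

end alg

variable {Z Y : Scheme.{u}} [IsIntegral Z] [IsIntegral Y]

theorem trd_ffMap (f : Z ⟶ Y) (hf : f (genericPoint Z) = genericPoint Y) :
    trd (ffMap f hf).hom = rtd f (genericPoint Z) := by
  let ρ : Y.functionField →+* Y.residueField (f (genericPoint Z)) :=
    (Y.presheaf.stalkSpecializes (specializes_of_eq hf) ≫ Y.residue _).hom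
  have hcomp : (Z.residue (genericPoint Z)).hom.comp (ffMap f hf).hom =
      (f.residueFieldMap (genericPoint Z)).hom.comp ρ := by
    show (ffMap f hf ≫ Z.residue (genericPoint Z)).hom = _
    rw [ffMap, stMap, Category.assoc]
    have h3 : f.stalkMap (genericPoint Z) ≫ Z.residue (genericPoint Z) =
        Y.residue _ ≫ f.residueFieldMap (genericPoint Z) := rfl
    rw [h3, ← Category.assoc]
    rfl
  have hρi : Function.Injective ρ := by
    have : Function.Injective (α := Y.functionField) ρ := RingHom.injective ρ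
    exact this
  have hρs : Function.Surjective ρ := by
    have h1 : IsIso (Y.presheaf.stalkSpecializes (specializes_of_eq hf)) := by
      have := (Y.presheaf.stalkCongr (.of_eq hf)).isIso_inv
      exact this
    intro z
    obtain ⟨w, rfl⟩ := residue_surjective z
    obtain ⟨w', rfl⟩ := (ConcreteCategory.bijective_of_isIso
      (Y.presheaf.stalkSpecializes (specializes_of_eq hf))).2 w
    exact ⟨w', rfl⟩
  have hri : Function.Injective (Z.residue (genericPoint Z)).hom := by
    have : Function.Injective (α := Z.functionField) (Z.residue (genericPoint Z)).hom := RingHom.injective _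
    exact this
  have hrs : Function.Surjective (Z.residue (genericPoint Z)).hom := residue_surjective
  have hd1 : IsDomain (Y.presheaf.stalk (genericPoint Y)) := inferInstanceAs (IsDomain Y.functionField)
  have hd2 : IsDomain (Z.presheaf.stalk (genericPoint Z)) := inferInstanceAs (IsDomain Z.functionField)
  have h1 := trd_comp' (K := Y.presheaf.stalk (genericPoint Y)) (L := Z.presheaf.stalk (genericPoint Z))
    (M := Z.residueField (genericPoint Z)) (ffMap f hf).hom (Z.residue (genericPoint Z)).hom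
    (ffMap_injective f hf) hri
  have h2 := trd_comp' (K := Y.presheaf.stalk (genericPoint Y)) (L := Y.residueField (f (genericPoint Z)))
    (M := Z.residueField (genericPoint Z)) ρ (f.residueFieldMap (genericPoint Z)).hom hρi
    (RingHom.injective _)
  rw [trd_eq_zero_of_surjective _ hri hrs, add_zero] at h1
  rw [trd_eq_zero_of_surjective _ hρi hρs, zero_add] at h2
  exact (h1.symm.trans (congrArg trd hcomp)).trans h2

/-- coordinates compatible with a dominant morphism. -/
theorem exists_coords_compat {n : ℕ} {R : Type u} [CommRing R] (w : Z ⟶ Y)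
    (hw : w (genericPoint Z) = genericPoint Y) (c : Y ⟶ ProjSpace n R) (c' : Z ⟶ ProjSpace n R) (hc : w ≫ c = c')
    (DW : Coords c') :
    ∃ D : Coords c, D.j₀ = DW.j₀ ∧ (ffMap w hw).hom ∘ D.τ = DW.τ := by
  obtain ⟨D⟩ := exists_coords c
  have hu : IsUnit (D.τ D.j₀) := by rw [D.hτ]; exact isUnit_one
  have h1 : coordPt ((ffMap w hw).hom.comp D.β) (fun l => (ffMap w hw).hom (D.τ l)) D.j₀
      (hu.map (ffMap w hw).hom) =
      coordPt DW.β DW.τ DW.j₀ (by rw [DW.hτ]; exact isUnit_one) := by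
    rw [← coordPt_map (ffMap w hw).hom D.β D.τ D.j₀ hu, ← D.heq, ← DW.heq, ← hc, ← Category.assoc,
      ← Category.assoc, ← fromSpecStalk_ffMap w hw]
    rfl
  obtain ⟨-, a, ha, h2⟩ := coordPt_eq_imp (Field.toIsField Z.functionField) h1
  have h3 : (ffMap w hw).hom (D.τ DW.j₀) ≠ 0 := by
    intro h0
    have h4 := h2 DW.j₀
    rw [DW.hτ, h0, mul_zero] at h4
    exact one_ne_zero h4
  have h4 : D.τ DW.j₀ ≠ 0 := fun h0 => h3 (by rw [h0, map_zero])
  have h5 : (D.τ DW.j₀)⁻¹ * D.τ DW.j₀ = 1 := inv_mul_cancel₀ h4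
  refine ⟨⟨DW.j₀, D.β, fun l => (D.τ DW.j₀)⁻¹ * D.τ l, h5, ?_⟩, rfl, ?_⟩
  · rw [D.heq]
    have h6 := coordPt_scale D.β D.τ DW.j₀ (Ne.isUnit h4) (D.τ DW.j₀)⁻¹ (by rw [h5]; exact isUnit_one)
    exact ((coordPt_indep D.β D.τ D.j₀ DW.j₀ _ _).trans h6.symm)
  · funext l
    have h7 : (ffMap w hw).hom ((D.τ DW.j₀)⁻¹ * D.τ l) =
        (ffMap w hw).hom ((D.τ DW.j₀)⁻¹) * (ffMap w hw).hom (D.τ l) := RingHom.map_mul _ _ _
    have h8 : (ffMap w hw).hom ((D.τ DW.j₀)⁻¹) * (ffMap w hw).hom (D.τ DW.j₀) = 1 := by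
      rw [← RingHom.map_mul]
      have := congrArg (ffMap w hw).hom h5
      rw [map_one] at this
      exact this
    have h9 : a * (ffMap w hw).hom (D.τ DW.j₀) = 1 := by rw [← h2, DW.hτ]
    show (ffMap w hw).hom ((D.τ DW.j₀)⁻¹ * D.τ l) = DW.τ l
    rw [h7, h2]
    congr 1
    calc (ffMap w hw).hom ((D.τ DW.j₀)⁻¹) =
        (ffMap w hw).hom ((D.τ DW.j₀)⁻¹) * (a * (ffMap w hw).hom (D.τ DW.j₀)) := by rw [h9, mul_one]
      _ = a * ((ffMap w hw).hom ((D.τ DW.j₀)⁻¹) * (ffMap w hw).hom (D.τ DW.j₀)) := by ring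
      _ = a := by rw [h8, mul_one]

/-- closure of the image of an integral scheme. -/
theorem exists_closure {P : Scheme.{u}} (r : Z ⟶ P) :
    ∃ (Γ : Scheme.{u}) (_ : IsIntegral Γ) (i : Γ ⟶ P) (_ : IsClosedImmersion i) (w : Z ⟶ Γ),
      w ≫ i = r ∧ w (genericPoint Z) = genericPoint Γ ∧ Set.range i = closure {r (genericPoint Z)} := by
  let I := K432.CurveLift.ptIdeal (r (genericPoint Z))
  have hr : Set.range I.subschemeι = closure {r (genericPoint Z)} := K432.CurveLift.range_ptIdeal _
  obtain ⟨w, hw⟩ := Ega1.ReducedSub.exists_factor_of_range_subset r I.subschemeι (by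
    rw [hr]
    rintro _ ⟨z, rfl⟩
    exact ((genericPoint_specializes z).map r.continuous).mem_closure)
  refine ⟨I.subscheme, inferInstance, I.subschemeι, inferInstance, w, hw, ?_, hr⟩
  apply I.subschemeι.isEmbedding.injective
  have h1 : I.subschemeι (w (genericPoint Z)) = r (genericPoint Z) := by
    rw [← Scheme.Hom.comp_apply, hw]
  have h2 := K432.CurveLift.closure_gpt I
  rw [K432.CurveLift.support_ptIdeal] at h2
  rw [h1]
  have h3 : Inseparable (I.subschemeι (genericPoint I.subscheme)) (r (genericPoint Z)) := by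
    rw [inseparable_iff_closure_eq]
    exact h2
  exact h3.eq.symm

/-- fibres as subspaces. -/
theorem dim_fiber_eq_dim_inter {P T : Scheme.{u}} (i : Z ⟶ P) [IsClosedImmersion i] (q : P ⟶ T) (t : T) :
    topologicalKrullDim ↥(Set.range i ∩ q ⁻¹' {t}) = topologicalKrullDim ((i ≫ q).fiber t) := by
  have h1 : Topology.IsEmbedding (i ∘ (i ≫ q).fiberι t) :=
    i.isEmbedding.comp ((i ≫ q).fiberι t).isEmbedding
  have h2 : Set.range (i ∘ (i ≫ q).fiberι t) = Set.range i ∩ q ⁻¹' {t} := by
    rw [Set.range_comp, Scheme.Hom.range_fiberι]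
    ext z
    constructor
    · rintro ⟨z', hz', rfl⟩
      exact ⟨⟨z', rfl⟩, hz'⟩
    · rintro ⟨⟨z', rfl⟩, hz⟩
      exact ⟨z', hz, rfl⟩
  rw [← h2]
  exact (IsHomeomorph.topologicalKrullDim_eq _ h1.toHomeomorph.isHomeomorph).symm

/-- constant fibre dimension. -/
theorem dim_fiber_of_le {T : Scheme.{u}} [IsIntegral T] (p : Z ⟶ T) [IsProper p]
    (hp : p (genericPoint Z) = genericPoint T) (hle : ∀ x, nrtd p x ≤ nrtd p (genericPoint Z)) (t : T) :
    topologicalKrullDim (p.fiber t) = (nrtd p (genericPoint Z) : ℕ) := by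
  apply le_antisymm
  · exact dim_le_of_nrtd p t _ fun x _ => hle x
  · have h1 := S3387.result p p.isClosedMap (nrtd p (genericPoint Z))
    have h2 : genericPoint T ∈ {y : T | (nrtd p (genericPoint Z) : WithBot ℕ∞) ≤ topologicalKrullDim (p.fiber y)} := by
      have := le_dim_of_nrtd p (genericPoint Z)
      rw [hp] at this
      exact this
    exact (h1.stableUnderSpecialization (genericPoint_specializes t) h2)

theorem nrtd_of_dim_fiber {T : Scheme.{u}} [IsIntegral T] (p : Z ⟶ T) [LocallyOfFiniteType p]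
    (hp : p (genericPoint Z) = genericPoint T) (e : ℕ) (h : ∀ t, topologicalKrullDim (p.fiber t) = e) (x : Z) :
    nrtd p x ≤ nrtd p (genericPoint Z) := by
  refine (nrtd_le_dim p x e (h _).le).trans ?_
  obtain ⟨x', hx', hx⟩ := exists_nrtd_ge p (genericPoint T) e (h _).ge
  refine hx.trans ?_
  by_cases hne : genericPoint Z = x'
  · rw [hne]
  · exact (nrtd_lt_of_specializes p (genericPoint_specializes x') hne (hp.trans hx'.symm)).le

/-- `liftPn` of the coordinates and the projection of a closed subscheme of a fibre product is a closed immersion. -/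
theorem isClosedImmersion_liftPn {n : ℕ} {X S T : Scheme.{u}} (iX : X ⟶ ProjSpaceOver n S) [IsClosedImmersion iX]
    (sT : T ⟶ S) (ι : Z ⟶ pullback (iX ≫ ProjSpaceOver.toBase n S) sT) [IsClosedImmersion ι]
    [IsProper (ι ≫ pullback.snd _ sT)] :
    IsClosedImmersion (liftPn ((ι ≫ pullback.fst _ sT) ≫ iX ≫ toPn n S) (ι ≫ pullback.snd _ sT)) := by
  have h1 : IsProper (ProjSpaceOver.toBase n T) := Ega3B.ProjProper.isProper_toBase n T
  have h2 : IsProper (liftPn ((ι ≫ pullback.fst _ sT) ≫ iX ≫ toPn n S) (ι ≫ pullback.snd _ sT) ≫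
      ProjSpaceOver.toBase n T) := by
    rw [liftPn_toBase]; infer_instance
  have h3 : IsProper (liftPn ((ι ≫ pullback.fst _ sT) ≫ iX ≫ toPn n S) (ι ≫ pullback.snd _ sT)) :=
    IsProper.of_comp _ (ProjSpaceOver.toBase n T)
  rw [IsClosedImmersion.iff_isProper_and_mono]
  refine ⟨h3, ⟨fun {R} a b hab => ?_⟩⟩
  have h4 : a ≫ ι ≫ pullback.snd _ sT = b ≫ ι ≫ pullback.snd _ sT := by
    have := congrArg (· ≫ ProjSpaceOver.toBase n T) hab
    simpa only [Category.assoc, liftPn_toBase] using this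
  have h5 : (a ≫ ι ≫ pullback.fst _ sT) ≫ iX ≫ toPn n S = (b ≫ ι ≫ pullback.fst _ sT) ≫ iX ≫ toPn n S := by
    have := congrArg (· ≫ toPn n T) hab
    simpa only [Category.assoc, liftPn_toPn] using this
  have h6 : (a ≫ ι ≫ pullback.fst _ sT) ≫ iX = (b ≫ ι ≫ pullback.fst _ sT) ≫ iX := by
    apply ext_Pn
    · simpa only [Category.assoc] using h5
    · have h7 : pullback.fst _ sT ≫ iX ≫ ProjSpaceOver.toBase n S = pullback.snd _ sT ≫ sT := pullback.condition
      have h8 := congrArg (· ≫ sT) h4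
      simp only [Category.assoc] at h8
      simp only [Category.assoc, h7]
      exact h8
  rw [cancel_mono] at h6
  rw [← cancel_mono ι]
  apply pullback.hom_ext
  · simpa only [Category.assoc] using h6
  · simpa only [Category.assoc] using h4

end Groth.Agent.IntSh.K877.ChowGr
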