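import Mathlib

/-!
Generic incidence relations: algebraic independence of generic linear combinations.
-/

set_option autoImplicit false
set_option linter.unusedSectionVars false

namespace Groth.Agent.IntSh.K877.ChowIndep

open MvPolynomial

section defs

variable {ι ℓ : Type*} [Fintype ℓ] [DecidableEq ℓ] {B : Type*} [CommRing B]

/-- The generic solution of the relations `∑ l, t l * u (i, l) = 0`, `i : ι`, when `t j = 1`. -/
noncomputable def W (t : ℓ → B) (j : ℓ) (p : ι × ℓ) : MvPolynomial (ι × ℓ) B :=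
  if p.2 = j then - ∑ m ∈ Finset.univ.erase j, C (t m) * X (p.1, m) else X p

theorem W_same (t : ℓ → B) (j : ℓ) (i : ι) :
    W t j (i, j) = - ∑ m ∈ Finset.univ.erase j, C (t m) * X (i, m) := by
  simp [W]

theorem W_ne (t : ℓ → B) {j : ℓ} {p : ι × ℓ} (h : p.2 ≠ j) : W t j p = X p := by
  simp [W, h]

theorem rel_W (t : ℓ → B) {j : ℓ} (h1 : t j = 1) (i : ι) :
    ∑ l, C (t l) * W t j (i, l) = 0 := by
  rw [← Finset.add_sum_erase _ _ (Finset.mem_univ j), h1, W_same, C_1, one_mul]
  rw [neg_add_eq_zero]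
  refine Finset.sum_congr rfl fun l hl => ?_
  rw [W_ne t (Finset.ne_of_mem_erase hl)]

/-- a polynomial vanishing at the generic solution vanishes at every solution. -/
theorem aeval_eq_zero {A : Type*} [CommRing A] [Algebra A B] (t : ℓ → B) {j : ℓ} (h1 : t j = 1)
    (P : MvPolynomial (ι × ℓ) A) (hP : aeval (W t j) P = 0)
    {D : Type*} [CommRing D] [Algebra A D] [Algebra B D] [IsScalarTower A B D]
    (u : ι × ℓ → D) (hu : ∀ i, ∑ l, algebraMap B D (t l) * u (i, l) = 0) :
    aeval u P = 0 := by
  have key : (aeval u : MvPolynomial (ι × ℓ) A →ₐ[A] D) =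
      ((aeval u : MvPolynomial (ι × ℓ) B →ₐ[B] D).restrictScalars A).comp (aeval (W t j)) := by
    refine MvPolynomial.algHom_ext fun p => ?_
    rw [AlgHom.comp_apply, aeval_X, aeval_X, AlgHom.restrictScalars_apply]
    obtain ⟨i, l⟩ := p
    by_cases hl : l = j
    · subst hl
      rw [W_same, map_neg, map_sum]
      simp only [map_mul, aeval_C, aeval_X]
      have := hu i
      rw [← Finset.add_sum_erase _ _ (Finset.mem_univ l), h1, map_one, one_mul] at this
      exact eq_neg_of_add_eq_zero_left this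
    · rw [W_ne t hl, aeval_X]
  rw [key, AlgHom.comp_apply, hP, map_zero]

end defs

section indep

universe u v w

variable {ι ℓ : Type*} [Fintype ι] [DecidableEq ι] [Fintype ℓ] [DecidableEq ℓ]
  {k : Type*} [Field k] {B : Type*} [Field B] [Algebra k B]

/-- translation of one variable. -/
noncomputable def trans (q : ι × ℓ) : MvPolynomial (ι × ℓ) B →ₐ[B] MvPolynomial (ι × ℓ) B :=
  aeval fun p => if p = q then X q + 1 else X p

theorem trans_injective (q : ι × ℓ) : Function.Injective (trans (B := B) q) := by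
  have h : (aeval (fun p => if p = q then X q - 1 else X p) :
      MvPolynomial (ι × ℓ) B →ₐ[B] MvPolynomial (ι × ℓ) B).comp (trans q) = AlgHom.id _ _ := by
    refine MvPolynomial.algHom_ext fun p => ?_
    rw [AlgHom.comp_apply, trans, aeval_X, AlgHom.id_apply]
    by_cases hp : p = q
    · subst hp; simp
    · simp [hp]
  exact Function.LeftInverse.injective (g := (aeval (fun p => if p = q then X q - 1 else X p) :
      MvPolynomial (ι × ℓ) B →ₐ[B] MvPolynomial (ι × ℓ) B)) fun x => by
    have := congrArg (fun f => f x) h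
    simpa using this

theorem trans_X_ne {q p : ι × ℓ} (h : p ≠ q) : trans (B := B) q (X p) = X p := by
  simp [trans, h]

theorem trans_X_same (q : ι × ℓ) : trans (B := B) q (X q) = X q + 1 := by
  simp [trans]

/-- the index set of the family. -/
def idx (j : ℓ) (s : Finset ι) : Set (ι × ℓ) := {p | p.2 ≠ j ∨ p.1 ∈ s}

theorem idx_insert (j : ℓ) (s : Finset ι) (i : ι) : idx j (insert i s) = insert (i, j) (idx j s) := by
  ext ⟨a, b⟩
  simp only [idx, Set.mem_ofPred_eq, Finset.mem_insert, Set.mem_insert_iff, Prod.mk.injEq]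
  by_cases hb : b = j
  · simp [hb]
  · simp [hb]

theorem encard_idx (j : ℓ) (s : Finset ι) :
    (idx j s).encard ≤ {p : ι × ℓ | p.2 ≠ j}.encard + s.card := by
  have h : idx j s ⊆ {p : ι × ℓ | p.2 ≠ j} ∪ (fun i => (i, j)) '' (s : Set ι) := by
    rintro ⟨a, b⟩ h
    by_cases hb : b = j
    · subst hb
      right
      exact ⟨a, h.resolve_left fun h => h rfl, rfl⟩
    · exact Or.inl hb
  refine (Set.encard_le_encard h).trans ((Set.encard_union_le _ _).trans ?_)
  refine add_le_add le_rfl ((Set.encard_image_le _ _).trans ?_)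
  rw [Set.encard_coe_eq_coe_finsetCard]

theorem indep_base (t : ℓ → B) (j : ℓ) :
    AlgebraicIndepOn k (W (ι := ι) t j) (idx j ∅) := by
  have h : AlgebraicIndependent k (X : ι × ℓ → MvPolynomial (ι × ℓ) B) :=
    (algebraicIndependent_X (ι × ℓ) B).restrictScalars (algebraMap k B).injective
  have h2 : AlgebraicIndepOn k (X : ι × ℓ → MvPolynomial (ι × ℓ) B) (idx j ∅) :=
    (AlgebraicIndepOn.univ.2 h).mono (Set.subset_univ _)
  have h3 : (fun p : idx (ι := ι) j ∅ => W (B := B) t j p.1) =
      fun p : idx (ι := ι) j ∅ => (X p.1 : MvPolynomial (ι × ℓ) B) := by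
    funext p
    refine W_ne t ?_
    have := p.2
    simpa [idx] using this
  unfold AlgebraicIndepOn
  rw [h3]
  exact h2

omit [Fintype ι] [Fintype ℓ] [DecidableEq ℓ] [DecidableEq ι] in
theorem image_adjoin_le {S T : Set (MvPolynomial (ι × ℓ) B)}
    (φ : MvPolynomial (ι × ℓ) B →ₐ[k] MvPolynomial (ι × ℓ) B)
    (h : φ '' S ⊆ Algebra.adjoin k T) : (Algebra.adjoin k S).map φ ≤ Algebra.adjoin k T := by
  rw [AlgHom.map_adjoin]
  exact Algebra.adjoin_le h

theorem isAlgebraic_image {S T : Set (MvPolynomial (ι × ℓ) B)}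
    (φ : MvPolynomial (ι × ℓ) B →ₐ[k] MvPolynomial (ι × ℓ) B) (hφ : Function.Injective φ)
    (h : φ '' S ⊆ Algebra.adjoin k T) {x : MvPolynomial (ι × ℓ) B}
    (hx : IsAlgebraic (Algebra.adjoin k S) x) : IsAlgebraic (Algebra.adjoin k T) (φ x) := by
  let f : Algebra.adjoin k S →ₐ[k] Algebra.adjoin k T :=
    (φ.comp (Algebra.adjoin k S).val).codRestrict (Algebra.adjoin k T) fun y =>
      image_adjoin_le φ h ⟨y, y.2, rfl⟩
  refine hx.ringHom_of_comp_eq f.toRingHom φ.toRingHom ?_ ?_
  · intro a b hab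
    apply Subtype.ext
    apply hφ
    exact congrArg Subtype.val hab
  · ext y
    rfl

/-- If `σ_{i₀}` is algebraic over the others then so are all the coordinates. -/
theorem isAlgebraic_coord (t : ℓ → B) (j : ℓ) (s : Finset ι) {i₀ : ι} (hi : i₀ ∉ s)
    (h : IsAlgebraic (Algebra.adjoin k (W t j '' idx j s)) (W t j (i₀, j))) {l : ℓ} (hl : l ≠ j) :
    IsAlgebraic (Algebra.adjoin k (W t j '' idx j s)) (C (t l) : MvPolynomial (ι × ℓ) B) := by
  set φ := (trans (B := B) (i₀, l)).restrictScalars k with hφ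
  have hinj : Function.Injective φ := trans_injective _
  have himg : φ '' (W t j '' idx j s) ⊆ Algebra.adjoin k (W t j '' idx j s) := by
    rintro _ ⟨_, ⟨p, hp, rfl⟩, rfl⟩
    obtain ⟨a, b⟩ := p
    by_cases hb : b = j
    · subst hb
      have ha : a ∈ s := hp.resolve_left fun h => h rfl
      have : φ (W t b (a, b)) = W t b (a, b) := by
        rw [W_same, map_neg, map_sum]
        congr 1
        refine Finset.sum_congr rfl fun m _ => ?_
        rw [map_mul, hφ]
        simp only [AlgHom.restrictScalars_apply]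
        rw [trans_X_ne, ← algebraMap_eq, AlgHom.commutes]
        intro h
        exact hi ((Prod.mk.inj h).1 ▸ ha)
      rw [this]
      exact Algebra.subset_adjoin ⟨_, hp, rfl⟩
    · rw [W_ne t hb]
      have hmem : (X (a, b) : MvPolynomial (ι × ℓ) B) ∈ Algebra.adjoin k (W t j '' idx j s) :=
        Algebra.subset_adjoin ⟨(a, b), Or.inl hb, W_ne t hb⟩
      by_cases hq : (a, b) = (i₀, l)
      · rw [hφ, AlgHom.restrictScalars_apply, hq, trans_X_same, ← hq]
        exact add_mem hmem (one_mem _)
      · rw [hφ, AlgHom.restrictScalars_apply, trans_X_ne hq]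
        exact hmem
  have h2 := isAlgebraic_image φ hinj himg h
  have h3 : φ (W t j (i₀, j)) = W t j (i₀, j) - C (t l) := by
    rw [W_same, map_neg, map_sum,
      ← Finset.add_sum_erase _ _ (Finset.mem_erase.2 ⟨hl, Finset.mem_univ l⟩),
      ← Finset.add_sum_erase (Finset.univ.erase j) (fun m => C (t m) * X (i₀, m))
        (Finset.mem_erase.2 ⟨hl, Finset.mem_univ l⟩)]
    have h4 : ∀ m ∈ (Finset.univ.erase j).erase l, φ (C (t m) * X (i₀, m)) = C (t m) * X (i₀, m) := by
      intro m hm
      rw [map_mul, hφ]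
      simp only [AlgHom.restrictScalars_apply]
      rw [trans_X_ne, ← algebraMap_eq, AlgHom.commutes]
      intro h
      exact (Finset.ne_of_mem_erase hm) (Prod.mk.inj h).2
    rw [Finset.sum_congr rfl h4, map_mul, hφ]
    simp only [AlgHom.restrictScalars_apply]
    rw [trans_X_same, ← algebraMap_eq, AlgHom.commutes]
    ring
  rw [h3] at h2
  have h5 := h.sub h2
  rwa [sub_sub_cancel] at h5

/-- **Generic linear combinations.** If `m ≤ #ι` of the `t l` are algebraically independent then at least
`m` of the relations contribute. -/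
theorem exists_indep (t : ℓ → B) (j : ℓ) (ht : t j = 1) (m : ℕ) (hm : m ≤ Fintype.card ι)
    (e : Fin m → ℓ) (he : AlgebraicIndependent k (t ∘ e)) :
    ∃ s : Finset ι, m ≤ s.card ∧ AlgebraicIndepOn k (W (ι := ι) t j) (idx j s) := by
  classical
  obtain ⟨s, hs, hmax⟩ := Finset.exists_max_image
    (Finset.univ.filter fun s : Finset ι => AlgebraicIndepOn k (W (ι := ι) t j) (idx j s))
    Finset.card ⟨∅, by simpa using indep_base t j⟩
  simp only [Finset.mem_filter, Finset.mem_univ, true_and] at hs hmax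
  refine ⟨s, ?_, hs⟩
  by_cases hs1 : s = Finset.univ
  · subst hs1; simpa using hm
  obtain ⟨i₀, hi₀⟩ : ∃ i₀, i₀ ∉ s := by
    by_contra h
    push Not at h
    exact hs1 (Finset.eq_univ_iff_forall.2 h)
  have hnot : ¬ AlgebraicIndepOn k (W (ι := ι) t j) (idx j (insert i₀ s)) := by
    intro h
    have := hmax _ h
    rw [Finset.card_insert_of_notMem hi₀] at this
    omega
  have hmem : (i₀, j) ∉ idx j s := by
    simp [idx, hi₀]
  rw [idx_insert, AlgebraicIndepOn.insert_iff hmem] at hnot
  have halg : IsAlgebraic (Algebra.adjoin k (W t j '' idx j s)) (W t j (i₀, j)) := by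
    by_contra h
    exact hnot ⟨hs, h⟩
  -- the independent family
  have hej : ∀ a, e a ≠ j := by
    intro a ha
    have h1 := he.transcendental a
    rw [Function.comp_apply, ha, ht] at h1
    exact h1 isAlgebraic_one
  have hX : AlgebraicIndependent B (fun p : {p : ι × ℓ | p.2 ≠ j} => (X p.1 : MvPolynomial (ι × ℓ) B)) :=
    (AlgebraicIndepOn.univ.2 (algebraicIndependent_X (ι × ℓ) B)).mono (Set.subset_univ _)
  have hy := AlgebraicIndependent.sumElim_comp he hX
  set y := Sum.elim (fun p : {p : ι × ℓ | p.2 ≠ j} => (X p.1 : MvPolynomial (ι × ℓ) B))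
    (algebraMap B (MvPolynomial (ι × ℓ) B) ∘ (t ∘ e)) with hydef
  have hind : (AlgebraicIndependent.matroid k (MvPolynomial (ι × ℓ) B)).Indep (Set.range y) :=
    hy.to_subtype_range
  have hsub : Set.range y ⊆ (AlgebraicIndependent.matroid k (MvPolynomial (ι × ℓ) B)).closure
      (W t j '' idx j s) := by
    rw [AlgebraicIndependent.matroid_closure_eq]
    rintro _ ⟨p | a, rfl⟩
    · show IsAlgebraic _ _
      have : (X p.1 : MvPolynomial (ι × ℓ) B) ∈ Algebra.adjoin k (W t j '' idx j s) :=
        Algebra.subset_adjoin ⟨p.1, Or.inl p.2, W_ne t p.2⟩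
      exact isAlgebraic_algebraMap (⟨_, this⟩ : Algebra.adjoin k (W t j '' idx j s))
    · exact isAlgebraic_coord t j s hi₀ halg (hej a)
  have hle := hind.encard_le_eRk_of_subset hsub
  rw [Matroid.eRk_closure_eq] at hle
  have hle2 := hle.trans (Matroid.eRk_le_encard _ _)
  have hle3 := hle2.trans ((Set.encard_image_le _ _).trans (encard_idx j s))
  have hcard : (Set.range y).encard = {p : ι × ℓ | p.2 ≠ j}.encard + m := by
    rw [← Set.image_univ, Set.InjOn.encard_image hy.injective.injOn, Set.encard_univ,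
      ENat.card_eq_coe_fintype_card, Fintype.card_sum, Fintype.card_fin]
    rw [Set.encard_eq_coe_toFinset_card, Set.toFinset_card]
    push_cast
    rfl
  rw [hcard] at hle3
  have hfin : {p : ι × ℓ | p.2 ≠ j}.encard ≠ ⊤ := by
    rw [Set.encard_ne_top_iff]
    exact Set.toFinite _
  have := (ENat.add_le_add_iff_left hfin).1 hle3
  exact_mod_cast this

end indep

end Groth.Agent.IntSh.K877.ChowIndep
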