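import Groth.Agent.IntSh.K877.ChowSq
import Groth.Agent.CohqB.ProjBC

/-!
The closed graph over a birational model of the base.
-/

set_option autoImplicit false
set_option linter.unusedSectionVars false
universe u
open CategoryTheory CategoryTheory.Limits AlgebraicGeometry

namespace Groth.Agent.IntSh.K877.ChowKey

open ProjPt ChowNorm ChowCoord ChowFld CohB1 IsLocalRing ChowMap ChowBound ChowDim ChowGenr ChowFam ChowGr ChowRep
open ChowSq
open Groth.Agent.CycB.RelDim Groth.Agent.CycB.TrdegAlg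

theorem map_genericPoint_of_dense {X Y : Scheme.{u}} [IsIntegral X] [IsIntegral Y] (f : X ⟶ Y)
    (h : DenseRange f) : f (genericPoint X) = genericPoint Y := by
  have h1 := (genericPoint_spec X).image f.continuous
  rw [Set.image_univ, h.closure_range] at h1
  exact h1.eq (genericPoint_spec Y)

theorem map_genericPoint_of_open {X Y : Scheme.{u}} [IsIntegral X] [IsIntegral Y] (f : X ⟶ Y)
    [IsOpenImmersion f] : f (genericPoint X) = genericPoint Y :=
  genericPoint_eq_of_isOpenImmersion f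

theorem isIntegral_opens {X : Scheme.{u}} [IsIntegral X] (U : X.Opens) (hU : (U : Set X).Nonempty) :
    IsIntegral (U : Scheme.{u}) := by
  have : Nonempty (U : Scheme.{u}) := hU.to_subtype
  exact isIntegral_of_isOpenImmersion U.ι

variable {k : Type u} [Field k] {X Y : Scheme.{u}} {n : ℕ}
  (iX : X ⟶ ProjSpaceOver n (Spec (CommRingCat.of k))) [IsClosedImmersion iX]
  (sY : Y ⟶ Spec (CommRingCat.of k)) [IsIntegral X] [IsIntegral Y]
  (U : X.Opens) [IsIntegral (U : Scheme.{u})] (f : (U : Scheme.{u}) ⟶ Y)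
  (hf : f ≫ sY = U.ι ≫ iX ≫ ProjSpaceOver.toBase n (Spec (CommRingCat.of k)))

include hf in
/-- The data of the closed graph over a model `T`. -/
theorem exists_graph {M : ℕ} [LocallyOfFiniteType sY] (hfg : f (genericPoint (U : Scheme.{u})) = genericPoint Y)
    (D : Coords (U.ι ≫ iX ≫ toPn n (Spec (CommRingCat.of k))))
    (F : MvPolynomial (Fin (nrtd f (genericPoint (U : Scheme.{u})) + 1) × Fin (n + 1)) Y.functionField)
    (hF : IsForm (ffMap f hfg).hom D.τ D.j₀ F) (E : Terms F M)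
    {T : Scheme.{u}} [IsIntegral T] (sT : T ⟶ Spec (CommRingCat.of k)) [LocallyOfFiniteType sT]
    (V : Y.Opens) [IsIntegral (V : Scheme.{u})] [IsIntegral (f ⁻¹ᵁ V : Scheme.{u})]
    (g : (V : Scheme.{u}) ⟶ T) [IsOpenImmersion g] (hg : g ≫ sT = V.ι ≫ sY)
    (hcl : closure {z : ↥(pullback (iX ≫ ProjSpaceOver.toBase n (Spec (CommRingCat.of k))) sT) |
        ∃ u : ↥(f ⁻¹ᵁ V), IsClosed ({U.ι u.1} : Set X) ∧
          pullback.fst _ sT z = U.ι u.1 ∧ pullback.snd _ sT z = g ⟨f u.1, u.2⟩} =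
      closure {pullback.lift ((f ⁻¹ᵁ V).ι ≫ U.ι) ((f ∣_ V) ≫ g) (by
        rw [Category.assoc, Category.assoc, hg, morphismRestrict_ι_assoc, hf])
        (genericPoint (f ⁻¹ᵁ V : Scheme.{u}))}) :
    ∃ (Γ : Scheme.{u}) (_ : IsIntegral Γ) (p : Γ ⟶ T) (_ : IsProper p)
      (hp : p (genericPoint Γ) = genericPoint T) (c : Γ ⟶ ProjSpace n ZZ.{u}) (D' : Coords c)
      (F' : MvPolynomial (Fin (nrtd f (genericPoint (U : Scheme.{u})) + 1) × Fin (n + 1)) T.functionField)
      (E' : Terms F' M),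
      IsClosedImmersion (liftPn c p) ∧ IsForm (ffMap p hp).hom D'.τ D'.j₀ F' ∧
      (∀ m, (ffMap g (map_genericPoint_of_open g)).hom (E'.a m) =
        (ffMap V.ι (map_genericPoint_of_open V.ι)).hom (E.a m)) ∧
      nrtd p (genericPoint Γ) = nrtd f (genericPoint (U : Scheme.{u})) ∧
      ∀ t : T, topologicalKrullDim
        ↥(closure {z : ↥(pullback (iX ≫ ProjSpaceOver.toBase n (Spec (CommRingCat.of k))) sT) |
          ∃ u : ↥(f ⁻¹ᵁ V), IsClosed ({U.ι u.1} : Set X) ∧
            pullback.fst _ sT z = U.ι u.1 ∧ pullback.snd _ sT z = g ⟨f u.1, u.2⟩} ∩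
          pullback.snd _ sT ⁻¹' {t}) = topologicalKrullDim (p.fiber t) := by
  have hP : IsProper (ProjSpaceOver.toBase n (Spec (CommRingCat.of k))) := Ega3B.ProjProper.isProper_toBase n _
  let sX : X ⟶ Spec (CommRingCat.of k) := iX ≫ ProjSpaceOver.toBase n (Spec (CommRingCat.of k))
  have hsX : IsProper sX := inferInstance
  let ι : (f ⁻¹ᵁ V : Scheme.{u}) ⟶ (U : Scheme.{u}) := (f ⁻¹ᵁ V).ι
  let fW : (f ⁻¹ᵁ V : Scheme.{u}) ⟶ (V : Scheme.{u}) := f ∣_ V
  have hh : (ι ≫ U.ι) ≫ sX = (fW ≫ g) ≫ sT := by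
    rw [Category.assoc, Category.assoc, hg, morphismRestrict_ι_assoc, hf]
  obtain ⟨Γ, hΓ, i, hi, w, hwi, hw, hr⟩ := exists_closure (pullback.lift (ι ≫ U.ι) (fW ≫ g) hh)
  let p : Γ ⟶ T := i ≫ pullback.snd sX sT
  let q : Γ ⟶ X := i ≫ pullback.fst sX sT
  have hpp : IsProper p := inferInstance
  have h1 : ι ≫ f = fW ≫ V.ι := (morphismRestrict_ι f V).symm
  have h2 : w ≫ p = fW ≫ g := by
    rw [← Category.assoc, hwi, pullback.lift_snd]
  have h3 : w ≫ q = ι ≫ U.ι := by
    rw [← Category.assoc, hwi, pullback.lift_fst]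
  have hι : ι (genericPoint _) = genericPoint _ := map_genericPoint_of_open ι
  have hfW : fW (genericPoint _) = genericPoint _ := by
    apply V.ι.isOpenEmbedding.injective
    rw [← Scheme.Hom.comp_apply, ← h1, Scheme.Hom.comp_apply, hι, hfg, map_genericPoint_of_open V.ι]
  have hp : p (genericPoint Γ) = genericPoint T := by
    rw [← hw, ← Scheme.Hom.comp_apply, h2, Scheme.Hom.comp_apply, hfW, map_genericPoint_of_open g]
  let c : Γ ⟶ ProjSpace n ZZ.{u} := q ≫ iX ≫ toPn n _
  have hc : ι ≫ U.ι ≫ iX ≫ toPn n _ = w ≫ c := by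
    rw [← Category.assoc, ← h3, Category.assoc]
  obtain ⟨D', F', E', hF', hE'⟩ := transport f V.ι g ι fW w p h1 h2 hfg (map_genericPoint_of_open V.ι)
    (map_genericPoint_of_open g) hι hfW hw hp _ c hc D F hF E
  refine ⟨Γ, hΓ, p, hpp, hp, c, D', F', E', isClosedImmersion_liftPn iX sT i, hF', hE', ?_, fun t => ?_⟩
  · have hlf : LocallyOfFiniteType f := by
      have : LocallyOfFiniteType (f ≫ sY) := by rw [hf]; infer_instance
      exact locallyOfFiniteType_of_comp f sY
    have hlw : LocallyOfFiniteType w := by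
      have : LocallyOfFiniteType (w ≫ q) := by rw [h3]; infer_instance
      exact locallyOfFiniteType_of_comp w q
    have hop : IsOpenImmersion (w ≫ q) := by rw [h3]; infer_instance
    exact nrtd_transport f V.ι g ι fW w p h1 h2 hι hfW hw q
  · rw [hcl]
    have h4 := dim_fiber_eq_dim_inter i (pullback.snd sX sT) t
    rw [hr] at h4
    exact h4

end Groth.Agent.IntSh.K877.ChowKey
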