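import Groth.Agent.Ega2.Normal

/-!
Extension of morphisms from normal schemes to finite schemes.
-/

set_option autoImplicit false
universe u
open CategoryTheory CategoryTheory.Limits AlgebraicGeometry

namespace Groth.Agent.IntSh.K877.ExtNu

theorem exists_nu {P T T' : Scheme.{u}} (p : T ⟶ P) [IsFinite p] (c' : T' ⟶ P) [IsIntegral T']
    (hn : Pi1.IsNormalScheme T') (V : Scheme.{u}) [Nonempty V] (j : V ⟶ T') [IsOpenImmersion j]
    (g : V ⟶ T) (h : j ≫ c' = g ≫ p) : ∃ ν : T' ⟶ T, ν ≫ p = c' ∧ j ≫ ν = g := by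
  let s : (j.opensRange : Scheme.{u}) ⟶ pullback c' p := j.isoOpensRange.inv ≫ pullback.lift j g h
  have hU : (j.opensRange : Set T').Nonempty := ⟨_, ⟨Classical.arbitrary V, rfl⟩⟩
  obtain ⟨s', h1, h2⟩ := Ega2.Normal.exists_section_extending hn (pullback.fst c' p) j.opensRange hU s (by
    rw [Category.assoc, pullback.lift_fst, Scheme.Hom.isoOpensRange_inv_comp])
  have h3 : j ≫ s' = pullback.lift j g h := by
    calc j ≫ s' = (j.isoOpensRange.hom ≫ j.opensRange.ι) ≫ s' := by rw [Scheme.Hom.isoOpensRange_hom_ι]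
      _ = j.isoOpensRange.hom ≫ s := by rw [Category.assoc, h2]
      _ = _ := Iso.hom_inv_id_assoc _ _
  refine ⟨s' ≫ pullback.snd c' p, ?_, ?_⟩
  · rw [Category.assoc, ← pullback.condition, ← Category.assoc, h1, Category.id_comp]
  · rw [← Category.assoc, h3, pullback.lift_snd]

end Groth.Agent.IntSh.K877.ExtNu
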