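import Groth.Agent.RedSub.H672.MonoQP
import Groth.Agent.Ega3B.ProjProper
import Groth.Agent.CohqB.ProjBC
import Groth.Prelude.Def_RelProj

/-!
Finite schemes over projective space are projective.
-/

set_option autoImplicit false
universe u
open CategoryTheory CategoryTheory.Limits AlgebraicGeometry

namespace Groth.Agent.IntSh.K877.FinProj

open Groth.Agent.CohqB.ProjBC CohB1

theorem isHProjective_of_isFinite {k : Type u} [Field k] {T : Scheme.{u}} (M : ℕ)
    (p : T ⟶ CohB1.ProjSpace M k) [IsFinite p] :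
    RelProj.IsHProjective (p ≫ CohB1.ProjSpace.toSpec M k) := by
  have hP : ∀ m, IsProper (ProjSpaceOver.toBase m (Spec (CommRingCat.of k))) := fun m =>
    Ega3B.ProjProper.isProper_toBase m _
  have hM := hP M
  let h : T ⟶ ProjSpaceOver M (Spec (CommRingCat.of k)) := p ≫ (projSpaceOverIso M k).inv
  have hf : h ≫ ProjSpaceOver.toBase M _ = p ≫ ProjSpace.toSpec M k := by
    rw [Category.assoc, projSpaceOverIso_inv_toBase]
  have hpr : IsProper (p ≫ ProjSpace.toSpec M k) := by
    rw [← hf]; infer_instance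
  obtain ⟨n, i, hi, hi'⟩ := RedSub.H672.MonoQP.exists_immersion_of_quasiFinite (p ≫ ProjSpace.toSpec M k) h hf
  have hn := hP n
  have h1 : IsProper (i ≫ ProjSpaceOver.toBase n (Spec (CommRingCat.of k))) := by
    rw [hi']; exact hpr
  have h2 : IsProper i := IsProper.of_comp i (ProjSpaceOver.toBase n _)
  exact ⟨n, i, (IsClosedImmersion.iff_isProper_and_mono i).mpr ⟨h2, inferInstance⟩, hi'⟩

end Groth.Agent.IntSh.K877.FinProj
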