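import Mathlib.AlgebraicGeometry.AlgClosed.Basic
import Mathlib.AlgebraicGeometry.FunctionField

/-!
Closure of the closed points of a graph.
-/

set_option autoImplicit false
universe u
open CategoryTheory CategoryTheory.Limits AlgebraicGeometry

namespace Groth.Agent.IntSh.K877.GraphCl

variable {k : Type u} [Field k] [IsAlgClosed k] {X T : Scheme.{u}}
    (sX : X ⟶ Spec (CommRingCat.of k)) (sT : T ⟶ Spec (CommRingCat.of k))

/-- Over a closed point the second projection is injective. -/
theorem eq_of_snd [LocallyOfFiniteType sX] {x : X} (hx : IsClosed {x}) (z z' : ↥(pullback sX sT))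
    (h : pullback.fst sX sT z = x) (h' : pullback.fst sX sT z' = x)
    (hs : pullback.snd sX sT z = pullback.snd sX sT z') : z = z' := by
  let σ := pointOfClosedPoint sX x hx
  let s : T ⟶ pullback sX sT := pullback.lift (sT ≫ σ) (𝟙 T) (by
    rw [Category.assoc, pointOfClosedPoint_comp, Category.comp_id, Category.id_comp])
  have hsnd : s ≫ pullback.snd sX sT = 𝟙 T := pullback.lift_snd _ _ _
  have hfst : s ≫ pullback.fst sX sT = sT ≫ σ := pullback.lift_fst _ _ _
  have hpb : IsPullback s sT (pullback.fst sX sT) σ := by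
    have h1 : IsPullback (pullback.snd sX sT) (pullback.fst sX sT) sT sX :=
      (IsPullback.of_hasPullback sX sT).flip
    have h2 : IsPullback (s ≫ pullback.snd sX sT) sT sT (σ ≫ sX) := by
      rw [hsnd, pointOfClosedPoint_comp]
      exact IsPullback.of_horiz_isIso ⟨by simp⟩
    exact IsPullback.of_right h2 hfst h1
  have hr : ∀ w : ↥(pullback sX sT), pullback.fst sX sT w = x → w = s (pullback.snd sX sT w) := by
    intro w hw
    obtain ⟨t, ht, -⟩ := Scheme.exists_preimage_of_isPullback hpb w
      (IsLocalRing.closedPoint k) (by rw [hw]; exact (pointOfClosedPoint_apply sX x hx _).symm)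
    rw [← ht, ← Scheme.Hom.comp_apply s, hsnd]
    rfl
  rw [hr z h, hr z' h', hs]

theorem closure_graph {W : Scheme.{u}} [LocallyOfFiniteType sX] [IsIntegral W] (j : W ⟶ X)
    [IsOpenImmersion j] (h : W ⟶ T) (hh : j ≫ sX = h ≫ sT) :
    closure {z : ↥(pullback sX sT) | ∃ w : W, IsClosed ({j.base w} : Set X) ∧
      (pullback.fst sX sT).base z = j.base w ∧ (pullback.snd sX sT).base z = h.base w} =
    closure {(pullback.lift j h hh).base (genericPoint W)} := by
  let l := pullback.lift j h hh
  have hJ : JacobsonSpace X := LocallyOfFiniteType.jacobsonSpace sX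
  have hJW : JacobsonSpace W := JacobsonSpace.of_isOpenEmbedding j.isOpenEmbedding
  have hset : {z : ↥(pullback sX sT) | ∃ w : W, IsClosed ({j w} : Set X) ∧
      (pullback.fst sX sT) z = j w ∧ (pullback.snd sX sT) z = h w} = l '' closedPoints W := by
    rw [← j.isOpenEmbedding.preimage_closedPoints]
    ext z
    constructor
    · rintro ⟨w, hw, h1, h2⟩
      refine ⟨w, hw, ?_⟩
      refine eq_of_snd sX sT hw _ _ ?_ h1 ?_
      · rw [← Scheme.Hom.comp_apply, pullback.lift_fst]
      · rw [← Scheme.Hom.comp_apply, pullback.lift_snd, h2]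
    · rintro ⟨w, hw, rfl⟩
      refine ⟨w, hw, ?_, ?_⟩
      · rw [← Scheme.Hom.comp_apply, pullback.lift_fst]
      · rw [← Scheme.Hom.comp_apply, pullback.lift_snd]
  show closure {z : ↥(pullback sX sT) | ∃ w : W, IsClosed ({j w} : Set X) ∧
      (pullback.fst sX sT) z = j w ∧ (pullback.snd sX sT) z = h w} = closure {l (genericPoint W)}
  rw [hset]
  apply le_antisymm
  · apply closure_minimal _ isClosed_closure
    rintro _ ⟨w, -, rfl⟩
    exact ((genericPoint_specializes w).map l.continuous).mem_closure
  · apply closure_minimal _ isClosed_closure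
    rintro _ rfl
    refine image_closure_subset_closure_image l.continuous ⟨genericPoint W, ?_, rfl⟩
    rw [closure_closedPoints]
    trivial

end Groth.Agent.IntSh.K877.GraphCl
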