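import Groth.Agent.S9675
import Groth.Agent.S9673
import Groth.Agent.S0566
import Groth.Agent.S7616
import Groth.Agent.CycB.PushLocal
import Groth.Agent.IntSh.K877.ChowDim
import Groth.Agent.Ega3B.ProjProper

/-!
Normal finite models over projective space.
-/

set_option autoImplicit false
universe u
open CategoryTheory CategoryTheory.Limits AlgebraicGeometry

namespace Groth.Agent.IntSh.K877.Model

open ChowDim CohB1

theorem isNormalScheme_of_isOpenImmersion {X Y : Scheme.{u}} (f : X ⟶ Y) [IsOpenImmersion f]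
    (hY : Pi1.IsNormalScheme Y) : Pi1.IsNormalScheme X := by
  intro x
  have e : Y.presheaf.stalk (f x) ≃+* X.presheaf.stalk x := (asIso (f.stalkMap x)).commRingCatIsoToRingEquiv
  obtain ⟨h1, h2⟩ := hY (f x)
  exact ⟨e.symm.toMulEquiv.isDomain (Y.presheaf.stalk (f x)), IsIntegrallyClosed.of_equiv e⟩

theorem isNagata {k : Type u} [Field k] {P : Scheme.{u}} (s : P ⟶ Spec (CommRingCat.of k))
    [LocallyOfFiniteType s] (U : P.affineOpens) : CAlg.IsNagata Γ(P, U) := by
  have h1 : ((s.appLE ⊤ U.1 le_top).hom).FiniteType :=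
    HasRingHomProperty.appLE @LocallyOfFiniteType s inferInstance ⟨⊤, isAffineOpen_top _⟩ U le_top
  let φ : k →+* Γ(P, U.1) := ((s.appLE ⊤ U.1 le_top).hom).comp (Scheme.ΓSpecIso (CommRingCat.of k)).inv.hom
  have h2 : φ.FiniteType := h1.comp (RingHom.FiniteType.of_surjective _
    (ConcreteCategory.bijective_of_isIso (Scheme.ΓSpecIso (CommRingCat.of k)).inv).2)
  let _ : Algebra k Γ(P, U.1) := φ.toAlgebra
  have h3 : Algebra.FiniteType k Γ(P, U.1) := h2
  exact S0566.result k (S7616.isNagata_field k) Γ(P, U.1)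

theorem quasiFiniteAt_generic {X Y : Scheme.{u}} [IsIntegral X] (f : X ⟶ Y) [LocallyOfFiniteType f]
    (h : nrtd f (genericPoint X) = 0) : f.QuasiFiniteAt (genericPoint X) := by
  refine CycB.PushLocal.quasiFiniteAt_of_discrete f (f (genericPoint X)) ?_ _ rfl
  have h1 : ∀ x : X, f x = f (genericPoint X) → x = genericPoint X := by
    intro x hx
    by_contra hne
    have := nrtd_lt_of_specializes f (genericPoint_specializes x) (Ne.symm hne) hx.symm
    omega
  intro x x' _ hx hx'
  rw [h1 x hx, h1 x' hx']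

theorem exists_model {k : Type u} [Field k] {Y : Scheme.{u}} (sY : Y ⟶ Spec (CommRingCat.of k))
    [LocallyOfFiniteType sY] [IsSeparated sY] [QuasiCompact sY] (hYn : Pi1.IsNormalScheme Y)
    (V₀ : Y.Opens) [IsIntegral (V₀ : Scheme.{u})] (M : ℕ)
    (c : (V₀ : Scheme.{u}) ⟶ ProjSpace M k)
    (hc : c ≫ ProjSpace.toSpec M k = V₀.ι ≫ sY) (hq : nrtd c (genericPoint (V₀ : Scheme.{u})) = 0) :
    ∃ (T : Scheme.{u}) (p : T ⟶ ProjSpace M k) (_ : IsFinite p) (_ : IsIntegral T)
      (_ : Pi1.IsNormalScheme T) (V : Y.Opens) (_ : (V : Set Y).Nonempty) (hV : V ≤ V₀)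
      (g : (V : Scheme.{u}) ⟶ T) (_ : IsOpenImmersion g), g ≫ p = Y.homOfLE hV ≫ c := by
  have hP : IsProper (ProjSpace.toSpec M k) := Ega3B.ProjProper.isProper_toSpec M k
  have hN : IsLocallyNoetherian Y := LocallyOfFiniteType.isLocallyNoetherian sY
  have h1 : LocallyOfFiniteType (c ≫ ProjSpace.toSpec M k) := by rw [hc]; infer_instance
  have h2 : IsSeparated (c ≫ ProjSpace.toSpec M k) := by rw [hc]; infer_instance
  have h3 : QuasiCompact (c ≫ ProjSpace.toSpec M k) := by rw [hc]; infer_instance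
  have hc1 : LocallyOfFiniteType c := locallyOfFiniteType_of_comp c (ProjSpace.toSpec M k)
  have hc2 : IsSeparated c := IsSeparated.of_comp c (ProjSpace.toSpec M k)
  have hc3 : QuasiCompact c := QuasiCompact.of_comp c (ProjSpace.toSpec M k)
  have hV₀N : IsLocallyNoetherian (V₀ : Scheme.{u}) := LocallyOfFiniteType.isLocallyNoetherian (V₀.ι ≫ sY)
  have hfin : IsFinite c.fromNormalization := S9675.result c (isNagata (ProjSpace.toSpec M k))
  have hnorm := (S9673.result c (isNormalScheme_of_isOpenImmersion V₀.ι hYn)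
    (Ega1.GenPts.locallyFinite_irreducibleComponents
      (Ega1.GenPts.exists_noetherianSpace_nhds (V₀ : Scheme.{u})))).1
  have hmem : genericPoint (V₀ : Scheme.{u}) ∈ c.quasiFiniteLocus := quasiFiniteAt_generic c hq
  let Q := c.quasiFiniteLocus
  let V : Y.Opens := V₀.ι ''ᵁ Q
  have hVle : V ≤ V₀ := by
    rintro _ ⟨y, -, rfl⟩
    exact y.2
  let e : (V : Scheme.{u}) ≅ (Q : Scheme.{u}) := (V₀.ι.isoImage Q).symm
  have he : e.hom ≫ Q.ι = Y.homOfLE hVle := by
    rw [← cancel_mono V₀.ι, Scheme.homOfLE_ι, Category.assoc]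
    exact Scheme.Hom.isoImage_inv_ι _ _
  refine ⟨c.normalization, c.fromNormalization, hfin, inferInstance, hnorm, V,
    ⟨_, ⟨genericPoint (V₀ : Scheme.{u}), hmem, rfl⟩⟩, hVle, e.hom ≫ Q.ι ≫ c.toNormalization, inferInstance, ?_⟩
  rw [Category.assoc, Category.assoc, Scheme.Hom.toNormalization_fromNormalization, ← Category.assoc, he]

end Groth.Agent.IntSh.K877.Model
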