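import Groth.Agent.IntSh.K877.ChowKey
import Groth.Agent.IntSh.K877.Model
import Groth.Agent.IntSh.K877.FinProj
import Groth.Agent.IntSh.K877.ExtNu
import Groth.Agent.IntSh.K877.GraphCl

/-!
The Chow reduction.
-/

set_option autoImplicit false
set_option linter.unusedSectionVars false
universe u
open CategoryTheory CategoryTheory.Limits AlgebraicGeometry

namespace Groth.Agent.IntSh.K877.ChowMain

open ProjPt ChowNorm ChowCoord ChowFld CohB1 IsLocalRing ChowMap ChowBound ChowDim ChowGenr ChowFam ChowGr ChowRep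
open ChowSq ChowKey
open Groth.Agent.CycB.RelDim Groth.Agent.CycB.TrdegAlg Groth.Agent.CohqB.ProjBC

theorem ffMap_id {Z : Scheme.{u}} [IsIntegral Z] (h : (𝟙 Z : Z ⟶ Z) (genericPoint Z) = genericPoint Z)
    (a : Z.functionField) : (ffMap (𝟙 Z) h).hom a = a := by
  have h1 : ffMap (𝟙 Z) h = 𝟙 _ := by
    unfold ffMap stMap
    rw [Scheme.Hom.stalkMap_id]
    exact (Category.comp_id _).trans (TopCat.Presheaf.stalkSpecializes_refl _ _)
  rw [h1]
  rfl

theorem ffMap_ffMap {Z Y X : Scheme.{u}} [IsIntegral Z] [IsIntegral Y] [IsIntegral X] (f : Z ⟶ Y)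
    (hf : f (genericPoint Z) = genericPoint Y) (g : Y ⟶ X) (hg : g (genericPoint Y) = genericPoint X) (h : Z ⟶ X)
    (hh : h (genericPoint Z) = genericPoint X) (e : f ≫ g = h) (a : X.functionField) :
    (ffMap f hf).hom ((ffMap g hg).hom a) = (ffMap h hh).hom a := by
  subst e
  rw [ffMap_comp f hf g hg]
  rfl

theorem closure_graph' {k : Type u} [Field k] [IsAlgClosed k] {X T Y : Scheme.{u}}
    (sX : X ⟶ Spec (CommRingCat.of k)) (sT : T ⟶ Spec (CommRingCat.of k)) [LocallyOfFiniteType sX]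
    [LocallyOfFiniteType sT] (U : X.Opens) (f : (U : Scheme.{u}) ⟶ Y) (V : Y.Opens)
    [IsIntegral (f ⁻¹ᵁ V : Scheme.{u})] (g : (V : Scheme.{u}) ⟶ T)
    (hh : ((f ⁻¹ᵁ V).ι ≫ U.ι) ≫ sX = ((f ∣_ V) ≫ g) ≫ sT) :
    closure {z : ↥(pullback sX sT) |
        ∃ u : ↥(f ⁻¹ᵁ V), IsClosed ({U.ι u.1} : Set X) ∧
          pullback.fst _ sT z = U.ι u.1 ∧ pullback.snd _ sT z = g ⟨f u.1, u.2⟩} =
      closure {pullback.lift ((f ⁻¹ᵁ V).ι ≫ U.ι) ((f ∣_ V) ≫ g) hh
        (genericPoint (f ⁻¹ᵁ V : Scheme.{u}))} := by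
  rw [← GraphCl.closure_graph sX sT ((f ⁻¹ᵁ V).ι ≫ U.ι) ((f ∣_ V) ≫ g) hh]
  have h0 : ∀ u : ↥(f ⁻¹ᵁ V : Scheme.{u}), V.ι ((f ∣_ V) u) = f ((f ⁻¹ᵁ V).ι u) := fun u => by
    rw [← Scheme.Hom.comp_apply, morphismRestrict_ι, Scheme.Hom.comp_apply]
  have h1 : ∀ u : ↥(f ⁻¹ᵁ V), (f ∣_ V) u = (⟨f u.1, u.2⟩ : V) := fun u =>
    V.ι.isOpenEmbedding.injective (h0 u)
  congr 1
  ext z
  constructor
  · rintro ⟨u, h2, h3, h4⟩
    refine ⟨u, h2, h3, h4.trans ?_⟩
    rw [← h1 u]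
    rfl
  · rintro ⟨u, h2, h3, h4⟩
    refine ⟨u, h2, h3, h4.trans ?_⟩
    rw [← h1 u]
    rfl

theorem main
    {k : Type u} [Field k] [IsAlgClosed k] {X Y : Scheme.{u}}
    (sX : X ⟶ Spec (CommRingCat.of k)) (sY : Y ⟶ Spec (CommRingCat.of k))
    [IsIntegral X] (hX : RelProj.IsHProjective sX)
    [IsIntegral Y] (hY : RelProj.IsHProjective sY) (hYn : Pi1.IsNormalScheme Y)
    (U : X.Opens) (hU : (U : Set X).Nonempty) (f : (U : Scheme.{u}) ⟶ Y)
    (hf : f ≫ sY = U.ι ≫ sX) (hfd : DenseRange f.base) :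
    ∃ (T : Scheme.{u}) (sT : T ⟶ Spec (CommRingCat.of k)) (_ : IsIntegral T)
      (_ : RelProj.IsHProjective sT) (_ : Pi1.IsNormalScheme T)
      (V : Y.Opens) (_ : (V : Set Y).Nonempty) (g : (V : Scheme.{u}) ⟶ T) (_ : IsOpenImmersion g)
      (_ : g ≫ sT = V.ι ≫ sY),
      (∃ e : ℕ, ∀ t : T, topologicalKrullDim
          ↥(closure {z : ↥(pullback sX sT) | ∃ u : ↥(f ⁻¹ᵁ V), IsClosed ({U.ι.base u.1} : Set X) ∧
              (pullback.fst sX sT).base z = U.ι.base u.1 ∧ (pullback.snd sX sT).base z = g.base ⟨f.base u.1, u.2⟩} ∩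
            (pullback.snd sX sT).base ⁻¹' {t}) = e) ∧
      ∀ (T' : Scheme.{u}) (sT' : T' ⟶ Spec (CommRingCat.of k)) [IsIntegral T'],
        RelProj.IsHProjective sT' → Pi1.IsNormalScheme T' →
        ∀ (V' : Y.Opens), (V' : Set Y).Nonempty → ∀ (g' : (V' : Scheme.{u}) ⟶ T') [IsOpenImmersion g'],
          g' ≫ sT' = V'.ι ≫ sY →
          (∃ e' : ℕ, ∀ t' : T', topologicalKrullDim
              ↥(closure {z : ↥(pullback sX sT') | ∃ u : ↥(f ⁻¹ᵁ V'), IsClosed ({U.ι.base u.1} : Set X) ∧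
              (pullback.fst sX sT').base z = U.ι.base u.1 ∧ (pullback.snd sX sT').base z = g'.base ⟨f.base u.1, u.2⟩} ∩
                (pullback.snd sX sT').base ⁻¹' {t'}) = e') →
          ∃ ν : T' ⟶ T, ν ≫ sT = sT' ∧
            ∃ (W : Y.Opens) (hW : W ≤ V ⊓ V'), (W : Set Y).Nonempty ∧
              Y.homOfLE (le_trans hW inf_le_right) ≫ g' ≫ ν = Y.homOfLE (le_trans hW inf_le_left) ≫ g := by
  obtain ⟨n, iX, hiX, rfl⟩ := hX
  have hP : ∀ m, IsProper (ProjSpaceOver.toBase m (Spec (CommRingCat.of k))) := fun m =>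
    Ega3B.ProjProper.isProper_toBase m _
  have hproj : ∀ {T : Scheme.{u}} (sT : T ⟶ Spec (CommRingCat.of k)), RelProj.IsHProjective sT → IsProper sT := by
    rintro T sT ⟨m, i, hi, rfl⟩
    have := hP m
    infer_instance
  have hYp := hproj sY hY
  have hPn := hP n
  have hUint := isIntegral_opens U hU
  have hfg : f (genericPoint (U : Scheme.{u})) = genericPoint Y := map_genericPoint_of_dense f hfd
  have hlf : LocallyOfFiniteType f := by
    have : LocallyOfFiniteType (f ≫ sY) := by rw [hf]; infer_instance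
    exact locallyOfFiniteType_of_comp f sY
  have hWint : ∀ V : Y.Opens, (V : Set Y).Nonempty → IsIntegral (f ⁻¹ᵁ V : Scheme.{u}) := by
    intro V hV
    apply isIntegral_opens
    refine ⟨genericPoint (U : Scheme.{u}), ?_⟩
    show f (genericPoint (U : Scheme.{u})) ∈ V
    rw [hfg]
    exact ((genericPoint_spec Y).mem_open_set_iff V.2).2 (by simpa using hV)
  -- the Chow form
  obtain ⟨D⟩ := exists_coords (U.ι ≫ iX ≫ toPn n (Spec (CommRingCat.of k)))
  obtain ⟨F, hF⟩ := exists_form_geom f hfg (U.ι ≫ iX ≫ toPn n (Spec (CommRingCat.of k))) D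
    (U.ι ≫ iX ≫ ProjSpaceOver.toBase n (Spec (CommRingCat.of k))) sY hf (by
      have h1 : liftPn (U.ι ≫ iX ≫ toPn n (Spec (CommRingCat.of k)))
          (U.ι ≫ iX ≫ ProjSpaceOver.toBase n (Spec (CommRingCat.of k))) = U.ι ≫ iX := by
        apply ext_Pn
        · rw [liftPn_toPn, Category.assoc]
        · rw [liftPn_toBase, Category.assoc]
      rw [h1]
      exact residueFieldMap_surjective _ _)
  let M := deg F
  let E : Terms F M := terms F hF.1
  -- the generic Chow map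
  obtain ⟨V₀, hV₀, hrep⟩ := exists_open_rep E.a (E.ne 0)
  have hV₀int := isIntegral_opens V₀ hV₀
  obtain ⟨Φ₀, hΦ₀⟩ := hrep (map_genericPoint_of_open V₀.ι)
  have hV₀ne : Nonempty V₀ := hV₀.to_subtype
  have hrepV : ∀ (V : Y.Opens) [IsIntegral (V : Scheme.{u})] (hVle : V ≤ V₀),
      Rep (Y.homOfLE hVle ≫ Φ₀) (fun m => (ffMap V.ι (map_genericPoint_of_open V.ι)).hom (E.a m)) := by
    intro V _ hVle
    have h1 := hΦ₀.comp (Y.homOfLE hVle) (map_genericPoint_of_open _)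
    have h2 : ∀ m, (ffMap (Y.homOfLE hVle) (map_genericPoint_of_open _)).hom
        ((ffMap V₀.ι (map_genericPoint_of_open V₀.ι)).hom (E.a m)) =
        (ffMap V.ι (map_genericPoint_of_open V.ι)).hom (E.a m) := fun m =>
      ffMap_ffMap _ _ _ _ _ _ (Scheme.homOfLE_ι _ _) _
    simpa only [h2] using h1
  let c₀ : (V₀ : Scheme.{u}) ⟶ ProjSpaceOver M (Spec (CommRingCat.of k)) := liftPn Φ₀ (V₀.ι ≫ sY)
  have hc₀b : c₀ ≫ ProjSpaceOver.toBase M _ = V₀.ι ≫ sY := liftPn_toBase _ _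
  have hc₀l : LocallyOfFiniteType c₀ := by
    have : LocallyOfFiniteType (c₀ ≫ ProjSpaceOver.toBase M _) := by rw [hc₀b]; infer_instance
    exact locallyOfFiniteType_of_comp c₀ (ProjSpaceOver.toBase M _)
  have hc₀ : nrtd c₀ (genericPoint (V₀ : Scheme.{u})) = 0 := by
    have hW := hWint V₀ hV₀
    let fW : (f ⁻¹ᵁ V₀ : Scheme.{u}) ⟶ (V₀ : Scheme.{u}) := f ∣_ V₀
    let ι : (f ⁻¹ᵁ V₀ : Scheme.{u}) ⟶ (U : Scheme.{u}) := (f ⁻¹ᵁ V₀).ι
    have h1 : ι ≫ f = fW ≫ V₀.ι := (morphismRestrict_ι f V₀).symm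
    have hι : ι (genericPoint _) = genericPoint _ := map_genericPoint_of_open ι
    have hfW : fW (genericPoint _) = genericPoint _ := by
      apply V₀.ι.isOpenEmbedding.injective
      rw [← Scheme.Hom.comp_apply, ← h1, Scheme.Hom.comp_apply, hι, hfg, map_genericPoint_of_open V₀.ι]
    obtain ⟨D', F', E', hF', hE'⟩ := transport f V₀.ι (𝟙 _) ι fW (𝟙 _) fW h1 (by rw [Category.id_comp, Category.comp_id])
      hfg (map_genericPoint_of_open V₀.ι) (map_genericPoint_of_open (𝟙 _)) hι hfW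
      (map_genericPoint_of_open (𝟙 _)) hfW _ (ι ≫ U.ι ≫ iX ≫ toPn n _)
      (by rw [Category.id_comp]) D F hF E
    refine nrtd_eq_zero_of_rep fW hfW _ D' (ι ≫ U.ι ≫ iX ≫ ProjSpaceOver.toBase n _) (V₀.ι ≫ sY) ?_ ?_ ?_ F'
      ((hF'.2 F').2 dvd_rfl) E' c₀ hc₀b ?_
    · rw [← hf, ← Category.assoc, ← h1, Category.assoc]
    · exact nrtd_transport f V₀.ι (𝟙 _) ι fW (𝟙 _) fW h1 (by rw [Category.id_comp, Category.comp_id]) hι hfW
        (map_genericPoint_of_open (𝟙 _)) (𝟙 _)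
    · have h2 : liftPn (ι ≫ U.ι ≫ iX ≫ toPn n (Spec (CommRingCat.of k)))
          (ι ≫ U.ι ≫ iX ≫ ProjSpaceOver.toBase n (Spec (CommRingCat.of k))) = ι ≫ U.ι ≫ iX := by
        apply ext_Pn
        · rw [liftPn_toPn, Category.assoc, Category.assoc]
        · rw [liftPn_toBase, Category.assoc, Category.assoc]
      rw [h2]
      exact residueFieldMap_surjective _ _
    · have h2 : ∀ m, E'.a m = (ffMap V₀.ι (map_genericPoint_of_open V₀.ι)).hom (E.a m) := fun m =>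
        (ffMap_id (map_genericPoint_of_open (𝟙 _)) _).symm.trans (hE' m)
      have h3 : E'.a = fun m => (ffMap V₀.ι (map_genericPoint_of_open V₀.ι)).hom (E.a m) := funext h2
      rw [liftPn_toPn, h3]
      exact hΦ₀
  let c : (V₀ : Scheme.{u}) ⟶ ProjSpace M k := c₀ ≫ (projSpaceOverIso M k).hom
  have hc : c ≫ ProjSpace.toSpec M k = V₀.ι ≫ sY := by
    rw [Category.assoc, projSpaceOverIso_hom_toSpec, hc₀b]
  have hq : nrtd c (genericPoint (V₀ : Scheme.{u})) = 0 := by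
    rw [nrtd_comp, hc₀, nrtd_of_isPreimmersion]
  obtain ⟨T, p, hpf, hTint, hTn, V, hV, hVle, g, hgo, hgp⟩ := Model.exists_model sY hYn V₀ M c hc hq
  let sT : T ⟶ Spec (CommRingCat.of k) := p ≫ ProjSpace.toSpec M k
  have hsT : RelProj.IsHProjective sT := FinProj.isHProjective_of_isFinite M p
  have hsTp := hproj sT hsT
  have hVint := isIntegral_opens V hV
  have hg : g ≫ sT = V.ι ≫ sY := by
    rw [← Category.assoc, hgp, Category.assoc, hc, Scheme.homOfLE_ι_assoc]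
  let ΦT : T ⟶ ProjSpace M ZZ.{u} := p ≫ (projSpaceOverIso M k).inv ≫ toPn M _
  have hgΦ : g ≫ ΦT = Y.homOfLE hVle ≫ Φ₀ := by
    show g ≫ p ≫ (projSpaceOverIso M k).inv ≫ toPn M _ = _
    rw [← Category.assoc, hgp, Category.assoc]
    show _ ≫ (c₀ ≫ (projSpaceOverIso M k).hom) ≫ (projSpaceOverIso M k).inv ≫ toPn M _ = _
    rw [Category.assoc, Iso.hom_inv_id_assoc, liftPn_toPn]
  refine ⟨T, sT, hTint, hsT, hTn, V, hV, g, hgo, hg, ?_, ?_⟩
  · refine ⟨nrtd f (genericPoint (U : Scheme.{u})), fun t => ?_⟩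
    have hW := hWint V hV
    obtain ⟨Γ, hΓ, pΓ, hpΓ, hpg, cΓ, D', F', E', hcl, hF', hE', hd, hdim⟩ :=
      exists_graph iX sY U f hf hfg D F hF E sT V g hg
        (closure_graph' (iX ≫ ProjSpaceOver.toBase n _) sT U f V g (by
          rw [Category.assoc, Category.assoc, hg, morphismRestrict_ι_assoc, hf]))
    have hR : Rep ΦT E'.a := by
      refine Rep.of_comp g (map_genericPoint_of_open g) ?_ (E'.ne 0)
      rw [hgΦ]
      simpa only [hE'] using hrepV V hVle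
    refine (hdim t).trans ?_
    rw [dim_fiber_of_le pΓ hpg (fun x => by
      rw [hd]
      exact nrtd_le_of_rep pΓ hpg cΓ D' hcl F' ((hF'.2 F').2 dvd_rfl) E' ΦT hR x), hd]
  · intro T' sT' hT'int hT'p hT'n V' hV' g' hg'o hg' he'
    obtain ⟨e', he'⟩ := he'
    have hV'int := isIntegral_opens V' hV'
    have hW' := hWint V' hV'
    have hsT'p := hproj sT' hT'p
    obtain ⟨Γ, hΓ, pΓ, hpΓ, hpg, cΓ, D', F', E', hcl, hF', hE', hd, hdim⟩ :=
      exists_graph iX sY U f hf hfg D F hF E sT' V' g' hg'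
        (closure_graph' (iX ≫ ProjSpaceOver.toBase n _) sT' U f V' g' (by
          rw [Category.assoc, Category.assoc, hg', morphismRestrict_ι_assoc, hf]))
    have hdim' : ∀ t, topologicalKrullDim (pΓ.fiber t) = e' := fun t => (hdim t).symm.trans (he' t)
    obtain ⟨Φ', hΦ'⟩ := exists_rep pΓ hpg cΓ D' hT'n F' hF' E' (fun x => by
      rw [← hd]
      exact nrtd_of_dim_fiber pΓ hpg e' hdim' x)
    let c' : T' ⟶ ProjSpace M k := liftPn Φ' sT' ≫ (projSpaceOverIso M k).hom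
    have hV'' : ((V ⊓ V' : Y.Opens) : Set Y).Nonempty := by
      refine ⟨genericPoint Y, ?_, ?_⟩
      · exact ((genericPoint_spec Y).mem_open_set_iff V.2).2 (by simpa using hV)
      · exact ((genericPoint_spec Y).mem_open_set_iff V'.2).2 (by simpa using hV')
    have hV''int := isIntegral_opens (V ⊓ V') hV''
    have hV''ne : Nonempty ((V ⊓ V' : Y.Opens) : Scheme.{u}) := hV''.to_subtype
    let j₁ := Y.homOfLE (inf_le_left : V ⊓ V' ≤ V)
    let j₂ := Y.homOfLE (inf_le_right : V ⊓ V' ≤ V')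
    have hR1 : Rep (j₂ ≫ g' ≫ Φ') (fun m => (ffMap (V ⊓ V').ι (map_genericPoint_of_open _)).hom (E.a m)) := by
      have h1 := (hΦ'.comp g' (map_genericPoint_of_open g')).comp j₂ (map_genericPoint_of_open j₂)
      have h2 : ∀ m, (ffMap j₂ (map_genericPoint_of_open _)).hom
          ((ffMap g' (map_genericPoint_of_open g')).hom (E'.a m)) =
          (ffMap (V ⊓ V').ι (map_genericPoint_of_open _)).hom (E.a m) := fun m => by
        rw [hE' m]
        exact ffMap_ffMap _ _ _ _ _ _ (Scheme.homOfLE_ι _ _) _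
      simpa only [h2] using h1
    have hR2 : Rep (j₁ ≫ g ≫ ΦT) (fun m => (ffMap (V ⊓ V').ι (map_genericPoint_of_open _)).hom (E.a m)) := by
      rw [hgΦ, ← Category.assoc, Scheme.homOfLE_homOfLE]
      exact hrepV _ _
    have hjc : (j₂ ≫ g') ≫ c' = (j₁ ≫ g) ≫ p := by
      rw [← cancel_mono (projSpaceOverIso M k).inv]
      apply ext_Pn
      · have h3 := hR1.unique hR2
        simp only [c', Category.assoc, Iso.hom_inv_id_assoc, liftPn_toPn]
        exact h3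
      · simp only [c', Category.assoc, projSpaceOverIso_inv_toBase, projSpaceOverIso_hom_toSpec, liftPn_toBase]
        rw [hg']
        refine Eq.trans ?_ (congrArg (j₁ ≫ ·) hg).symm
        rw [Scheme.homOfLE_ι_assoc, Scheme.homOfLE_ι_assoc]
    obtain ⟨ν, hν1, hν2⟩ := ExtNu.exists_nu p c' hT'n _ (j₂ ≫ g') (j₁ ≫ g) hjc
    refine ⟨ν, ?_, V ⊓ V', le_rfl, hV'', ?_⟩
    · show ν ≫ p ≫ ProjSpace.toSpec M k = sT'
      rw [← Category.assoc, hν1, Category.assoc, projSpaceOverIso_hom_toSpec, liftPn_toBase]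
    · rw [← Category.assoc]
      exact hν2

end Groth.Agent.IntSh.K877.ChowMain
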