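import Groth.Agent.IntSh.K877.ChowFld
import Groth.Agent.Ega3B.ProjProper

/-!
The Chow map to projective space.
-/

set_option autoImplicit false
set_option linter.unusedSectionVars false
universe u
open CategoryTheory CategoryTheory.Limits AlgebraicGeometry

namespace Groth.Agent.IntSh.K877.ChowMap

open ProjPt ChowNorm ChowCoord ChowFld CohB1 IsLocalRing
open Groth.Agent.CycB.RelDim Groth.Agent.CycB.TrdegAlg

/-- The integers. -/
abbrev ZZ : Type u := ULift.{u} ℤ

theorem zz_ext {C : Type u} [CommRing C] (f g : ZZ.{u} →+* C) : f = g := by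
  have h : f.comp ULift.ringEquiv.symm.toRingHom = g.comp ULift.ringEquiv.symm.toRingHom := RingHom.ext_int _ _
  ext ⟨a⟩
  exact congrArg (fun h => h a) h

/-- The structure map. -/
noncomputable def zb (C : Type u) [CommRing C] : ZZ.{u} →+* C := (Int.castRingHom C).comp ULift.ringEquiv.toRingHom

section norm

variable {Z Y : Scheme.{u}} [IsIntegral Z] [IsIntegral Y]

theorem exists_norm_at {ι ℓ : Type} [Fintype ι] [DecidableEq ι] [Fintype ℓ] [DecidableEq ℓ]
    (π : Z ⟶ Y) [IsProper π] (hπ : π (genericPoint Z) = genericPoint Y) (τ : ℓ → Z.functionField)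
    (hτ : IsCoord τ) (j₀ : ℓ) (h0 : τ j₀ = 1)
    (F : MvPolynomial (ι × ℓ) Y.functionField) (hF : IsForm (ffMap π hπ).hom τ j₀ F) (y : Y)
    (hN : IsIntegrallyClosed (Y.presheaf.stalk y)) (hfib : ∀ x : Z, π x = y → rtd π x < (Fintype.card ι : Cardinal)) :
    ∃ α, F.coeff α ≠ 0 ∧ ∀ β, ∃ s : Y.presheaf.stalk y, (toFF y).hom s = F.coeff β / F.coeff α := by
  obtain ⟨E, hE, hE0⟩ := exists_unit_coeff (ι := ι) π hπ τ hτ j₀ h0 y hfib
  have h1 : MvPolynomial.eval₂Hom (MvPolynomial.C.comp (ffMap π hπ).hom) (ChowIndep.W τ j₀)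
      (MvPolynomial.map (toFF y).hom E) = 0 := by
    rw [ChowRed.eval_map]
    exact hE0
  obtain ⟨H, hH⟩ := (hF.2 _).1 h1
  exact ChowGauss.exists_normalized (O := Y.presheaf.stalk y) (K := Y.functionField) F H E hH hE

end norm

section map

variable {Y : Scheme.{u}} [IsIntegral Y] {M : ℕ}

/-- local normalizability of coordinates. -/
def Normalizable (a : Fin (M + 1) → Y.functionField) (y : Y) : Prop :=
  ∃ m₀, ∀ m, ∃ s : Y.presheaf.stalk y, (toFF y).hom s = a m / a m₀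

/-- The morphism to projective space. -/
theorem exists_map (a : Fin (M + 1) → Y.functionField) (ha : ∀ m, a m ≠ 0) (hnorm : ∀ y, Normalizable a y) :
    ∃ φ : Y ⟶ ProjSpace M ZZ.{u}, ∀ (y : Y) (m₀ : Fin (M + 1)) (s : Fin (M + 1) → Y.presheaf.stalk y)
      (hs : s m₀ = 1), (∀ m, (toFF y).hom (s m) = a m / a m₀) →
      Y.fromSpecStalk y ≫ φ = coordPt (zb _) s m₀ (by rw [hs]; exact isUnit_one) := by
  have hproper := Ega3B.ProjProper.isProper_toSpec M ZZ.{u}
  have hsep : (ProjSpace M ZZ.{u}).IsSeparated := by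
    have h1 : IsSeparated (ProjSpace.toSpec M ZZ.{u} ≫ terminal.from _) := inferInstance
    rw [terminal.comp_from] at h1
    exact ⟨h1⟩
  have ha' : ∀ m, IsUnit (a m) := fun m => Ne.isUnit (ha m)
  let g : Spec (CommRingCat.of Y.functionField) ⟶ ProjSpace M ZZ.{u} := coordPt (zb _) a 0 (ha' 0)
  -- comparison
  have key : ∀ (y : Y) (m₀ : Fin (M + 1)) (s : Fin (M + 1) → Y.presheaf.stalk y) (hs : s m₀ = 1),
      (∀ m, (toFF y).hom (s m) = a m / a m₀) →
      Spec.map (CommRingCat.ofHom (toFF y).hom) ≫ coordPt (zb _) s m₀ (by rw [hs]; exact isUnit_one) = g := by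
    intro y m₀ s hs h
    rw [coordPt_map]
    have h1 : (fun l => (toFF y).hom (s l)) = fun l => (a m₀)⁻¹ * a l := by
      funext l
      rw [h, div_eq_inv_mul]
    have h2 : IsUnit ((a m₀)⁻¹ * a m₀) := by
      have : (a m₀)⁻¹ * a m₀ = 1 := inv_mul_cancel₀ (ha m₀)
      rw [this]; exact isUnit_one
    have h3 := coordPt_scale (zb.{u} Y.functionField) a m₀ (ha' m₀) (a m₀)⁻¹ h2
    have h4 := coordPt_indep (zb.{u} Y.functionField) a m₀ 0 (ha' m₀) (ha' 0)
    refine Eq.trans ?_ (h3.trans h4)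
    congr 1
    exact zz_ext _ _
  obtain ⟨φ, hφ⟩ := GlueMap.exists_glue (specULiftZIsTerminal.from Y) (ProjSpace.toSpec M ZZ.{u}) g
    (specULiftZIsTerminal.hom_ext _ _) (by
      intro y
      obtain ⟨m₀, h⟩ := hnorm y
      choose s hs using h
      have hs1 : s m₀ = 1 := toFF_injective y (by
        rw [hs, map_one]
        exact div_self (ha m₀))
      exact ⟨coordPt (zb _) s m₀ (by rw [hs1]; exact isUnit_one), specULiftZIsTerminal.hom_ext _ _,
        key y m₀ s hs1 hs⟩)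
  refine ⟨φ, fun y m₀ s hs h => ?_⟩
  apply GlueMap.stalk_hom_ext
  have h1 := key y m₀ s hs h
  rw [← Category.assoc, Scheme.SpecMap_stalkSpecializes_fromSpecStalk, hφ]
  exact h1.symm

/-- Descent of the reduced coordinates to the residue field of the image. -/
theorem exists_descend {T : Scheme.{u}} (φ : Y ⟶ ProjSpace M ZZ.{u}) (y : Y) (m₀ : Fin (M + 1))
    (s : Fin (M + 1) → Y.presheaf.stalk y) (hs : s m₀ = 1)
    (h : Y.fromSpecStalk y ≫ φ = coordPt (zb _) s m₀ (by rw [hs]; exact isUnit_one))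
    (Φ : Y ⟶ T) (q : T ⟶ ProjSpace M ZZ.{u}) (hΦ : Φ ≫ q = φ) :
    ∃ t : Fin (M + 1) → T.residueField (Φ y), ∀ m, (Φ.residueFieldMap y).hom (t m) = (Y.residue y).hom (s m) := by
  let q' : Spec (CommRingCat.of (T.residueField (Φ y))) ⟶ ProjSpace M ZZ.{u} :=
    T.fromSpecResidueField (Φ y) ≫ q
  obtain ⟨j, β, ξ, hξ, hq'⟩ := exists_coordPt q'
  have h1 : Spec.map (CommRingCat.ofHom (Φ.residueFieldMap y).hom) ≫
      coordPt β ξ j (by rw [hξ]; exact isUnit_one) =
      Spec.map (CommRingCat.ofHom (Y.residue y).hom) ≫ coordPt (zb _) s m₀ (by rw [hs]; exact isUnit_one) := by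
    rw [← hq', ← h]
    show Spec.map (Φ.residueFieldMap y) ≫ T.fromSpecResidueField (Φ y) ≫ q =
      Spec.map (Y.residue y) ≫ Y.fromSpecStalk y ≫ φ
    rw [Scheme.Hom.SpecMap_residueFieldMap_fromSpecResidueField_assoc, hΦ, ← Category.assoc]
    rfl
  rw [coordPt_map, coordPt_map] at h1
  obtain ⟨-, c, hc, h2⟩ := coordPt_eq_imp (Field.toIsField (Y.residueField y)) h1
  have h3 : ((Φ.residueFieldMap y).hom (ξ m₀)) ≠ 0 := by
    intro h0
    have := h2 m₀
    rw [hs, map_one, h0, mul_zero] at this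
    exact one_ne_zero this
  have h4 : ξ m₀ ≠ 0 := fun h0 => h3 (by rw [h0, map_zero])
  refine ⟨fun m => ξ m / ξ m₀, fun m => ?_⟩
  rw [map_div₀, h2]
  have h5 : c * (Φ.residueFieldMap y).hom (ξ m₀) = 1 := by
    rw [← h2, hs, map_one]
  rw [div_eq_iff h3]
  calc (Φ.residueFieldMap y).hom (ξ m) = (c * (Φ.residueFieldMap y).hom (ξ m₀)) * (Φ.residueFieldMap y).hom (ξ m) := by
        rw [h5, one_mul]
    _ = _ := by ring

end map

end Groth.Agent.IntSh.K877.ChowMap
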