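import Groth.Agent.IntSh.K877.ChowVal
import Groth.Agent.CycB.RelDim4

/-!
Normalizability of the Chow form at a point.
-/

set_option autoImplicit false
universe u
open CategoryTheory CategoryTheory.Limits AlgebraicGeometry

namespace Groth.Agent.IntSh.K877.ChowNorm

open ChowIndep IsLocalRing

variable {X Y : Scheme.{u}}

/-- The stalk map at a point with prescribed image. -/
noncomputable def stMap (π : X ⟶ Y) {x : X} {y : Y} (h : π x = y) :
    Y.presheaf.stalk y ⟶ X.presheaf.stalk x :=
  Y.presheaf.stalkSpecializes (specializes_of_eq h) ≫ π.stalkMap x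

/-- The map of function fields. -/
noncomputable def ffMap [IsIntegral X] [IsIntegral Y] (π : X ⟶ Y) (hπ : π (genericPoint X) = genericPoint Y) :
    Y.functionField ⟶ X.functionField := stMap π hπ

/-- stalk to function field. -/
noncomputable abbrev toFF [IsIntegral X] (x : X) : X.presheaf.stalk x ⟶ X.functionField :=
  X.presheaf.stalkSpecializes ((genericPoint_spec X).specializes trivial)

theorem algebraMap_eq [IsIntegral X] (x : X) :
    algebraMap (X.presheaf.stalk x) X.functionField = (toFF x).hom := rfl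

theorem isLocalHom_stMap (π : X ⟶ Y) {x : X} {y : Y} (h : π x = y) : IsLocalHom (stMap π h).hom := by
  subst h
  have : stMap π (rfl : π x = π x) = π.stalkMap x := by
    rw [stMap, TopCat.Presheaf.stalkSpecializes_refl, Category.id_comp]
  rw [this]
  infer_instance

theorem stMap_toFF [IsIntegral X] [IsIntegral Y] (π : X ⟶ Y) (hπ : π (genericPoint X) = genericPoint Y)
    {x : X} {y : Y} (h : π x = y) : stMap π h ≫ toFF x = toFF y ≫ ffMap π hπ := by
  rw [ffMap, stMap, stMap, toFF, toFF, Category.assoc,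
    ← Scheme.Hom.stalkSpecializes_stalkMap, ← Category.assoc, ← Category.assoc,
    TopCat.Presheaf.stalkSpecializes_comp, TopCat.Presheaf.stalkSpecializes_comp]

theorem exists_lift (π : X ⟶ Y) [IsProper π] {M : Type u} [Field M] (V : ValuationSubring M)
    (i₁ : Spec (.of M) ⟶ X) (i₂ : Spec (.of V) ⟶ Y)
    (hsq : i₁ ≫ π = Spec.map (CommRingCat.ofHom (algebraMap V M)) ≫ i₂) :
    ∃ l : Spec (.of V) ⟶ X, Spec.map (CommRingCat.ofHom (algebraMap V M)) ≫ l = i₁ ∧ l ≫ π = i₂ := by
  have hval : ValuativeCriterion π := by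
    have h2 : (@IsProper) π := inferInstance
    rw [IsProper.eq_valuativeCriterion] at h2
    exact h2.1.1.1
  have hlift := hval.existence ⟨V, M, i₁, i₂, ⟨hsq⟩⟩
  obtain ⟨⟨l, hl1, hl2⟩⟩ := hlift.exists_lift
  exact ⟨l, hl1, hl2⟩

/-- Existence of a centre. -/
theorem exists_center [IsIntegral X] [IsIntegral Y] (π : X ⟶ Y) [IsProper π]
    (hπ : π (genericPoint X) = genericPoint Y) {M : Type u} [Field M] (g : X.functionField ⟶ CommRingCat.of M)
    (V : ValuationSubring M) (y : Y) (a : Y.presheaf.stalk y ⟶ CommRingCat.of V) (hloc : IsLocalHom a.hom)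
    (ha : a ≫ CommRingCat.ofHom (algebraMap V M) = toFF y ≫ ffMap π hπ ≫ g) :
    ∃ (x : X) (hx : π x = y) (φ : X.presheaf.stalk x ⟶ CommRingCat.of V), IsLocalHom φ.hom ∧
      φ ≫ CommRingCat.ofHom (algebraMap V M) = toFF x ≫ g ∧ stMap π hx ≫ φ = a := by
  let i₁ : Spec (.of M) ⟶ X := Spec.map g ≫ X.fromSpecStalk (genericPoint X)
  let i₂ : Spec (.of V) ⟶ Y := Spec.map a ≫ Y.fromSpecStalk y
  have hy : π (genericPoint X) ⤳ y := by
    rw [hπ]; exact (genericPoint_spec Y).specializes trivial
  have h0 : Y.presheaf.stalkSpecializes hy ≫ π.stalkMap (genericPoint X) = toFF y ≫ ffMap π hπ := by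
    rw [ffMap, stMap, ← Category.assoc, TopCat.Presheaf.stalkSpecializes_comp]
  have hsq : i₁ ≫ π = Spec.map (CommRingCat.ofHom (algebraMap V M)) ≫ i₂ := by
    simp only [i₁, i₂, Category.assoc]
    rw [← Scheme.SpecMap_stalkMap_fromSpecStalk, ← Scheme.SpecMap_stalkSpecializes_fromSpecStalk hy,
      ← Spec.map_comp_assoc, ← Spec.map_comp_assoc, ← Spec.map_comp_assoc, ha, ← Category.assoc, h0,
      Category.assoc]
  obtain ⟨l, hl1, hl2⟩ := exists_lift π V i₁ i₂ hsq
  let x : X := l (closedPoint V)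
  let φ : X.presheaf.stalk x ⟶ CommRingCat.of V := Scheme.stalkClosedPointTo l
  have hφl : Spec.map φ ≫ X.fromSpecStalk x = l := Scheme.Spec_stalkClosedPointTo_fromSpecStalk l
  have hφloc : IsLocalHom φ.hom := Scheme.isLocalHom_stalkClosedPointTo' l
  have hx : π x = y := by
    have h3 : ∀ z : Spec (CommRingCat.of V), (l ≫ π) z = i₂ z := by rw [hl2]; exact fun _ => rfl
    have h4 : ∀ z : Spec (CommRingCat.of V), i₂ z = Y.fromSpecStalk y (Spec.map a z) := fun _ => rfl
    exact (h3 _).trans ((h4 _).trans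
      ((congrArg _ Spec_closedPoint).trans Scheme.fromSpecStalk_closedPoint))
  have hφ : φ ≫ CommRingCat.ofHom (algebraMap V M) = toFF x ≫ g := by
    apply Spec.map_injective
    rw [← cancel_mono (X.fromSpecStalk x), Spec.map_comp, Spec.map_comp, Category.assoc, hφl,
      Category.assoc, Scheme.SpecMap_stalkSpecializes_fromSpecStalk]
    exact hl1
  refine ⟨x, hx, φ, hφloc, hφ, ?_⟩
  have hinj : Function.Injective (algebraMap V M) := Subtype.val_injective
  have h5 : (stMap π hx ≫ φ) ≫ CommRingCat.ofHom (algebraMap V M) =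
      a ≫ CommRingCat.ofHom (algebraMap V M) := by
    rw [Category.assoc, hφ, ha, ← Category.assoc, stMap_toFF, Category.assoc]
  ext s : 2
  exact hinj (congrArg (fun h => h.hom s) h5)

open Groth.Agent.CycB.RelDim Groth.Agent.CycB.TrdegAlg

theorem trd_stMap (π : X ⟶ Y) {x : X} {y : Y} (h : π x = y) [IsLocalHom (stMap π h).hom] :
    trd (ResidueField.map (stMap π h).hom) = rtd π x := by
  subst h
  rw [rtd]
  congr 1
  have h1 : stMap π (rfl : π x = π x) = π.stalkMap x := by
    rw [stMap, TopCat.Presheaf.stalkSpecializes_refl, Category.id_comp]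
  ext a
  obtain ⟨a, rfl⟩ := residue_surjective a
  show residue _ ((stMap π (rfl : π x = π x)).hom a) = residue _ ((π.stalkMap x).hom a)
  rw [h1]

/-- Homogeneous coordinates on an integral scheme. -/
def IsCoord [IsIntegral X] {ℓ : Type} (τ : ℓ → X.functionField) : Prop :=
  ∀ x : X, ∃ j, τ j ≠ 0 ∧ ∀ l, ∃ s : X.presheaf.stalk x, (toFF x).hom s = τ l / τ j

theorem toFF_injective [IsIntegral X] (x : X) : Function.Injective (toFF x).hom :=
  IsFractionRing.injective (X.presheaf.stalk x) X.functionField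

/-- The kernel of the Chow map contains polynomials with a unit coefficient. -/
theorem exists_unit_coeff {ι ℓ : Type} [Fintype ι] [DecidableEq ι] [Fintype ℓ] [DecidableEq ℓ]
    [IsIntegral X] [IsIntegral Y] (π : X ⟶ Y) [IsProper π]
    (hπ : π (genericPoint X) = genericPoint Y) (τ : ℓ → X.functionField) (hτ : IsCoord τ) (j₀ : ℓ)
    (h0 : τ j₀ = 1) (y : Y) (hfib : ∀ x : X, π x = y → rtd π x < (Fintype.card ι : Cardinal)) :
    ∃ E : MvPolynomial (ι × ℓ) (Y.presheaf.stalk y), (∃ γ, IsUnit (E.coeff γ)) ∧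
      MvPolynomial.eval₂Hom (MvPolynomial.C.comp (toFF y ≫ ffMap π hπ).hom) (W τ j₀) E = 0 := by
  by_contra hcon
  obtain ⟨M, hM, g, V, fV, hfV, hC, hsum⟩ := ChowVal.exists_valuation (toFF y ≫ ffMap π hπ).hom τ j₀ h0 hcon
  let a : Y.presheaf.stalk y ⟶ CommRingCat.of V := CommRingCat.ofHom (fV.comp MvPolynomial.C)
  have haloc : IsLocalHom a.hom := by
    constructor
    intro s hs
    by_contra h
    have h1 : fV (MvPolynomial.C s) ∈ maximalIdeal V := by
      rw [hfV, MvPolynomial.map_C, (residue_eq_zero_iff _).2 ((mem_maximalIdeal _).2 h), map_zero]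
    exact (mem_maximalIdeal _).1 h1 hs
  have ha : a ≫ CommRingCat.ofHom (algebraMap V M) = toFF y ≫ ffMap π hπ ≫ CommRingCat.ofHom g := by
    ext s
    exact hC s
  obtain ⟨x, hx, φ, hφloc, hφ, hφa⟩ := exists_center π hπ (CommRingCat.ofHom g) V y a haloc ha
  obtain ⟨j, hj, ht⟩ := hτ x
  choose t ht using ht
  have htj : t j = 1 := toFF_injective x (by rw [ht, map_one, div_self hj])
  have hlocst : IsLocalHom (stMap π hx).hom := isLocalHom_stMap π hx
  have hfC : ∀ s, fV (MvPolynomial.C s) = φ.hom ((stMap π hx).hom s) := fun s =>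
    (congrArg (fun h => h.hom s) hφa).symm
  have hVinj : Function.Injective (algebraMap V M) := Subtype.val_injective
  have hφ' : ∀ s, algebraMap V M (φ.hom s) = g ((toFF x).hom s) := fun s => congrArg (fun h => h.hom s) hφ
  have hrel : ∀ i, ∑ l, φ.hom (t l) * fV (MvPolynomial.X (i, l)) = 0 := by
    intro i
    apply hVinj
    rw [map_sum, map_zero]
    have h2 : ∀ l, algebraMap V M (φ.hom (t l) * fV (MvPolynomial.X (i, l))) =
        g ((τ j)⁻¹) * (g (τ l) * (fV (MvPolynomial.X (i, l)) : M)) := by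
      intro l
      rw [map_mul, hφ', ht, div_eq_inv_mul]
      have h3 : g ((τ j)⁻¹ * τ l) = g ((τ j)⁻¹) * g (τ l) := g.map_mul _ _
      rw [← mul_assoc, ← h3]
      rfl
    rw [Finset.sum_congr rfl fun l _ => h2 l, ← Finset.mul_sum, hsum, mul_zero]
  have hle := ChowVal.card_le' (stMap π hx).hom φ.hom fV hfC (fun P hP => (hfV P).1 hP) t j htj hrel
  rw [trd_stMap] at hle
  exact absurd hle (not_le.2 (hfib x hx))

end Groth.Agent.IntSh.K877.ChowNorm
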