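import Groth.Agent.IntSh.K877.ChowForm
import Groth.Agent.IntSh.K877.ChowCoord

/-!
Reduction of the Chow form at a point.
-/

set_option autoImplicit false
universe u

namespace Groth.Agent.IntSh.K877.ChowRed

open MvPolynomial ChowIndep

variable {ι ℓ : Type} [Fintype ℓ] [DecidableEq ℓ]

theorem map_W {B B' : Type*} [CommRing B] [CommRing B'] (f : B →+* B') (t : ℓ → B) (j : ℓ) (p : ι × ℓ) :
    MvPolynomial.map f (W t j p) = W (fun l => f (t l)) j p := by
  obtain ⟨i, l⟩ := p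
  by_cases hl : l = j
  · subst hl
    rw [W_same, W_same, map_neg, map_sum]
    simp only [map_mul, MvPolynomial.map_C, MvPolynomial.map_X]
  · rw [W_ne _ hl, W_ne _ hl, MvPolynomial.map_X]

theorem map_eval {A B B' : Type*} [CommRing A] [CommRing B] [CommRing B'] (θ : A →+* B) (f : B →+* B')
    (t : ℓ → B) (j : ℓ) (P : MvPolynomial (ι × ℓ) A) :
    MvPolynomial.map f (eval₂Hom (C.comp θ) (W t j) P) =
      eval₂Hom (C.comp (f.comp θ)) (W (fun l => f (t l)) j) P := by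
  have h : (MvPolynomial.map f).comp (eval₂Hom (C.comp θ) (W t j)) =
      eval₂Hom (C.comp (f.comp θ)) (W (ι := ι) (fun l => f (t l)) j) := by
    refine MvPolynomial.ringHom_ext (fun r => ?_) fun p => ?_
    · simp
    · simp [map_W]
  exact congrArg (fun g => g P) h

theorem eval_map {A A' B : Type*} [CommRing A] [CommRing A'] [CommRing B] (θ : A' →+* B) (f : A →+* A')
    (t : ℓ → B) (j : ℓ) (P : MvPolynomial (ι × ℓ) A) :
    eval₂Hom (C.comp θ) (W t j) (MvPolynomial.map f P) = eval₂Hom (C.comp (θ.comp f)) (W t j) P := by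
  have h : (eval₂Hom (C.comp θ) (W t j)).comp (MvPolynomial.map f) =
      eval₂Hom (C.comp (θ.comp f)) (W (ι := ι) t j) := by
    refine MvPolynomial.ringHom_ext (fun r => ?_) fun p => ?_ <;> simp
  exact congrArg (fun g => g P) h

theorem eval_change {A B : Type u} [CommRing A] [CommRing B] (θ : A →+* B) (τ : ℓ → B) (j₀ : ℓ) (h0 : τ j₀ = 1)
    (P : MvPolynomial (ι × ℓ) A) (hP : eval₂Hom (C.comp θ) (W τ j₀) P = 0) (t : ℓ → B) (j : ℓ) (ht : t j = 1)
    (c : B) (hc : ∀ l, τ l = c * t l) : eval₂Hom (C.comp θ) (W t j) P = 0 := by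
  let _ : Algebra A B := θ.toAlgebra
  have h1 : aeval (W τ j₀) P = 0 := hP
  refine aeval_eq_zero (D := MvPolynomial (ι × ℓ) B) τ h0 P h1 (W t j) fun i => ?_
  have h2 := rel_W (ι := ι) t ht i
  have h3 : ∑ l, algebraMap B (MvPolynomial (ι × ℓ) B) (τ l) * W t j (i, l) =
      C c * ∑ l, C (t l) * W t j (i, l) := by
    rw [Finset.mul_sum]
    refine Finset.sum_congr rfl fun l _ => ?_
    rw [MvPolynomial.algebraMap_eq, hc, C_mul, mul_assoc]
  rw [h3, h2, mul_zero]

/-- vanishing of the normalized form over the local ring upstairs. -/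
theorem eval_local {Oy Ox K L : Type u} [CommRing Oy] [CommRing Ox] [CommRing K] [CommRing L] (a : Oy →+* K)
    (b : Ox →+* L) (hb : Function.Injective b) (ρ : Oy →+* Ox) (θ : K →+* L) (hcomm : θ.comp a = b.comp ρ)
    (τ : ℓ → L) (j₀ : ℓ) (h0 : τ j₀ = 1) (F : MvPolynomial (ι × ℓ) K)
    (hF : eval₂Hom (C.comp θ) (W τ j₀) F = 0) (s : ℓ → Ox) (j : ℓ) (hs : s j = 1) (c : L)
    (hc : ∀ l, τ l = c * b (s l)) (F₁ : MvPolynomial (ι × ℓ) Oy) (μ : K) (hμ : MvPolynomial.map a F₁ = C μ * F) :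
    eval₂Hom (C.comp ρ) (W s j) F₁ = 0 := by
  apply MvPolynomial.map_injective b hb
  rw [map_eval, map_zero, ← hcomm, ← eval_map, hμ, map_mul,
    eval_change θ τ j₀ h0 F hF (fun l => b (s l)) j (by rw [hs, map_one]) c hc, mul_zero]

open IsLocalRing in
/-- vanishing of the reduced form. -/
theorem eval_residue {Oy Ox κ : Type u} [CommRing Oy] [IsLocalRing Oy] [CommRing Ox] [IsLocalRing Ox] [Field κ]
    (ρ : Oy →+* Ox) [IsLocalHom ρ] (s : ℓ → Ox) (j : ℓ) (F₁ : MvPolynomial (ι × ℓ) Oy)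
    (h : eval₂Hom (C.comp ρ) (W s j) F₁ = 0) (σ : κ →+* ResidueField Oy) (G : MvPolynomial (ι × ℓ) κ)
    (hG : MvPolynomial.map σ G = MvPolynomial.map (residue Oy) F₁) :
    eval₂Hom (C.comp ((ResidueField.map ρ).comp σ)) (W (fun l => residue Ox (s l)) j) G = 0 := by
  rw [← eval_map, hG, eval_map]
  have h1 : (ResidueField.map ρ).comp (residue Oy) = (residue Ox).comp ρ := rfl
  rw [h1, ← map_eval, h, map_zero]

/-- bound for the transcendence degree. -/
theorem trdeg_lt [Fintype ι] [DecidableEq ι] {κ κ' : Type u} [Field κ] [Field κ'] [Algebra κ κ'] (ζ : ℓ → κ') (j : ℓ)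
    (hj : ζ j = 1) (G : MvPolynomial (ι × ℓ) κ) (hG : G ≠ 0)
    (h : eval₂Hom (C.comp (algebraMap κ κ')) (W ζ j) G = 0)
    (hgen : IntermediateField.adjoin κ (Set.range ζ) = ⊤) :
    Algebra.trdeg κ κ' < (Fintype.card ι : Cardinal) := by
  by_contra hcon
  rw [not_lt] at hcon
  obtain ⟨e, he⟩ := ChowCoord.exists_indep_coords ζ hgen _ hcon
  exact ChowForm.not_indep ζ j hj G hG h e he

end Groth.Agent.IntSh.K877.ChowRed
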