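import Groth.Agent.IntSh.K877.ChowGr
import Groth.Prelude.Def_Pi1

/-!
Morphisms to projective space given by the coefficients of the Chow form.
-/

set_option autoImplicit false
set_option linter.unusedSectionVars false
universe u
open CategoryTheory CategoryTheory.Limits AlgebraicGeometry

namespace Groth.Agent.IntSh.K877.ChowRep

open ProjPt ChowNorm ChowCoord ChowFld CohB1 IsLocalRing ChowMap ChowBound ChowDim ChowGenr ChowFam ChowGr
open Groth.Agent.CycB.RelDim Groth.Agent.CycB.TrdegAlg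

variable {B B' : Scheme.{u}} [IsIntegral B] [IsIntegral B'] {M : ℕ}

/-- `Φ` is given by `a` at the generic point. -/
def Rep (Φ : B ⟶ ProjSpace M ZZ.{u}) (a : Fin (M + 1) → B.functionField) : Prop :=
  ∃ h : IsUnit (a 0), B.fromSpecStalk (genericPoint B) ≫ Φ = coordPt (zb B.functionField) a 0 h

instance isSeparated_projSpace : (ProjSpace M ZZ.{u}).IsSeparated := by
  have hproper := Ega3B.ProjProper.isProper_toSpec M ZZ.{u}
  have h1 : IsSeparated (ProjSpace.toSpec M ZZ.{u} ≫ terminal.from _) := inferInstance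
  rw [terminal.comp_from] at h1
  exact ⟨h1⟩

theorem Rep.comp {Φ : B ⟶ ProjSpace M ZZ.{u}} {a : Fin (M + 1) → B.functionField} (h : Rep Φ a) (w : B' ⟶ B)
    (hw : w (genericPoint B') = genericPoint B) : Rep (w ≫ Φ) (fun m => (ffMap w hw).hom (a m)) := by
  obtain ⟨h0, h⟩ := h
  refine ⟨h0.map (ffMap w hw).hom, ?_⟩
  have h1 := coordPt_map (ffMap w hw).hom (zb.{u} B.functionField) a 0 h0
  rw [← h] at h1
  rw [← Category.assoc, ← fromSpecStalk_ffMap w hw, Category.assoc]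
  refine h1.trans ?_
  congr 1
  exact zz_ext _ _

theorem Rep.unique {Φ Φ' : B ⟶ ProjSpace M ZZ.{u}} {a : Fin (M + 1) → B.functionField} (h : Rep Φ a)
    (h' : Rep Φ' a) : Φ = Φ' := by
  obtain ⟨h0, h⟩ := h
  obtain ⟨h0', h'⟩ := h'
  exact GlueMap.hom_ext_generic _ _ (h.trans h'.symm)

theorem Rep.of_comp {Φ : B ⟶ ProjSpace M ZZ.{u}} {a : Fin (M + 1) → B.functionField} (w : B' ⟶ B)
    (hw : w (genericPoint B') = genericPoint B) [IsOpenImmersion w]
    (h : Rep (w ≫ Φ) (fun m => (ffMap w hw).hom (a m))) (h0 : a 0 ≠ 0) : Rep Φ a := by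
  obtain ⟨h1, h⟩ := h
  refine ⟨Ne.isUnit h0, ?_⟩
  have hiso : IsIso (ffMap w hw) := by
    rw [ConcreteCategory.isIso_iff_bijective]
    exact ffMap_bijective w hw
  rw [← cancel_epi (Spec.map (ffMap w hw)), ← Category.assoc, fromSpecStalk_ffMap, Category.assoc, h]
  have h2 := coordPt_map (ffMap w hw).hom (zb.{u} B.functionField) a 0 (Ne.isUnit h0)
  refine Eq.trans ?_ h2.symm
  congr 1
  exact zz_ext _ _

theorem Rep.exists_local {Φ : B ⟶ ProjSpace M ZZ.{u}} {a : Fin (M + 1) → B.functionField} (h : Rep Φ a) (y : B) :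
    ∃ (m₀ : Fin (M + 1)) (s : Fin (M + 1) → B.presheaf.stalk y) (hs : s m₀ = 1),
      B.fromSpecStalk y ≫ Φ = coordPt (zb _) s m₀ (by rw [hs]; exact isUnit_one) ∧
      ∀ m, (toFF y).hom (s m) = a m / a m₀ := by
  obtain ⟨h0, h⟩ := h
  obtain ⟨D⟩ := exists_coords Φ
  obtain ⟨j, β, s, hs, h1, h2, h3⟩ := D.exists_local y
  have h4 : coordPt D.β D.τ D.j₀ (by rw [D.hτ]; exact isUnit_one) = coordPt (zb _) a 0 h0 := by
    rw [← D.heq, h]
  obtain ⟨-, c, hc, h5⟩ := coordPt_eq_imp (Field.toIsField B.functionField) h4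
  refine ⟨j, s, hs, ?_, fun m => ?_⟩
  · rw [h1]
    congr 1
    exact zz_ext _ _
  · rw [h3, h5, h5]
    exact (mul_div_mul_left _ _ hc.ne_zero).symm

theorem toFF_generic (a : B.presheaf.stalk (genericPoint B)) : (toFF (genericPoint B)).hom a = a := by
  have h : toFF (genericPoint B) = 𝟙 _ := TopCat.Presheaf.stalkSpecializes_refl _ _
  rw [h]
  rfl

theorem exists_rep_of_normalizable (a : Fin (M + 1) → B.functionField) (ha : ∀ m, a m ≠ 0)
    (hnorm : ∀ y, Normalizable a y) : ∃ Φ : B ⟶ ProjSpace M ZZ.{u}, Rep Φ a := by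
  obtain ⟨φ, hφ⟩ := exists_map a ha hnorm
  refine ⟨φ, Ne.isUnit (ha 0), ?_⟩
  let s : Fin (M + 1) → B.presheaf.stalk (genericPoint B) := fun m => (a 0)⁻¹ * a m
  have hs1 : s 0 = 1 := inv_mul_cancel₀ (ha 0)
  have h1 := hφ (genericPoint B) 0 s hs1 (fun m => by
    rw [toFF_generic]
    exact (div_eq_inv_mul (a m) (a 0)).symm)
  rw [h1]
  exact coordPt_scale (zb.{u} B.functionField) a 0 (Ne.isUnit (ha 0)) (a 0)⁻¹ _

theorem residueFieldMap_surjective {X Y : Scheme.{u}} (f : X ⟶ Y) [IsPreimmersion f] (x : X) :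
    Function.Surjective (f.residueFieldMap x).hom := by
  intro z
  obtain ⟨w, rfl⟩ := residue_surjective z
  obtain ⟨w', rfl⟩ := f.stalkMap_surjective x w
  exact ⟨(Y.residue _).hom w', rfl⟩

/-- Existence of the map from the Chow form. -/
theorem exists_rep {Z : Scheme.{u}} [IsIntegral Z] {n d : ℕ} (p : Z ⟶ B) [IsProper p]
    (hp : p (genericPoint Z) = genericPoint B) (c : Z ⟶ ProjSpace n ZZ.{u}) (D : Coords c)
    (hN : Pi1.IsNormalScheme B) (F : MvPolynomial (Fin (d + 1) × Fin (n + 1)) B.functionField)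
    (hF : IsForm (ffMap p hp).hom D.τ D.j₀ F) (E : Terms F M) (hd : ∀ x, nrtd p x ≤ d) :
    ∃ Φ : B ⟶ ProjSpace M ZZ.{u}, Rep Φ E.a := by
  refine exists_rep_of_normalizable E.a E.ne fun y => normalizable' E y ?_
  refine exists_norm_at p hp D.τ D.isCoord D.j₀ D.hτ F hF y (hN y).2 fun x _ => ?_
  rw [← cast_nrtd, Fintype.card_fin]
  exact_mod_cast Nat.lt_succ_of_le (hd x)

/-- The fibre dimension bound. -/
theorem nrtd_le_of_rep {Z : Scheme.{u}} [IsIntegral Z] {n d : ℕ} (p : Z ⟶ B) [LocallyOfFiniteType p]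
    (hp : p (genericPoint Z) = genericPoint B) (c : Z ⟶ ProjSpace n ZZ.{u}) (D : Coords c)
    (hcl : IsClosedImmersion (liftPn c p))
    (F : MvPolynomial (Fin (d + 1) × Fin (n + 1)) B.functionField)
    (hF0 : MvPolynomial.eval₂Hom (MvPolynomial.C.comp (ffMap p hp).hom) (ChowIndep.W D.τ D.j₀) F = 0)
    (E : Terms F M) (Φ : B ⟶ ProjSpace M ZZ.{u}) (hΦ : Rep Φ E.a) (x : Z) : nrtd p x ≤ d := by
  obtain ⟨m₀, s, hs, -, h1⟩ := hΦ.exists_local (p x)
  have h2 := trd_lt' p hp c D F E hF0 x m₀ s h1 (κ := B.residueField (p x)) (RingHom.id _)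
    (fun m => (B.residue (p x)).hom (s m)) (fun m => rfl) (fun ζ j hj β hζ => by
      refine adjoin_eq_top (liftPn c p) x ?_ ((p.residueFieldMap x).hom.comp (RingHom.id _))
        (B.fromSpecResidueField (p x)) ?_ ζ j hj β ?_
      · exact residueFieldMap_surjective (liftPn c p) x
      · rw [liftPn_toBase]
        exact Scheme.Hom.SpecMap_residueFieldMap_fromSpecResidueField p x
      · rw [liftPn_toPn]; exact hζ)
  rw [RingHom.comp_id, Fintype.card_fin] at h2
  have h3 : rtd p x < ((d + 1 : ℕ) : Cardinal.{u}) := h2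
  rw [← cast_nrtd] at h3
  have h4 : nrtd p x < d + 1 := by exact_mod_cast h3
  omega

theorem aux_one {Z Y S : Scheme.{u}} (f : Z ⟶ Y) (q : Y ⟶ S) (x : Z) :
    Spec.map (f.residueFieldMap x) ≫ Y.fromSpecResidueField (f x) ≫ q = Z.fromSpecResidueField x ≫ f ≫ q := by
  rw [Scheme.Hom.SpecMap_residueFieldMap_fromSpecResidueField_assoc]

theorem aux_two {Z Y T S : Scheme.{u}} (f : Z ⟶ Y) (Φ : Y ⟶ T) (q : T ⟶ S) (x : Z) :
    Spec.map (Φ.residueFieldMap (f x) ≫ f.residueFieldMap x) ≫ T.fromSpecResidueField (Φ (f x)) ≫ q =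
      Z.fromSpecResidueField x ≫ f ≫ Φ ≫ q := by
  rw [Spec.map_comp, Category.assoc, Scheme.Hom.SpecMap_residueFieldMap_fromSpecResidueField_assoc,
    Scheme.Hom.SpecMap_residueFieldMap_fromSpecResidueField_assoc]

/-- Generic finiteness of the Chow map. -/
theorem nrtd_eq_zero_of_rep {Z S : Scheme.{u}} [IsIntegral Z] {n d : ℕ} (f : Z ⟶ B) [LocallyOfFiniteType f]
    (hf : f (genericPoint Z) = genericPoint B) (c : Z ⟶ ProjSpace n ZZ.{u}) (D : Coords c) (sZ : Z ⟶ S)
    (sB : B ⟶ S) (hs : f ≫ sB = sZ) (hd : nrtd f (genericPoint Z) = d)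
    (hres : Function.Surjective ((liftPn c sZ).residueFieldMap (genericPoint Z)).hom)
    (F : MvPolynomial (Fin (d + 1) × Fin (n + 1)) B.functionField)
    (hF0 : MvPolynomial.eval₂Hom (MvPolynomial.C.comp (ffMap f hf).hom) (ChowIndep.W D.τ D.j₀) F = 0)
    (E : Terms F M) (Φ : B ⟶ ProjSpaceOver M S) [LocallyOfFiniteType Φ] (hΦS : Φ ≫ ProjSpaceOver.toBase M S = sB)
    (hΦ : Rep (Φ ≫ toPn M S) E.a) :
    nrtd Φ (genericPoint B) = 0 := by
  obtain ⟨m₀, s, hs1, h0, h1⟩ := hΦ.exists_local (f (genericPoint Z))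
  obtain ⟨t, ht⟩ := exists_descend (Φ ≫ toPn M S) (f (genericPoint Z)) m₀ s hs1 h0 Φ (toPn M S) rfl
  have h2 := trd_lt' f hf c D F E hF0 (genericPoint Z) m₀ s h1
    (κ := (ProjSpaceOver M S).residueField (Φ (f (genericPoint Z))))
    (Φ.residueFieldMap (f (genericPoint Z))).hom t ht (fun ζ j hj β hζ => by
      refine adjoin_eq_top (liftPn c sZ) (genericPoint Z) hres _
        ((ProjSpaceOver M S).fromSpecResidueField (Φ (f (genericPoint Z))) ≫ ProjSpaceOver.toBase M S) ?_ ζ j hj β ?_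
      · rw [liftPn_toBase, ← hs, ← hΦS]
        exact aux_two f Φ (ProjSpaceOver.toBase M S) (genericPoint Z)
      · rw [liftPn_toPn]; exact hζ)
  rw [trd_comp, Fintype.card_fin] at h2
  have h3 : rtd Φ (f (genericPoint Z)) + rtd f (genericPoint Z) < ((d + 1 : ℕ) : Cardinal.{u}) := h2
  rw [← cast_nrtd, ← cast_nrtd, hd] at h3
  have h4 : nrtd Φ (f (genericPoint Z)) + d < d + 1 := by exact_mod_cast h3
  rw [hf] at h4
  omega

/-- Existence of the Chow form. -/
theorem exists_form_geom {Z S : Scheme.{u}} [IsIntegral Z] {n : ℕ} (f : Z ⟶ B) [LocallyOfFiniteType f]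
    (hf : f (genericPoint Z) = genericPoint B) (c : Z ⟶ ProjSpace n ZZ.{u}) (D : Coords c) (sZ : Z ⟶ S)
    (sB : B ⟶ S) (hs : f ≫ sB = sZ)
    (hres : Function.Surjective ((liftPn c sZ).residueFieldMap (genericPoint Z)).hom) :
    ∃ F : MvPolynomial (Fin (nrtd f (genericPoint Z) + 1) × Fin (n + 1)) B.functionField,
      IsForm (ffMap f hf).hom D.τ D.j₀ F := by
  have hgen : ∀ (ζ : Fin (n + 1) → Z.residueField (genericPoint Z)) (j : Fin (n + 1)) (hj : ζ j = 1)
      (β : ZZ.{u} →+* Z.residueField (genericPoint Z)),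
      Z.fromSpecResidueField (genericPoint Z) ≫ c = coordPt β ζ j (by rw [hj]; exact isUnit_one) →
      @IntermediateField.adjoin (B.residueField (f (genericPoint Z))) _ (Z.residueField (genericPoint Z)) _
        (f.residueFieldMap (genericPoint Z)).hom.toAlgebra (Set.range ζ) = ⊤ := fun ζ j hj β hζ => by
    refine adjoin_eq_top (liftPn c sZ) (genericPoint Z) hres _
        (B.fromSpecResidueField (f (genericPoint Z)) ≫ sB) ?_ ζ j hj β ?_
    · rw [liftPn_toBase, ← hs]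
      exact aux_one f sB (genericPoint Z)
    · rw [liftPn_toPn]; exact hζ
  have hind := indep_of_gen f hf c D (nrtd f (genericPoint Z)) (cast_nrtd f _).le hgen
  refine exists_form' (Field.toIsField B.functionField) (Field.toIsField Z.functionField) _ D.τ D.j₀ D.hτ _
    (Fintype.card_fin _) hind ?_
  refine exists_nonzero' (Field.toIsField B.functionField) (Field.toIsField Z.functionField) _ D.τ D.j₀ D.hτ ?_
  rw [trd_ffMap, ← cast_nrtd, Fintype.card_fin]
  exact_mod_cast Nat.lt_succ_self _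

/-- The generic Chow map on an open subscheme. -/
theorem exists_open_rep (a : Fin (M + 1) → B.functionField) (h0 : a 0 ≠ 0) :
    ∃ (V : B.Opens) (_ : (V : Set B).Nonempty), ∀ [IsIntegral (V : Scheme.{u})]
      (hV : V.ι (genericPoint (V : Scheme.{u})) = genericPoint B),
      ∃ Φ : (V : Scheme.{u}) ⟶ ProjSpace M ZZ.{u}, Rep Φ (fun m => (ffMap V.ι hV).hom (a m)) := by
  have hproper := Ega3B.ProjProper.isProper_toSpec M ZZ.{u}
  let g : Spec (CommRingCat.of B.functionField) ⟶ ProjSpace M ZZ.{u} :=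
    coordPt (zb B.functionField) a 0 (Ne.isUnit h0)
  let q : Spec (B.presheaf.stalk (genericPoint B)) ⟶ ProjSpace M ZZ.{u} := g
  have hq : q ≫ ProjSpace.toSpec M ZZ.{u} = B.fromSpecStalk (genericPoint B) ≫ specULiftZIsTerminal.from B :=
    specULiftZIsTerminal.hom_ext _ _
  let f := Scheme.PartialMap.ofFromSpecStalk (specULiftZIsTerminal.from B) (ProjSpace.toSpec M ZZ.{u}) q hq
  have hm : genericPoint B ∈ f.domain := Scheme.PartialMap.mem_domain_ofFromSpecStalk _ _ q hq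
  refine ⟨f.domain, ⟨_, hm⟩, fun {_} hV => ⟨f.hom, (Ne.isUnit h0).map (ffMap f.domain.ι hV).hom, ?_⟩⟩
  have h1 : Spec.map (ffMap f.domain.ι hV) ≫ f.domain.fromSpecStalkOfMem (genericPoint B) hm =
      (f.domain : Scheme.{u}).fromSpecStalk (genericPoint (f.domain : Scheme.{u})) := by
    rw [← cancel_mono f.domain.ι, Category.assoc, Scheme.Opens.fromSpecStalkOfMem_ι, fromSpecStalk_ffMap]
  have h2 : f.domain.fromSpecStalkOfMem (genericPoint B) hm ≫ f.hom = g :=
    Scheme.PartialMap.fromSpecStalkOfMem_ofFromSpecStalk _ _ q hq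
  rw [← h1, Category.assoc, h2]
  have h3 := coordPt_map (ffMap f.domain.ι hV).hom (zb.{u} B.functionField) a 0 (Ne.isUnit h0)
  refine Eq.trans h3 ?_
  congr 1
  exact zz_ext _ _

end Groth.Agent.IntSh.K877.ChowRep
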