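import Groth.Agent.IntSh.K877.ChowRep

/-!
Transport of the Chow form to other birational models of the base.
-/

set_option autoImplicit false
set_option linter.unusedSectionVars false
universe u
open CategoryTheory CategoryTheory.Limits AlgebraicGeometry

namespace Groth.Agent.IntSh.K877.ChowSq

open ProjPt ChowNorm ChowCoord ChowFld CohB1 IsLocalRing ChowMap ChowBound ChowDim ChowGenr ChowFam ChowGr ChowRep
open Groth.Agent.CycB.RelDim Groth.Agent.CycB.TrdegAlg

section pull

variable {Z Y : Scheme.{u}} [IsIntegral Z] [IsIntegral Y]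

/-- pullback of coordinates. -/
noncomputable def pullCoords {n : ℕ} {R : Type u} [CommRing R] (w : Z ⟶ Y)
    (hw : w (genericPoint Z) = genericPoint Y) (c : Y ⟶ ProjSpace n R) (c' : Z ⟶ ProjSpace n R)
    (hc : w ≫ c = c') (D : Coords c) : Coords c' where
  j₀ := D.j₀
  β := (ffMap w hw).hom.comp D.β
  τ := (ffMap w hw).hom ∘ D.τ
  hτ := by
    show (ffMap w hw).hom (D.τ D.j₀) = 1
    rw [D.hτ, map_one]
  heq := by
    have hu : IsUnit (D.τ D.j₀) := by rw [D.hτ]; exact isUnit_one
    have h1 := coordPt_map (ffMap w hw).hom D.β D.τ D.j₀ hu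
    refine Eq.trans ?_ h1
    rw [← D.heq, ← hc, ← Category.assoc, ← fromSpecStalk_ffMap w hw, Category.assoc]
    rfl

end pull

variable {U Y V T W Γ : Scheme.{u}} [IsIntegral U] [IsIntegral Y] [IsIntegral V] [IsIntegral T] [IsIntegral W]
  [IsIntegral Γ] {n M : ℕ} (f : U ⟶ Y) (v : V ⟶ Y) (g : V ⟶ T) (ι : W ⟶ U) (fW : W ⟶ V) (w : W ⟶ Γ) (p : Γ ⟶ T)
  [IsOpenImmersion v] [IsOpenImmersion g] [IsOpenImmersion ι]
  (h1 : ι ≫ f = fW ≫ v) (h2 : w ≫ p = fW ≫ g)
  (hf : f (genericPoint U) = genericPoint Y) (hv : v (genericPoint V) = genericPoint Y)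
  (hg : g (genericPoint V) = genericPoint T) (hι : ι (genericPoint W) = genericPoint U)
  (hfW : fW (genericPoint W) = genericPoint V) (hw : w (genericPoint W) = genericPoint Γ)
  (hp : p (genericPoint Γ) = genericPoint T)

include h1 h2 hι hfW hw in
theorem transport {d : ℕ} (cU : U ⟶ ProjSpace n ZZ.{u}) (cΓ : Γ ⟶ ProjSpace n ZZ.{u}) (hc : ι ≫ cU = w ≫ cΓ)
    (D : Coords cU) (F : MvPolynomial (Fin (d + 1) × Fin (n + 1)) Y.functionField)
    (hF : IsForm (ffMap f hf).hom D.τ D.j₀ F) (E : Terms F M) :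
    ∃ (D' : Coords cΓ) (F' : MvPolynomial (Fin (d + 1) × Fin (n + 1)) T.functionField) (E' : Terms F' M),
      IsForm (ffMap p hp).hom D'.τ D'.j₀ F' ∧
      ∀ m, (ffMap g hg).hom (E'.a m) = (ffMap v hv).hom (E.a m) := by
  let DW : Coords (w ≫ cΓ) := pullCoords ι hι cU _ hc D
  obtain ⟨D', hj, hτ⟩ := exists_coords_compat w hw cΓ _ rfl DW
  let eV : Y.functionField ≃+* V.functionField := RingEquiv.ofBijective (ffMap v hv).hom (ffMap_bijective v hv)
  let eg : T.functionField ≃+* V.functionField := RingEquiv.ofBijective (ffMap g hg).hom (ffMap_bijective g hg)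
  let e : Y.functionField ≃+* T.functionField := eV.trans eg.symm
  refine ⟨D', MvPolynomial.map (e : Y.functionField →+* T.functionField) F, E.map _ e.injective, ?_, fun m => ?_⟩
  · rw [isForm_map, ← isForm_comp _ (ffMap w hw).hom (ffMap_injective w hw), hτ, hj]
    have h3 : (ffMap w hw).hom.comp ((ffMap p hp).hom.comp (e : Y.functionField →+* T.functionField)) =
        (ffMap ι hι).hom.comp (ffMap f hf).hom := by
      have h4 : ffMap f hf ≫ ffMap ι hι = ffMap v hv ≫ ffMap fW hfW := by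
        rw [← ffMap_comp ι hι f hf, ← ffMap_comp fW hfW v hv]
        congr 1
      have h5 : ffMap p hp ≫ ffMap w hw = ffMap g hg ≫ ffMap fW hfW := by
        rw [← ffMap_comp w hw p hp, ← ffMap_comp fW hfW g hg]
        congr 1
      ext a
      have h6 := congrArg (fun h => h.hom a) h4
      have h7 := congrArg (fun h => h.hom (e a)) h5
      have h8 : (ffMap g hg).hom (e a) = (ffMap v hv).hom a := eg.apply_symm_apply (eV a)
      show (ffMap w hw).hom ((ffMap p hp).hom (e a)) = (ffMap ι hι).hom ((ffMap f hf).hom a)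
      refine Eq.trans h7 (Eq.trans ?_ h6.symm)
      show (ffMap fW hfW).hom ((ffMap g hg).hom (e a)) = (ffMap fW hfW).hom ((ffMap v hv).hom a)
      rw [h8]
    rw [h3]
    exact (isForm_comp _ (ffMap ι hι).hom (ffMap_injective ι hι) _ _ _).2 hF
  · exact eg.apply_symm_apply (eV (E.a m))

include h1 h2 hι hfW hw in
theorem nrtd_transport [LocallyOfFiniteType f] [LocallyOfFiniteType p] [LocallyOfFiniteType fW]
    [LocallyOfFiniteType w] {X : Scheme.{u}} (q : Γ ⟶ X) [LocallyOfFiniteType q]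
    [IsOpenImmersion (w ≫ q)] : nrtd p (genericPoint Γ) = nrtd f (genericPoint U) := by
  have h3 := nrtd_comp w q (genericPoint W)
  rw [nrtd_of_isPreimmersion] at h3
  have h4 := nrtd_comp w p (genericPoint W)
  have h5 := nrtd_comp fW g (genericPoint W)
  have h6 := nrtd_comp ι f (genericPoint W)
  have h7 := nrtd_comp fW v (genericPoint W)
  rw [nrtd_of_isPreimmersion g] at h5
  rw [nrtd_of_isPreimmersion v] at h7
  rw [nrtd_of_isPreimmersion ι, hι] at h6
  rw [h2, hw] at h4
  rw [h1] at h6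
  omega

end Groth.Agent.IntSh.K877.ChowSq
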