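import Groth.Agent.IntSh.K877.ChowForm
import Groth.Agent.CycB.TrdegAlg

/-!
The valuative part of the theory of Chow forms.
-/

set_option autoImplicit false

namespace Groth.Agent.IntSh.K877.ChowVal

open MvPolynomial ChowIndep IsLocalRing

universe u

/-- Valuation rings with prescribed centre. -/
theorem exists_dominating {R M : Type*} [CommRing R] [Field M] (f : R →+* M) (P : Ideal R) [P.IsPrime]
    (h : RingHom.ker f ≤ P) :
    ∃ (V : ValuationSubring M) (hV : ∀ x, f x ∈ V), ∀ x, (⟨f x, hV x⟩ : V) ∈ maximalIdeal V ↔ x ∈ P := by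
  have hu : ∀ s : P.primeCompl, IsUnit (f s) := by
    rintro ⟨s, hs⟩
    rw [isUnit_iff_ne_zero]
    exact fun h0 => hs (h h0)
  let g : Localization.AtPrime P →+* M := IsLocalization.lift (M := P.primeCompl) hu
  have hg : ∀ x, g (algebraMap _ _ x) = f x := fun x => IsLocalization.lift_eq hu x
  obtain ⟨V, hV, hloc⟩ := IsLocalRing.exists_factor_valuationRing g
  have hV' : ∀ x, f x ∈ V := fun x => by rw [← hg]; exact hV _
  refine ⟨V, hV', fun x => ?_⟩
  have h1 : (⟨f x, hV' x⟩ : V) = g.codRestrict V.toSubring hV (algebraMap _ _ x) := by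
    apply Subtype.ext
    exact (hg x).symm
  rw [h1, mem_maximalIdeal, mem_nonunits_iff]
  have h2 : IsUnit (g.codRestrict V.toSubring hV (algebraMap _ _ x)) ↔
      IsUnit (algebraMap R (Localization.AtPrime P) x) :=
    ⟨fun hh => hloc.map_nonunit _ hh, fun hh => hh.map _⟩
  have h3 : IsUnit (algebraMap R (Localization.AtPrime P) x) ↔ x ∉ P :=
    IsLocalization.AtPrime.isUnit_to_map_iff _ P x
  refine Iff.trans (not_congr (h2.trans h3)) not_not

/-- The counting argument in the residue fields. -/
theorem card_le {ι ℓ : Type} [Fintype ι] [DecidableEq ι] [Fintype ℓ] [DecidableEq ℓ]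
    {O S V : Type u} [CommRing O] [IsLocalRing O] [CommRing S] [IsLocalRing S] [CommRing V] [IsLocalRing V]
    (ρ : O →+* S) [IsLocalHom ρ] (φ : S →+* V) [IsLocalHom φ]
    [Algebra (ResidueField O) (ResidueField S)]
    (halg : algebraMap (ResidueField O) (ResidueField S) = ResidueField.map ρ)
    (f : MvPolynomial (ι × ℓ) O →+* V) (hfC : ∀ a, f (C a) = φ (ρ a))
    (hf : ∀ P, f P ∈ maximalIdeal V → MvPolynomial.map (residue O) P = 0)
    (t : ℓ → S) (j : ℓ) (ht : t j = 1) (hrel : ∀ i, ∑ l, φ (t l) * f (X (i, l)) = 0) :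
    (Fintype.card ι : Cardinal) ≤ Algebra.trdeg (ResidueField O) (ResidueField S) := by
  let _ : Algebra (ResidueField S) (ResidueField V) := (ResidueField.map φ).toAlgebra
  let _ : Algebra (ResidueField O) (ResidueField V) :=
    ((algebraMap (ResidueField S) (ResidueField V)).comp
      (algebraMap (ResidueField O) (ResidueField S))).toAlgebra
  have _ : IsScalarTower (ResidueField O) (ResidueField S) (ResidueField V) :=
    IsScalarTower.of_algebraMap_eq fun _ => rfl
  have hC : ∀ a : O, algebraMap (ResidueField O) (ResidueField V) (residue O a) =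
      residue V (φ (ρ a)) := by
    intro a
    show algebraMap (ResidueField S) (ResidueField V) (algebraMap (ResidueField O) (ResidueField S)
      (residue O a)) = _
    rw [halg]
    rfl
  refine ChowForm.card_le_trdeg (V := ResidueField V) (fun l => residue S (t l)) j ?_
    (fun p => residue V (f (X p))) ?_ ?_
  · rw [ht, map_one]
  · rw [algebraicIndependent_iff]
    intro Q hQ
    obtain ⟨P, rfl⟩ := MvPolynomial.map_surjective (residue O) residue_surjective Q
    apply hf
    rw [← residue_eq_zero_iff, ← hQ]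
    have h2 : (residue V).comp f = (aeval (R := ResidueField O) (S₁ := ResidueField V)
        (fun p : ι × ℓ => residue V (f (X p)))).toRingHom.comp (MvPolynomial.map (residue O)) := by
      refine MvPolynomial.ringHom_ext (fun a => ?_) fun p => ?_
      · rw [RingHom.comp_apply, RingHom.comp_apply, hfC, MvPolynomial.map_C]
        show _ = aeval _ (C (residue O a))
        rw [aeval_C, hC]
      · rw [RingHom.comp_apply, RingHom.comp_apply, MvPolynomial.map_X]
        show _ = aeval _ (X p)
        rw [aeval_X]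
    exact congrArg (fun g => g P) h2
  · intro i
    have h1 := congrArg (residue V) (hrel i)
    rw [map_sum, map_zero] at h1
    rw [← h1]
    refine Finset.sum_congr rfl fun l _ => ?_
    rw [map_mul]
    rfl

open Groth.Agent.CycB.TrdegAlg in
theorem card_le' {ι ℓ : Type} [Fintype ι] [DecidableEq ι] [Fintype ℓ] [DecidableEq ℓ]
    {O S V : Type u} [CommRing O] [IsLocalRing O] [CommRing S] [IsLocalRing S] [CommRing V] [IsLocalRing V]
    (ρ : O →+* S) [IsLocalHom ρ] (φ : S →+* V) [IsLocalHom φ]
    (f : MvPolynomial (ι × ℓ) O →+* V) (hfC : ∀ a, f (C a) = φ (ρ a))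
    (hf : ∀ P, f P ∈ maximalIdeal V → MvPolynomial.map (residue O) P = 0)
    (t : ℓ → S) (j : ℓ) (ht : t j = 1) (hrel : ∀ i, ∑ l, φ (t l) * f (X (i, l)) = 0) :
    (Fintype.card ι : Cardinal) ≤ trd (ResidueField.map ρ) := by
  let _ : Algebra (ResidueField O) (ResidueField S) := (ResidueField.map ρ).toAlgebra
  exact card_le ρ φ rfl f hfC hf t j ht hrel

/-- If no relation has a unit coefficient, there is a valuation ring with generic residues. -/
theorem exists_valuation {ι ℓ : Type} [Fintype ι] [DecidableEq ι] [Fintype ℓ] [DecidableEq ℓ]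
    {O L : Type u} [CommRing O] [IsLocalRing O] [CommRing L] [IsDomain L] (ω : O →+* L)
    (τ : ℓ → L) (j₀ : ℓ) (h0 : τ j₀ = 1)
    (hcon : ¬ ∃ E : MvPolynomial (ι × ℓ) O, (∃ γ, IsUnit (E.coeff γ)) ∧
      eval₂Hom (C.comp ω) (W τ j₀) E = 0) :
    ∃ (M : Type u) (_ : Field M) (g : L →+* M) (V : ValuationSubring M)
      (fV : MvPolynomial (ι × ℓ) O →+* V),
      (∀ P, fV P ∈ maximalIdeal V ↔ MvPolynomial.map (residue O) P = 0) ∧
      (∀ s, (fV (C s) : M) = g (ω s)) ∧ ∀ i, ∑ l, g (τ l) * (fV (X (i, l)) : M) = 0 := by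
  classical
  let ψ : MvPolynomial (ι × ℓ) O →+* MvPolynomial (ι × ℓ) L := eval₂Hom (C.comp ω) (W τ j₀)
  let M := FractionRing (MvPolynomial (ι × ℓ) L)
  let f : MvPolynomial (ι × ℓ) O →+* M := (algebraMap (MvPolynomial (ι × ℓ) L) M).comp ψ
  have hinj : Function.Injective (algebraMap (MvPolynomial (ι × ℓ) L) M) := IsFractionRing.injective _ _
  push Not at hcon
  have hker : RingHom.ker f ≤ RingHom.ker (MvPolynomial.map (σ := ι × ℓ) (residue O)) := by
    intro E hE
    by_contra h1
    obtain ⟨γ, hγ⟩ := (MvPolynomial.ne_zero_iff).1 h1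
    rw [MvPolynomial.coeff_map] at hγ
    have hunit : IsUnit (E.coeff γ) := by
      by_contra h
      exact hγ ((residue_eq_zero_iff _).2 ((mem_maximalIdeal _).2 h))
    refine hcon E ⟨γ, hunit⟩ (hinj ?_)
    rw [map_zero]
    exact hE
  have hprime : (RingHom.ker (MvPolynomial.map (σ := ι × ℓ) (residue O))).IsPrime := RingHom.ker_isPrime _
  obtain ⟨V, hV, hVm⟩ := exists_dominating f _ hker
  refine ⟨M, inferInstance, (algebraMap (MvPolynomial (ι × ℓ) L) M).comp C, V,
    f.codRestrict V.toSubring hV, hVm, fun s => ?_, fun i => ?_⟩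
  · show algebraMap (MvPolynomial (ι × ℓ) L) M (ψ (C s)) = algebraMap (MvPolynomial (ι × ℓ) L) M (C (ω s))
    congr 1
    simp only [ψ, eval₂Hom_C]
    rfl
  · have h2 : ∀ l, (algebraMap (MvPolynomial (ι × ℓ) L) M).comp C (τ l) *
        ((f.codRestrict V.toSubring hV (X (i, l)) : V.toSubring) : M) =
        algebraMap (MvPolynomial (ι × ℓ) L) M (C (τ l) * W τ j₀ (i, l)) := by
      intro l
      have h3 : ((f.codRestrict V.toSubring hV (X (i, l)) : V.toSubring) : M) =
          algebraMap (MvPolynomial (ι × ℓ) L) M (W τ j₀ (i, l)) := by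
        show algebraMap (MvPolynomial (ι × ℓ) L) M (ψ (X (i, l))) = _
        simp only [ψ, eval₂Hom_X']
      rw [h3, map_mul]
      rfl
    refine (Finset.sum_congr rfl fun l _ => h2 l).trans ?_
    rw [← map_sum, rel_W τ h0, map_zero]

end Groth.Agent.IntSh.K877.ChowVal
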