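import Groth.Agent.Fga.DimCut
import Groth.Agent.Etcore.CurveTop
import Groth.Agent.CAlg.K88.HomAvoid
import Mathlib.AlgebraicGeometry.ProjectiveSpectrum.Basic

/-!
# Cutting down fibres by affine opens with locally principal complement

* `Good X W`: `W` is an affine open whose complement is locally the zero locus of one function.
* `Enough X`: every finite set of points of `X` lies in a good open.
* `enough_proj`: `Proj` of a graded ring has enough good opens.
* `exists_cut`: cutting finitely many fibres of the same dimension `r` down to dimension zero simultaneously.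
* `exists_quasiSection`: for a proper morphism to an affine integral scheme, a point over the generic point whose closure
  has finite fibre over a given point.
-/

set_option autoImplicit false
universe u
open CategoryTheory CategoryTheory.Limits AlgebraicGeometry TopologicalSpace

namespace Groth.Agent.IntSh.K877.Cut

/-- An affine open whose complement is locally the zero locus of one function. -/
def Good (X : Scheme.{u}) (W : X.Opens) : Prop :=
  IsAffineOpen W ∧ ∀ x : X, x ∉ W → ∃ (U : X.Opens) (_ : x ∈ U) (a : Γ(X, U)), W ⊓ U = X.basicOpen a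

/-- Every finite set of points lies in a good open. -/
def Enough (X : Scheme.{u}) : Prop :=
  ∀ S : Set X, S.Finite → ∃ W : X.Opens, Good X W ∧ ∀ x ∈ S, x ∈ W

theorem Good.preimage {X Z : Scheme.{u}} {W : X.Opens} (h : Good X W) (g : Z ⟶ X) [IsAffineHom g] :
    Good Z (g ⁻¹ᵁ W) := by
  refine ⟨h.1.preimage g, fun z hz => ?_⟩
  obtain ⟨U, hU, a, ha⟩ := h.2 (g z) hz
  refine ⟨g ⁻¹ᵁ U, hU, g.app U a, ?_⟩
  rw [← Scheme.preimage_basicOpen, ← ha]
  rfl

theorem Enough.of_iso {X Z : Scheme.{u}} (h : Enough X) (e : Z ≅ X) : Enough Z := by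
  intro S hS
  obtain ⟨W, hW, hSW⟩ := h (e.hom '' S) (hS.image _)
  exact ⟨e.hom ⁻¹ᵁ W, hW.preimage e.hom, fun z hz => hSW _ ⟨z, hz, rfl⟩⟩

section Proj

variable {A σ : Type u} [CommRing A] [SetLike σ A] [AddSubgroupClass σ A] (𝒜 : ℕ → σ) [GradedRing 𝒜]

theorem exists_basicOpen_mem (S : Set (Proj 𝒜)) (hS : S.Finite) :
    ∃ (n : ℕ) (g : A), 0 < n ∧ g ∈ 𝒜 n ∧ ∀ x ∈ S, x ∈ Proj.basicOpen 𝒜 g := by
  classical
  have hS' := hS.image (fun x : Proj 𝒜 => x.asHomogeneousIdeal.toIdeal)
  obtain ⟨g, n, hn, hg, -, hgS⟩ := K88.HomAvoid.exists_homogeneous_avoid 𝒜 (K := ⊤)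
    (Ideal.IsHomogeneous.top 𝒜) hS'.toFinset (by
      intro p hp
      rw [Set.Finite.mem_toFinset] at hp
      obtain ⟨x, -, rfl⟩ := hp
      refine ⟨x.isPrime, x.not_irrelevant_le, ?_⟩
      rw [top_le_iff]
      exact x.isPrime.ne_top)
  refine ⟨n, g, hn, hg, fun x hx => ?_⟩
  have h1 : g ∉ x.asHomogeneousIdeal.toIdeal := hgS _ (by
    rw [Set.Finite.mem_toFinset]
    exact ⟨x, hx, rfl⟩)
  exact h1

theorem good_basicOpen {m : ℕ} (hm : 0 < m) {f : A} (hf : f ∈ 𝒜 m) : Good (Proj 𝒜) (Proj.basicOpen 𝒜 f) := by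
  refine ⟨Proj.isAffineOpen_basicOpen 𝒜 f hf hm, fun x _ => ?_⟩
  obtain ⟨n, g, hn, hg, hxg⟩ := exists_basicOpen_mem 𝒜 {x} (Set.finite_singleton x)
  have hι := Proj.awayι_preimage_basicOpen 𝒜 hg hn hf hm
  let j := Proj.awayι 𝒜 g hg hn
  let e : HomogeneousLocalization.Away 𝒜 g := HomogeneousLocalization.Away.isLocalizationElem hg hf
  refine ⟨j ''ᵁ ⊤, ?_, (j.appIso ⊤).inv ((Scheme.ΓSpecIso _).inv e), ?_⟩
  · rw [Scheme.Hom.image_top_eq_opensRange, Proj.opensRange_awayι]
    exact hxg x rfl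
  · rw [← Scheme.image_basicOpen, Scheme.Hom.image_top_eq_opensRange]
    have h1 : (Spec (CommRingCat.of (HomogeneousLocalization.Away 𝒜 g))).basicOpen
        ((Scheme.ΓSpecIso (CommRingCat.of (HomogeneousLocalization.Away 𝒜 g))).inv e) =
        j ⁻¹ᵁ Proj.basicOpen 𝒜 f := by
      rw [hι]
      exact basicOpen_eq_of_affine (R := CommRingCat.of (HomogeneousLocalization.Away 𝒜 g)) e
    rw [h1, Scheme.Hom.image_preimage_eq_opensRange_inf, inf_comm]

theorem enough_proj : Enough (Proj 𝒜) := by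
  intro S hS
  obtain ⟨n, g, hn, hg, hgS⟩ := exists_basicOpen_mem 𝒜 S hS
  exact ⟨_, good_basicOpen 𝒜 hn hg, hgS⟩

end Proj

/-- Cutting finitely many schemes proper over fields by complements of good opens, one dimension at a time. -/
theorem exists_cut {X : Scheme.{u}} (hX : Enough X) {ι : Type*} [Finite ι] (k : ι → Type u) [∀ i, Field (k i)]
    (F : ι → Scheme.{u}) (q : ∀ i, F i ⟶ Spec (CommRingCat.of (k i))) [∀ i, IsProper (q i)]
    (g : ∀ i, F i ⟶ X) [∀ i, IsAffineHom (g i)] (r : ℕ) :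
    ∀ C : Set X, IsClosed C → (∀ i, topologicalKrullDim ↥(g i ⁻¹' C) = r) →
      ∃ C' : Set X, IsClosed C' ∧ C' ⊆ C ∧ ∀ i, topologicalKrullDim ↥(g i ⁻¹' C') = ((0 : ℕ) : WithBot ℕ∞) := by
  induction r with
  | zero => exact fun C hC h => ⟨C, hC, subset_rfl, h⟩
  | succ r IH =>
    intro C hC h
    have hN : ∀ i, IsNoetherian (F i) := fun i => by
      have : IsLocallyNoetherian (F i) := LocallyOfFiniteType.isLocallyNoetherian (q i)
      have : CompactSpace (F i) := QuasiCompact.compactSpace_of_compactSpace (q i)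
      exact {}
    -- a point on every component of every `g i ⁻¹ C`
    have hfin : ∀ i, (irreducibleComponents ↥(g i ⁻¹' C)).Finite := fun i => by
      have := hN i
      exact NoetherianSpace.finite_irreducibleComponents
    choose p hp using fun (i : ι) (Z : irreducibleComponents ↥(g i ⁻¹' C)) => Z.2.1.nonempty
    have hfin' : ∀ i, Finite (irreducibleComponents ↥(g i ⁻¹' C)) := fun i => (hfin i).to_subtype
    obtain ⟨W, hW, hpW⟩ := hX (Set.range fun z : Σ i, irreducibleComponents ↥(g i ⁻¹' C) => g z.1 (p z.1 z.2).1)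
      (Set.finite_range _)
    obtain ⟨C', hC', hsub, hdim⟩ := IH (C \ W) (hC.inter W.isOpen.isClosed_compl) (fun i => by
      let _ : (F i).Over (Spec (CommRingCat.of (k i))) := ⟨q i⟩
      have : IsProper (F i ↘ (Spec (CommRingCat.of (k i)))) := inferInstanceAs (IsProper (q i))
      have hWi := hW.preimage (g i)
      have h1 := Fga.DimCut.dim_cut (k i) (F i) (g i ⁻¹' C) (hC.preimage (g i).continuous) r (h i) (g i ⁻¹ᵁ W)
        hWi.1 hWi.2 (fun Z hZ => ⟨p i ⟨Z, hZ⟩, hp i ⟨Z, hZ⟩, hpW _ ⟨⟨i, ⟨Z, hZ⟩⟩, rfl⟩⟩)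
      exact h1)
    exact ⟨C', hC', hsub.trans Set.sdiff_subset, hdim⟩

/-- A proper scheme over a field with affine fibre inclusion: closed subsets of dimension zero are finite nonempty. -/
theorem finite_of_dim_zero {k : Type u} [Field k] {F X : Scheme.{u}} (q : F ⟶ Spec (CommRingCat.of k)) [IsProper q]
    (g : F ⟶ X) (C : Set X) (h : topologicalKrullDim ↥(g ⁻¹' C) = ((0 : ℕ) : WithBot ℕ∞)) :
    (g ⁻¹' C).Finite ∧ (g ⁻¹' C).Nonempty := by
  have : IsLocallyNoetherian F := LocallyOfFiniteType.isLocallyNoetherian q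
  have : CompactSpace F := QuasiCompact.compactSpace_of_compactSpace q
  have : IsNoetherian F := {}
  constructor
  · have h1 : topologicalKrullDim ↥(g ⁻¹' C) < ((1 : ℕ) : WithBot ℕ∞) := by
      rw [h]; exact_mod_cast Nat.zero_lt_one
    exact Etcore.CurveTop.finite_of_dim_lt_one h1
  · by_contra hcon
    rw [Set.not_nonempty_iff_eq_empty] at hcon
    have : IsEmpty ↥(g ⁻¹' C) := Set.isEmpty_coe_sort.2 hcon
    have : IsEmpty (IrreducibleCloseds ↥(g ⁻¹' C)) := ⟨fun Z => IsEmpty.false Z.isIrreducible.nonempty.some⟩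
    have h1 : topologicalKrullDim ↥(g ⁻¹' C) = ⊥ := Order.krullDim_eq_bot
    rw [h1] at h
    exact absurd h.symm (WithBot.coe_ne_bot)

theorem isProper_fiber {X Y : Scheme.{u}} (π : X ⟶ Y) [IsProper π] (y : Y) :
    IsProper (π.fiberToSpecResidueField y) :=
  inferInstanceAs (IsProper (pullback.snd π (Y.fromSpecResidueField y)))

set_option backward.isDefEq.respectTransparency.types false in
theorem isAffineHom_fiberι {X Y : Scheme.{u}} [IsAffine Y] (π : X ⟶ Y) (y : Y) :
    IsAffineHom (π.fiberι y) :=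
  MorphismProperty.pullback_fst _ _ (isAffineHom_of_isAffine (Y.fromSpecResidueField y))

theorem apply_fiberι {X Y : Scheme.{u}} (π : X ⟶ Y) (y : Y) (w : π.fiber y) : π (π.fiberι y w) = y := by
  have : π.fiberι y w ∈ Set.range (π.fiberι y) := ⟨w, rfl⟩
  rwa [Scheme.Hom.range_fiberι] at this

/-- Over an affine base, finitely many points with fibres of the same dimension `d`: a closed subset cutting all of
these fibres in finite nonempty sets. -/
theorem exists_closed {X Y : Scheme.{u}} [IsAffine Y] (π : X ⟶ Y) [IsProper π] (hX : Enough X)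
    {ι : Type*} [Finite ι] (z : ι → Y) (d : ℕ) (h : ∀ i, topologicalKrullDim (π.fiber (z i)) = d) :
    ∃ C : Set X, IsClosed C ∧ ∀ i, (C ∩ π ⁻¹' {z i}).Finite ∧ (C ∩ π ⁻¹' {z i}).Nonempty := by
  have hdim : ∀ i, topologicalKrullDim ↥(π.fiberι (z i) ⁻¹' (Set.univ : Set X)) = d := by
    intro i
    rw [Set.preimage_univ, (Homeomorph.Set.univ _).isHomeomorph.topologicalKrullDim_eq]
    exact h i
  have hp : ∀ i, IsProper (π.fiberToSpecResidueField (z i)) := fun i => isProper_fiber π _
  have ha : ∀ i, IsAffineHom (π.fiberι (z i)) := fun i => isAffineHom_fiberι π _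
  obtain ⟨C, hC, -, h⟩ := exists_cut hX (fun i => Y.residueField (z i)) (fun i => π.fiber (z i))
    (fun i => π.fiberToSpecResidueField (z i)) (fun i => π.fiberι (z i)) d Set.univ isClosed_univ hdim
  refine ⟨C, hC, fun i => ?_⟩
  obtain ⟨hfin, w, hw⟩ := @finite_of_dim_zero (Y.residueField (z i)) _ _ _ (π.fiberToSpecResidueField (z i)) (hp i)
    (π.fiberι (z i)) C (h i)
  refine ⟨(hfin.image (π.fiberι (z i))).subset ?_, ⟨π.fiberι (z i) w, hw, apply_fiberι π _ w⟩⟩
  rintro t ⟨ht, hty⟩
  have : t ∈ Set.range (π.fiberι (z i)) := by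
    rw [Scheme.Hom.range_fiberι]; exact hty
  obtain ⟨t', rfl⟩ := this
  exact ⟨t', ht, rfl⟩

/-- Over an affine integral base: a point over the generic point whose closure has finite fibre over a given point. -/
theorem exists_quasiSection {X Y : Scheme.{u}} [IsAffine Y] [IsIntegral Y] (π : X ⟶ Y) [IsProper π] (hX : Enough X)
    (y : Y) (d : ℕ) (h1 : topologicalKrullDim (π.fiber (genericPoint Y)) = d)
    (h2 : topologicalKrullDim (π.fiber y) = d) :
    ∃ x : X, π x = genericPoint Y ∧ (closure {x} ∩ π ⁻¹' {y}).Finite := by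
  obtain ⟨C, hC, h⟩ := exists_closed π hX (fun b : Bool => if b then genericPoint Y else y) d (by
    rintro (_ | _)
    · exact h2
    · exact h1)
  obtain ⟨-, w, hw, hwη⟩ := h true
  refine ⟨w, hwη, (h false).1.subset ?_⟩
  exact Set.inter_subset_inter_left _ (closure_minimal (Set.singleton_subset_iff.2 hw) hC)

end Groth.Agent.IntSh.K877.Cut
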