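import Groth.Agent.IntSh.K877.Pts
import Groth.Agent.Ega4late.H534.CodimOne
import Groth.Agent.Ega4late.H532.Spread

/-!
# Gluing set-theoretic local equations of a point of codimension one to an effective Cartier divisor
-/

set_option autoImplicit false
universe u
open CategoryTheory CategoryTheory.Limits AlgebraicGeometry TopologicalSpace

namespace Groth.Agent.IntSh.K877.GlueEff

open Groth.Agent.Divis.CartierBasic Groth.Agent.Ega4late.H534.CodimOne

variable {Y : Scheme.{u}}

/-- Two local equations with the same zero locus `closure {η}` and the same order at `η` generate the same ideal. -/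
theorem span_eq [IsLocallyNoetherian Y] [IsIntegral Y] (hYn : Pi1.IsNormalScheme Y) (η : Y)
    (hη : ringKrullDim (Y.presheaf.stalk η) = 1) {y : Y} (hηy : η ⤳ y) {W W' : Y.Opens} (hy : y ∈ W) (hy' : y ∈ W')
    (a : Γ(Y, W)) (b : Γ(Y, W')) (ha : ∀ z ∈ W, ¬ η ⤳ z → z ∈ Y.basicOpen a)
    (ha0 : a ≠ 0)
    (hab : Y.presheaf.germ W' η (hηy.mem_open W'.isOpen hy') b ∈
      Ideal.span {Y.presheaf.germ W η (hηy.mem_open W.isOpen hy) a}) :
    Y.presheaf.germ W' y hy' b ∈ Ideal.span {Y.presheaf.germ W y hy a} := by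
  obtain ⟨U, hU, hyU, hUW⟩ : ∃ U : Y.Opens, IsAffineOpen U ∧ y ∈ U ∧ U ≤ W ⊓ W' := by
    obtain ⟨U, hU, hyU, h⟩ := exists_isAffineOpen_mem_and_subset (x := y) (U := W ⊓ W') ⟨hy, hy'⟩
    exact ⟨U, hU, hyU, h⟩
  let α : Γ(Y, U) := Y.presheaf.map (homOfLE (hUW.trans inf_le_left)).op a
  let β : Γ(Y, U) := Y.presheaf.map (homOfLE (hUW.trans inf_le_right)).op b
  have hα : ∀ z (hz : z ∈ U), Y.presheaf.germ U z hz α = Y.presheaf.germ W z (hUW hz).1 a := fun z hz =>
    Y.presheaf.germ_res_apply (homOfLE (hUW.trans inf_le_left)) z hz a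
  have hβ : ∀ z (hz : z ∈ U), Y.presheaf.germ U z hz β = Y.presheaf.germ W' z (hUW hz).2 b := fun z hz =>
    Y.presheaf.germ_res_apply (homOfLE (hUW.trans inf_le_right)) z hz b
  have key := dvdAt_of_codim_one hYn hU hyU (α := α) (β := β) (by
    rw [hα]
    intro h0
    exact ha0 (germ_injective_of_isIntegral Y y hy (h0.trans (map_zero _).symm))) (by
    intro z hzU hzy hz1
    by_cases hηz : η ⤳ z
    · have hz : z = η := by
        by_contra hne
        have := Pts.dim_lt hηz (Ne.symm hne)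
        rw [hη, hz1] at this
        exact lt_irrefl _ this
      subst hz
      rw [dvdAt_iff_germ hU hzU, hα, hβ]
      exact hab
    · refine ⟨α, ?_, Dvd.intro _ rfl⟩
      change z ∈ Y.basicOpen (Y.presheaf.map (homOfLE (hUW.trans inf_le_left)).op a)
      rw [Scheme.basicOpen_res]
      exact ⟨hzU, ha z (hUW hzU).1 hηz⟩)
  rw [dvdAt_iff_germ hU hyU, hα, hβ] at key
  exact key

/-- Ideals of a normal Noetherian local domain of dimension one are powers of the maximal ideal. -/
theorem exists_pow {R : Type*} [CommRing R] [IsDomain R] [IsLocalRing R] [IsNoetherianRing R] [IsIntegrallyClosed R]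
    (h : ringKrullDim R = 1) (I : Ideal R) (hI : I ≠ ⊥) : ∃ n : ℕ, I = IsLocalRing.maximalIdeal R ^ n := by
  have h1 : Ring.KrullDimLE 1 R := Ring.krullDimLE_iff.2 (by rw [h]; exact le_rfl)
  have h3 : IsIntegrallyClosed R ∧ ∀ P : Ideal R, P ≠ ⊥ → P.IsPrime → P = IsLocalRing.maximalIdeal R :=
    ⟨inferInstance, fun P hP hP' => IsLocalRing.eq_maximalIdeal (hP'.isMaximal_of_ne_bot hP)⟩
  have h2 := ((tfae_of_isNoetherianRing_of_isLocalRing_of_isDomain R).out 3 6).1 h3
  exact h2 I hI

theorem exists_effCartier [IsNoetherian Y] [IsIntegral Y] (hYn : Pi1.IsNormalScheme Y) (η : Y)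
    (hη : ringKrullDim (Y.presheaf.stalk η) = 1)
    (h : ∀ y₀ : Y, ∃ (W : Y.Opens) (_ : y₀ ∈ W) (g : Γ(Y, W)), ∀ y ∈ W, (η ⤳ y ↔ y ∉ Y.basicOpen g)) :
    ∃ J : Y.IdealSheafData, BlowUp.IsEffCartierIdeal J ∧ (J.support : Set Y) = closure {η} := by
  classical
  choose W hW g hg using h
  -- the local equations are nonzero
  have hgen : ¬ η ⤳ genericPoint Y := by
    intro h
    have h1 : genericPoint Y = η := ((genericPoint_specializes η).antisymm h).eq
    have h2 : ringKrullDim (Y.presheaf.stalk η) = 0 := by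
      rw [Pts.dim_eq_zero_iff]
      intro y hy
      rw [← h1] at hy ⊢
      exact (hy.antisymm (genericPoint_specializes y)).eq
    rw [h2] at hη
    exact absurd hη (by norm_num)
  have hg0 : ∀ i, g i ≠ 0 := by
    intro i h0
    have h1 : genericPoint Y ∈ W i := (genericPoint_specializes i).mem_open (W i).isOpen (hW i)
    have h2 : ¬ (genericPoint Y ∉ Y.basicOpen (g i)) := fun h' => hgen ((hg i _ h1).2 h')
    rw [h0, Scheme.basicOpen_zero] at h2
    exact h2 (fun h => h)
  have hunit : ∀ i z (hz : z ∈ W i), IsUnit (Y.presheaf.germ (W i) z hz (g i)) ↔ ¬ η ⤳ z := by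
    intro i z hz
    rw [hg i z hz, not_not, Scheme.mem_basicOpen _ _ _ hz]
  -- orders at `η`
  obtain ⟨-, hint⟩ := hYn η
  have hord : ∀ i (hi : η ∈ W i), ∃ n : ℕ, 0 < n ∧ Ideal.span {Y.presheaf.germ (W i) η hi (g i)} =
      IsLocalRing.maximalIdeal (Y.presheaf.stalk η) ^ n := by
    intro i hi
    obtain ⟨n, hn⟩ := exists_pow hη (Ideal.span {Y.presheaf.germ (W i) η hi (g i)}) (by
      rw [Ne, Ideal.span_singleton_eq_bot]
      intro h0
      exact hg0 i (germ_injective_of_isIntegral Y η hi (h0.trans (map_zero _).symm)))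
    refine ⟨n, Nat.pos_of_ne_zero ?_, hn⟩
    rintro rfl
    rw [pow_zero, Ideal.one_eq_top, Ideal.span_singleton_eq_top, hunit] at hn
    exact hn (specializes_refl η)
  choose n hn0 hn using hord
  obtain ⟨t, ht⟩ := CompactSpace.elim_nhds_subcover (fun i => (W i : Set Y)) fun i => (W i).isOpen.mem_nhds (hW i)
  have hidx : ∀ y : Y, ∃ i ∈ t, y ∈ W i := by
    intro y
    have : y ∈ ⋃ i ∈ t, (W i : Set Y) := by rw [ht]; trivial
    simpa using this
  choose i hit hi using hidx
  let n' : Y → ℕ := fun j => if hj : η ∈ W j then n j hj else 1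
  have hn'0 : ∀ j, 0 < n' j := by
    intro j
    by_cases hj : η ∈ W j
    · simp only [n', dif_pos hj]; exact hn0 j hj
    · simp only [n', dif_neg hj]; exact one_pos
  let N : ℕ := ∏ j ∈ t, n' j
  have hN : 0 < N := Finset.prod_pos fun j _ => hn'0 j
  have hdvd : ∀ j ∈ t, n' j ∣ N := fun j hj => Finset.dvd_prod_of_mem _ hj
  let e : Y → ℕ := fun y => N / n' (i y)
  have he : ∀ y, n' (i y) * e y = N := fun y => Nat.mul_div_cancel' (hdvd _ (hit y))
  have he0 : ∀ y, e y ≠ 0 := by
    intro y h0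
    have := he y
    rw [h0, mul_zero] at this
    omega
  let s : ∀ y : Y, Y.presheaf.stalk y := fun y =>
    if η ⤳ y then Y.presheaf.germ (W (i y)) y (hi y) (g (i y) ^ e y) else 1
  have hs1 : ∀ y, η ⤳ y → s y = Y.presheaf.germ (W (i y)) y (hi y) (g (i y) ^ e y) := fun y hy => if_pos hy
  have hs2 : ∀ y, ¬ η ⤳ y → s y = 1 := fun y hy => if_neg hy
  have hsu : ∀ y, ¬ IsUnit (s y) ↔ η ⤳ y := by
    intro y
    by_cases hy : η ⤳ y
    · rw [hs1 y hy, map_pow, isUnit_pow_iff (he0 y), hunit]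
      simp [hy]
    · rw [hs2 y hy]
      simp [hy]
  have hgη : ∀ y (hy : η ⤳ y), Ideal.span {Y.presheaf.germ (W (i y)) η (hy.mem_open (W (i y)).isOpen (hi y))
      (g (i y) ^ e y)} = IsLocalRing.maximalIdeal (Y.presheaf.stalk η) ^ N := by
    intro y hy
    have hmem : η ∈ W (i y) := hy.mem_open (W (i y)).isOpen (hi y)
    rw [map_pow, ← Ideal.span_singleton_pow, hn (i y) hmem, ← pow_mul, ← he y]
    simp only [n', dif_pos hmem]
  obtain ⟨J, hJ, hJs⟩ := Ega4late.H532.Spread.exists_effCartier s (by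
    intro y
    rw [mem_nonZeroDivisors_iff_ne_zero]
    by_cases hy : η ⤳ y
    · rw [hs1 y hy]
      intro h0
      exact pow_ne_zero (e y) (hg0 (i y)) (germ_injective_of_isIntegral Y y (hi y) (h0.trans (map_zero _).symm))
    · rw [hs2 y hy]
      exact one_ne_zero) (by
    intro y' y hy
    by_cases hηy' : η ⤳ y'
    · have hηy : η ⤳ y := hηy'.trans hy
      rw [hs1 y' hηy', hs1 y hηy]
      have h1 : (Y.presheaf.stalkSpecializes hy).hom (Y.presheaf.germ (W (i y)) y (hi y) (g (i y) ^ e y)) =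
          Y.presheaf.germ (W (i y)) y' (hy.mem_open (W (i y)).isOpen (hi y)) (g (i y) ^ e y) :=
        TopCat.Presheaf.germ_stalkSpecializes_apply Y.presheaf (hi y) hy _
      rw [h1]
      have hbas : ∀ j, j ≠ 0 → ∀ y, ∀ z ∈ W y, ¬ η ⤳ z → z ∈ Y.basicOpen (g y ^ j) := by
        intro j hj y z hz hnz
        rw [Scheme.mem_basicOpen _ _ _ hz, map_pow]
        exact ((hunit y z hz).2 hnz).pow j
      apply le_antisymm
      · rw [Ideal.span_singleton_le_iff_mem]
        refine span_eq hYn η hη hηy' (hi y') (hy.mem_open (W (i y)).isOpen (hi y)) _ _ (hbas _ (he0 y') _)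
          (pow_ne_zero _ (hg0 _)) ?_
        rw [← Ideal.span_singleton_le_iff_mem, hgη y' hηy', hgη y hηy]
      · rw [Ideal.span_singleton_le_iff_mem]
        refine span_eq hYn η hη hηy' (hy.mem_open (W (i y)).isOpen (hi y)) (hi y') _ _ (hbas _ (he0 y) _)
          (pow_ne_zero _ (hg0 _)) ?_
        rw [← Ideal.span_singleton_le_iff_mem, hgη y' hηy', hgη y hηy]
    · rw [hs2 y' hηy', Ideal.span_singleton_one, Ideal.span_singleton_eq_top]
      by_cases hηy : η ⤳ y
      · rw [hs1 y hηy]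
        have h1 : (Y.presheaf.stalkSpecializes hy).hom (Y.presheaf.germ (W (i y)) y (hi y) (g (i y) ^ e y)) =
            Y.presheaf.germ (W (i y)) y' (hy.mem_open (W (i y)).isOpen (hi y)) (g (i y) ^ e y) :=
          TopCat.Presheaf.germ_stalkSpecializes_apply Y.presheaf (hi y) hy _
        rw [h1, map_pow]
        exact ((hunit _ _ _).2 hηy').pow _
      · rw [hs2 y hηy, map_one]
        exact isUnit_one) (by
    have : {y : Y | ¬ IsUnit (s y)} = closure {η} := by
      ext y
      rw [Set.mem_ofPred_eq, hsu, specializes_iff_mem_closure]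
    rw [this]
    exact isClosed_closure)
  refine ⟨J, hJ, ?_⟩
  ext y
  change y ∈ J.support ↔ _
  rw [mem_support_iff_stalkIdeal_ne_top, hJs, Ne, Ideal.span_singleton_eq_top, hsu, specializes_iff_mem_closure]

end Groth.Agent.IntSh.K877.GlueEff
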