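import Mathlib.FieldTheory.Minpoly.IsIntegrallyClosed
import Mathlib.RingTheory.Ideal.GoingUp
import Mathlib.RingTheory.Noetherian.Basic

/-!
# Zero loci and constant coefficients of minimal polynomials

* `exists_normLike`: `A → B` integral injective, `A` integrally closed, `B` a domain, `h ∈ B`: there is `g ∈ A` whose zero
  locus is the image of the zero locus of `h`.
* `exists_semilocal_generator`: an ideal locally principal at finitely many pairwise incomparable primes is generated at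
  all of them by a single element.
-/

set_option autoImplicit false

namespace Groth.Agent.IntSh.K877.NormSet

open Polynomial

theorem exists_normLike {A B : Type*} [CommRing A] [IsDomain A] [IsIntegrallyClosed A] [CommRing B] [IsDomain B]
    [Algebra A B] [Algebra.IsIntegral A B] [FaithfulSMul A B] (h : B) :
    ∃ g : A, ∀ p : Ideal A, p.IsPrime →
      (g ∈ p ↔ ∃ q : Ideal B, q.IsPrime ∧ q.comap (algebraMap A B) = p ∧ h ∈ q) := by
  have hx : IsIntegral A h := Algebra.IsIntegral.isIntegral h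
  refine ⟨(minpoly A h).coeff 0, fun p hp => ⟨fun hg => ?_, ?_⟩⟩
  · let C := Algebra.adjoin A ({h} : Set B)
    let e : AdjoinRoot (minpoly A h) ≃ₐ[A] C := minpoly.equivAdjoin hx
    let ψ : AdjoinRoot (minpoly A h) →+* A ⧸ p := AdjoinRoot.lift (Ideal.Quotient.mk p) 0 (by
      rw [Polynomial.eval₂_at_zero]
      exact Ideal.Quotient.eq_zero_iff_mem.2 hg)
    let φ : C →+* A ⧸ p := ψ.comp (e.symm : C →+* AdjoinRoot (minpoly A h))
    have hP : (RingHom.ker φ).IsPrime := RingHom.ker_isPrime φ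
    have hφA : ∀ a : A, φ (algebraMap A C a) = Ideal.Quotient.mk p a := by
      intro a
      change ψ (e.symm (algebraMap A C a)) = _
      rw [e.symm.commutes]
      exact AdjoinRoot.lift_of _
    have hφh : φ ⟨h, Algebra.subset_adjoin rfl⟩ = 0 := by
      change ψ (e.symm _) = 0
      have h1 : e (AdjoinRoot.root _) = ⟨h, Algebra.subset_adjoin rfl⟩ := by
        apply Subtype.ext
        have h3 : (e (AdjoinRoot.mk (minpoly A h) X) : B) = h := by
          rw [minpoly.coe_equivAdjoin]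
          exact AdjoinRoot.Minpoly.coe_toAdjoin_mk_X
        exact h3
      rw [← h1, e.symm_apply_apply]
      exact AdjoinRoot.lift_root _
    have : Algebra.IsIntegral C B := Algebra.IsIntegral.tower_top (R := A)
    obtain ⟨Q, -, hQ, hQC⟩ := Ideal.exists_ideal_over_prime_of_isIntegral (R := C) (S := B) (RingHom.ker φ) ⊥ (by
      intro c hc
      have h1 : algebraMap C B c = 0 := hc
      have h2 : c = 0 := Subtype.ext h1
      rw [h2]
      exact zero_mem _)
    refine ⟨Q, hQ, ?_, ?_⟩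
    · ext a
      rw [Ideal.mem_comap, IsScalarTower.algebraMap_apply A C B, ← Ideal.mem_comap, hQC, RingHom.mem_ker, hφA,
        Ideal.Quotient.eq_zero_iff_mem]
    · have h1 : (⟨h, Algebra.subset_adjoin rfl⟩ : C) ∈ Q.comap (algebraMap C B) := by
        rw [hQC, RingHom.mem_ker, hφh]
      exact h1
  · rintro ⟨q, hq, rfl, hhq⟩
    rw [Ideal.mem_comap]
    have h2 : aeval h (minpoly A h) = 0 := minpoly.aeval A h
    rw [← divX_mul_X_add (minpoly A h)] at h2
    simp only [map_add, map_mul, aeval_X, aeval_C] at h2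
    have h3 : algebraMap A B ((minpoly A h).coeff 0) = h * (-(aeval h (minpoly A h).divX)) := by
      linear_combination h2
    rw [h3]
    exact q.mul_mem_right _ hhq

/-- `h` generates `J` at `q`, up to a denominator. -/
def GenAt {B : Type*} [CommRing B] (J : Ideal B) (h : B) (q : Ideal B) : Prop :=
  h ∈ J ∧ ∃ s ∉ q, ∀ x ∈ J, s * x ∈ Ideal.span {h}

theorem exists_semilocal_generator {B : Type*} [CommRing B] (J : Ideal B) (Q : Finset (Ideal B))
    (hQ : ∀ q ∈ Q, q.IsPrime) (hinc : ∀ q ∈ Q, ∀ q' ∈ Q, q' ≤ q → q' = q) (h : ∀ q ∈ Q, ∃ h, GenAt J h q) :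
    ∃ h ∈ J, ∀ q ∈ Q, GenAt J h q := by
  classical
  choose! a ha using h
  -- separating elements
  have hsep : ∀ q ∈ Q, ∃ e : B, e ∉ q ∧ ∀ q' ∈ Q, q' ≠ q → e ∈ q' := by
    intro q hq
    have := hQ q hq
    have h1 : ¬ (∏ q' ∈ Q.erase q, q') ≤ q := by
      intro hle
      obtain ⟨q', hq', hle'⟩ := (Ideal.IsPrime.prod_le this).1 hle
      rw [Finset.mem_erase] at hq'
      exact hq'.1 (hinc q hq q' hq'.2 hle')
    obtain ⟨e, he, heq⟩ := SetLike.not_le_iff_exists.1 h1
    refine ⟨e, heq, fun q' hq' hne => ?_⟩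
    exact (Ideal.prod_le_inf.trans (Finset.inf_le (Finset.mem_erase.2 ⟨hne, hq'⟩))) he
  choose! e he he' using hsep
  refine ⟨∑ q ∈ Q, e q * a q, J.sum_mem fun q hq => J.mul_mem_left _ (ha q hq).1, fun q hq => ?_⟩
  refine ⟨J.sum_mem fun q hq => J.mul_mem_left _ (ha q hq).1, ?_⟩
  have := hQ q hq
  obtain ⟨s, hs, hsJ⟩ := (ha q hq).2
  have hb : ∀ q' ∈ Q, ∃ b, s * a q' = b * a q := by
    intro q' hq'
    obtain ⟨b, hb⟩ := Ideal.mem_span_singleton'.1 (hsJ _ (ha q' hq').1)
    exact ⟨b, hb.symm⟩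
  choose! b hb using hb
  let w : B := s * e q + ∑ q' ∈ Q.erase q, e q' * b q'
  have hw : w ∉ q := by
    intro hcon
    have h1 : ∑ q' ∈ Q.erase q, e q' * b q' ∈ q := q.sum_mem fun q' hq' => by
      rw [Finset.mem_erase] at hq'
      exact q.mul_mem_right _ (he' q' hq'.2 q hq (Ne.symm hq'.1))
    have h2 : s * e q ∈ q := by
      have := q.sub_mem hcon h1
      simpa [w] using this
    rcases this.mem_or_mem h2 with h3 | h3
    · exact hs h3
    · exact he q hq h3
  have hwh : w * a q = s * ∑ q' ∈ Q, e q' * a q' := by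
    rw [← Finset.add_sum_erase Q _ hq, mul_add, Finset.mul_sum, add_mul, Finset.sum_mul]
    congr 1
    · ring
    · refine Finset.sum_congr rfl fun q' hq' => ?_
      rw [Finset.mem_erase] at hq'
      have := hb q' hq'.2
      linear_combination (-e q') * this
  refine ⟨w * s, fun hcon => (this.mem_or_mem hcon).elim hw hs, fun x hx => ?_⟩
  obtain ⟨c, hc⟩ := Ideal.mem_span_singleton'.1 (hsJ x hx)
  rw [Ideal.mem_span_singleton']
  refine ⟨c * s, ?_⟩
  rw [mul_assoc, ← hwh, mul_assoc, ← hc]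
  ring

/-- The image of the zero locus of an ideal which is locally principal at the primes over `p₀` is principal near `p₀`,
set-theoretically. -/
theorem exists_near {A B : Type*} [CommRing A] [IsDomain A] [IsIntegrallyClosed A] [CommRing B] [IsDomain B]
    [Algebra A B] [Algebra.IsIntegral A B] [FaithfulSMul A B] (J : Ideal B) (p₀ : Ideal A) [p₀.IsPrime]
    (hfin : {q : Ideal B | q.IsPrime ∧ q.comap (algebraMap A B) = p₀}.Finite)
    (hJ : ∀ q : Ideal B, q.IsPrime → q.comap (algebraMap A B) = p₀ → ∃ h, GenAt J h q) :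
    ∃ a ∉ p₀, ∃ g : A, ∀ p : Ideal A, p.IsPrime → a ∉ p →
      (g ∈ p ↔ ∃ q : Ideal B, q.IsPrime ∧ q.comap (algebraMap A B) = p ∧ J ≤ q) := by
  classical
  obtain ⟨h, hhJ, hh⟩ := exists_semilocal_generator J hfin.toFinset (fun q hq => ((hfin.mem_toFinset).1 hq).1)
    (fun q hq q' hq' hle => by
      rw [hfin.mem_toFinset] at hq hq'
      have := hq'.1
      by_contra hne
      have := Ideal.IsIntegral.comap_lt_comap (R := A) (lt_of_le_of_ne hle hne)
      rw [hq.2, hq'.2] at this
      exact lt_irrefl _ this) (fun q hq => by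
      rw [hfin.mem_toFinset] at hq
      exact hJ q hq.1 hq.2)
  let K : Ideal B := (Ideal.span {h}).colon (J : Set B)
  have hK : ¬ K.comap (algebraMap A B) ≤ p₀ := by
    intro hle
    obtain ⟨q, hKq, hq, hqp⟩ := Ideal.exists_ideal_over_prime_of_isIntegral p₀ K hle
    obtain ⟨s, hs, hsJ⟩ := (hh q (by rw [hfin.mem_toFinset]; exact ⟨hq, hqp⟩)).2
    apply hs
    apply hKq
    rw [Submodule.mem_colon]
    exact hsJ
  obtain ⟨a, ha, hap⟩ := SetLike.not_le_iff_exists.1 hK
  have haJ : ∀ x ∈ J, algebraMap A B a * x ∈ Ideal.span {h} := by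
    have h1 : algebraMap A B a ∈ K := ha
    rw [Submodule.mem_colon] at h1
    exact h1
  obtain ⟨g, hg⟩ := exists_normLike (A := A) h
  refine ⟨a, hap, g, fun p hp hpa => (hg p hp).trans ⟨?_, ?_⟩⟩
  · rintro ⟨q, hq, rfl, hhq⟩
    refine ⟨q, hq, rfl, fun x hx => ?_⟩
    have h1 : algebraMap A B a * x ∈ q := (Ideal.span_singleton_le_iff_mem _).2 hhq (haJ x hx)
    exact (hq.mem_or_mem h1).resolve_left hpa
  · rintro ⟨q, hq, rfl, hJq⟩
    exact ⟨q, hq, rfl, hJq hhJ⟩

end Groth.Agent.IntSh.K877.NormSet
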