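import Groth.Agent.IntSh.K877.EffFibre
import Groth.Agent.IntSh.K877.NormSet
import Groth.Agent.CycB.PushLocal
import Groth.Agent.Ega2.Normal
import Groth.Agent.Variety.K432.CurveLift

/-!
# Local equations of closures of points of codimension one from finite quasi-sections
-/

set_option autoImplicit false
universe u
open CategoryTheory CategoryTheory.Limits AlgebraicGeometry TopologicalSpace

namespace Groth.Agent.IntSh.K877.LocEqn

open Groth.Agent.Divis.CartierBasic Groth.Agent.Divis.EffCartier NormSet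

/-- The prime of a point of an open. -/
noncomputable def pr {X : Scheme.{u}} {U : X.Opens} {x : X} (hx : x ∈ U) : Ideal Γ(X, U) :=
  (IsLocalRing.maximalIdeal (X.presheaf.stalk x)).comap (X.presheaf.germ U x hx).hom

theorem pr_isPrime {X : Scheme.{u}} {U : X.Opens} {x : X} (hx : x ∈ U) : (pr hx).IsPrime :=
  Ideal.comap_isPrime _ _

theorem mem_pr {X : Scheme.{u}} {U : X.Opens} {x : X} (hx : x ∈ U) (a : Γ(X, U)) :
    a ∈ pr hx ↔ x ∉ X.basicOpen a := by
  rw [Scheme.mem_basicOpen _ _ x hx, pr, Ideal.mem_comap, IsLocalRing.mem_maximalIdeal, mem_nonunits_iff]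

theorem comap_pr {X Y : Scheme.{u}} (f : X ⟶ Y) {V : Y.Opens} {x : X} (hx : x ∈ f ⁻¹ᵁ V) (hx' : f x ∈ V) :
    (pr hx).comap (f.app V).hom = pr hx' := by
  ext a
  rw [Ideal.mem_comap, mem_pr, mem_pr, ← Scheme.preimage_basicOpen]
  rfl

theorem fromSpec_mem {X : Scheme.{u}} {U : X.Opens} (hU : IsAffineOpen U) (p : Spec Γ(X, U)) :
    hU.fromSpec p ∈ U := by
  have : hU.fromSpec p ∈ Set.range hU.fromSpec := ⟨p, rfl⟩
  rwa [hU.range_fromSpec] at this

theorem pr_fromSpec {X : Scheme.{u}} {U : X.Opens} (hU : IsAffineOpen U) (p : Spec Γ(X, U)) :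
    pr (fromSpec_mem hU p) = p.asIdeal := by
  ext a
  rw [mem_pr]
  have h1 : hU.fromSpec p ∈ X.basicOpen a ↔ p ∈ PrimeSpectrum.basicOpen a := by
    rw [← hU.fromSpec_preimage_basicOpen]
    rfl
  rw [h1]
  exact not_not

/-- Every prime of the sections over an affine open is the prime of a point. -/
theorem exists_pr {X : Scheme.{u}} {U : X.Opens} (hU : IsAffineOpen U) (q : Ideal Γ(X, U)) (hq : q.IsPrime) :
    ∃ (x : X) (hx : x ∈ U), pr hx = q :=
  ⟨_, fromSpec_mem hU ⟨q, hq⟩, pr_fromSpec hU ⟨q, hq⟩⟩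

theorem pr_injective {X : Scheme.{u}} {U : X.Opens} (hU : IsAffineOpen U) {x y : X} (hx : x ∈ U) (hy : y ∈ U)
    (h : pr hx = pr hy) : x = y := by
  have hx' : x ∈ Set.range hU.fromSpec := by rw [hU.range_fromSpec]; exact hx
  have hy' : y ∈ Set.range hU.fromSpec := by rw [hU.range_fromSpec]; exact hy
  obtain ⟨p, rfl⟩ := hx'
  obtain ⟨p', rfl⟩ := hy'
  have h1 := (pr_fromSpec hU p).symm.trans (h.trans (pr_fromSpec hU p'))
  rw [PrimeSpectrum.ext h1]

theorem pr_eq {X : Scheme.{u}} {U : X.Opens} (hU : IsAffineOpen U) {x : X} (hx : x ∈ U) :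
    pr hx = (hU.primeIdealOf ⟨x, hx⟩).asIdeal := by
  have h1 := pr_fromSpec hU (hU.primeIdealOf ⟨x, hx⟩)
  rw [← h1]
  congr 1
  exact (hU.fromSpec_primeIdealOf ⟨x, hx⟩).symm

theorem pr_le_iff {X : Scheme.{u}} {U : X.affineOpens} {x : X} (hx : x ∈ U.1) (I : X.IdealSheafData) :
    I.ideal U ≤ pr hx ↔ x ∈ I.support := by
  rw [mem_support_iff_stalkIdeal_le, stalkIdeal_eq I U hx, Ideal.map_le_iff_le_comap]
  rfl

theorem genAt_of_localization {R : Type*} [CommRing R] [IsNoetherianRing R] (q : Ideal R) [q.IsPrime] (S : Type*)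
    [CommRing S] [Algebra R S] [IsLocalization.AtPrime S q] (J : Ideal R) (b : S)
    (h : J.map (algebraMap R S) = Ideal.span {b}) : ∃ a, GenAt J a q := by
  classical
  have hb : b ∈ J.map (algebraMap R S) := by rw [h]; exact Ideal.mem_span_singleton_self b
  rw [IsLocalization.mem_map_algebraMap_iff q.primeCompl] at hb
  obtain ⟨⟨⟨a, ha⟩, s⟩, has⟩ := hb
  simp only at has
  have hs : IsUnit (algebraMap R S s) := IsLocalization.map_units _ s
  have h2 : J.map (algebraMap R S) = Ideal.span {algebraMap R S a} := by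
    rw [h, ← has]
    exact (Ideal.span_singleton_mul_right_unit hs b).symm
  refine ⟨a, ha, ?_⟩
  -- finitely many generators
  obtain ⟨T, hT⟩ := (isNoetherianRing_iff_ideal_fg R).1 inferInstance J
  have hx : ∀ x ∈ J, ∃ s ∉ q, s * x ∈ Ideal.span {a} := by
    intro x hx
    have h3 : algebraMap R S x ∈ Ideal.span {algebraMap R S a} := by
      rw [← h2]; exact Ideal.mem_map_of_mem _ hx
    have h4 : algebraMap R S x ∈ (Ideal.span {a}).map (algebraMap R S) := by
      rwa [Ideal.map_span, Set.image_singleton]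
    rw [IsLocalization.mem_map_algebraMap_iff q.primeCompl] at h4
    obtain ⟨⟨⟨c, hc⟩, s⟩, hcs⟩ := h4
    simp only at hcs
    rw [← map_mul] at hcs
    obtain ⟨⟨t, ht⟩, htt⟩ := (IsLocalization.eq_iff_exists q.primeCompl S).1 hcs
    refine ⟨t * s, fun hcon => (Ideal.IsPrime.mem_or_mem ‹q.IsPrime› hcon).elim ht s.2, ?_⟩
    have : t * s * x = t * c := by
      simp only at htt
      rw [← htt]; ring
    rw [this]
    exact Ideal.mul_mem_left _ _ hc
  choose! s hs hsx using hx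
  refine ⟨∏ x ∈ T, s x, ?_, ?_⟩
  · intro hcon
    obtain ⟨x, hxT, hxq⟩ := (Ideal.IsPrime.prod_mem_iff).1 hcon
    exact hs x (by rw [← hT]; exact Ideal.subset_span hxT) hxq
  · intro x hx
    rw [← hT] at hx
    refine Submodule.span_induction (p := fun x _ => (∏ x ∈ T, s x) * x ∈ Ideal.span {a}) ?_ ?_ ?_ ?_ hx
    · intro y hy
      have hyJ : y ∈ J := by rw [← hT]; exact Ideal.subset_span hy
      rw [← Finset.prod_erase_mul T s hy, mul_assoc]
      exact Ideal.mul_mem_left _ _ (hsx y hyJ)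
    · simp
    · intro y z _ _ hy hz
      rw [mul_add]; exact add_mem hy hz
    · intro c y _ hy
      rw [smul_eq_mul, mul_left_comm]
      exact Ideal.mul_mem_left _ _ hy

/-- **Local equation.** `T → Y` proper, `T` integral, finite over `y₀`, dominating the normal scheme `Y`; the support of
an effective Cartier divisor `E` lies over the closure of `η` and contains the fibre over `η`. -/
theorem exists_local_eqn {X Y : Scheme.{u}} [IsLocallyNoetherian Y] [IsIntegral Y] (hYn : Pi1.IsNormalScheme Y)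
    (π : X ⟶ Y) [IsProper π] (E : X.IdealSheafData) (hE : BlowUp.IsEffCartierIdeal E) (η : Y)
    (hE1 : ∀ x, π x = η → x ∈ E.support) (hE2 : ∀ x ∈ E.support, η ⤳ π x)
    (y₀ : Y) (x : X) (hx : π x = genericPoint Y) (hfin : (closure {x} ∩ π ⁻¹' {y₀}).Finite) :
    ∃ (W : Y.Opens) (_ : y₀ ∈ W) (g : Γ(Y, W)), ∀ y ∈ W, (η ⤳ y ↔ y ∉ Y.basicOpen g) := by
  let I := K432.CurveLift.ptIdeal x
  let T : Scheme.{u} := I.subscheme
  let ι : T ⟶ X := I.subschemeι
  have hTi : IsIntegral T := K432.CurveLift.isIntegral_ptIdeal x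
  have hrange : Set.range ι = closure {x} := K432.CurveLift.range_ptIdeal x
  let τ : T ⟶ Y := ι ≫ π
  have hτ : ∀ t, τ t = π (ι t) := fun t => rfl
  have hτgen : τ (genericPoint T) = genericPoint Y := by
    have h1 : x ∈ Set.range ι := by rw [hrange]; exact subset_closure rfl
    obtain ⟨t, ht⟩ := h1
    have h2 : τ (genericPoint T) ⤳ τ t := (genericPoint_specializes t).map τ.continuous
    rw [hτ t, ht, hx] at h2
    exact (h2.antisymm (genericPoint_specializes _)).eq
  have hfinT : (τ ⁻¹' {y₀}).Finite := by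
    refine Set.Finite.of_finite_image (f := ι) (hfin.subset ?_) ι.isClosedEmbedding.injective.injOn
    rintro _ ⟨t, ht, rfl⟩
    exact ⟨by rw [← hrange]; exact ⟨t, rfl⟩, ht⟩
  obtain ⟨V, hV, hyV, hτV, hVfin⟩ := CycB.PushLocal.exists_affine_finite τ y₀ (by
    rintro t rfl
    have : Finite (τ.fiber (τ t)) := (τ.fiberHomeo (τ t)).finite_iff.mpr hfinT
    exact Scheme.Hom.quasiFiniteAt_iff_isOpen_singleton_asFiber.mpr (isOpen_discrete _))
  have hgV : genericPoint T ∈ τ ⁻¹ᵁ V := by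
    change τ (genericPoint T) ∈ V
    rw [hτgen]
    exact (genericPoint_specializes y₀).mem_open V.isOpen hyV
  have : Nonempty V := ⟨⟨y₀, hyV⟩⟩
  have : Nonempty (τ ⁻¹ᵁ V) := ⟨⟨_, hgV⟩⟩
  let _ : Algebra Γ(Y, V) Γ(T, τ ⁻¹ᵁ V) := (τ.app V).hom.toAlgebra
  have halg : algebraMap Γ(Y, V) Γ(T, τ ⁻¹ᵁ V) = (τ.app V).hom := rfl
  have : Module.Finite Γ(Y, V) Γ(T, τ ⁻¹ᵁ V) := hVfin
  have : IsIntegrallyClosed Γ(Y, V) := Ega2.Normal.isIntegrallyClosed_of_isAffineOpen hYn hV ⟨⟨y₀, hyV⟩⟩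
  have : IsNoetherianRing Γ(Y, V) := IsLocallyNoetherian.component_noetherian ⟨V, hV⟩
  have : IsNoetherianRing Γ(T, τ ⁻¹ᵁ V) := IsNoetherianRing.of_finite Γ(Y, V) _
  have : FaithfulSMul Γ(Y, V) Γ(T, τ ⁻¹ᵁ V) := by
    rw [faithfulSMul_iff_algebraMap_injective, injective_iff_map_eq_zero]
    intro a ha
    by_contra hne
    have h1 : genericPoint Y ∈ Y.basicOpen a := by
      have h2 : (Y.basicOpen a : Set Y).Nonempty := by
        by_contra hcon
        rw [Set.not_nonempty_iff_eq_empty] at hcon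
        exact hne ((basicOpen_eq_bot_iff a).1 (TopologicalSpace.Opens.ext hcon))
      obtain ⟨y, hy⟩ := h2
      exact (genericPoint_specializes y).mem_open (Y.basicOpen a).isOpen hy
    have h2 : genericPoint T ∈ τ ⁻¹ᵁ Y.basicOpen a := by
      change τ (genericPoint T) ∈ Y.basicOpen a
      rw [hτgen]; exact h1
    rw [Scheme.preimage_basicOpen] at h2
    have h3 : (τ.app V) a = 0 := ha
    rw [h3, Scheme.basicOpen_zero] at h2
    exact h2
  let J : Ideal Γ(T, τ ⁻¹ᵁ V) := (E.comap ι).ideal ⟨τ ⁻¹ᵁ V, hτV⟩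
  have := pr_isPrime hyV
  -- primes over `p₀` are points over `y₀`
  have hpts : ∀ q : Ideal Γ(T, τ ⁻¹ᵁ V), q.IsPrime → ∀ {y : Y} (hy : y ∈ V),
      q.comap (algebraMap Γ(Y, V) Γ(T, τ ⁻¹ᵁ V)) = pr hy → ∃ (t : T) (ht : t ∈ τ ⁻¹ᵁ V), pr ht = q ∧ τ t = y := by
    intro q hq y hy h
    obtain ⟨t, ht, rfl⟩ := exists_pr hτV q hq
    refine ⟨t, ht, rfl, ?_⟩
    rw [halg, comap_pr τ ht ht] at h
    exact pr_injective hV _ _ h
  obtain ⟨a, ha, g, hg⟩ := exists_near J (pr hyV) (by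
    classical
    refine (hfinT.image fun t => if ht : t ∈ τ ⁻¹ᵁ V then pr ht else ⊤).subset ?_
    rintro q ⟨hq, hqp⟩
    obtain ⟨t, ht, rfl, hty⟩ := hpts q hq hyV hqp
    exact ⟨t, hty, dif_pos ht⟩) (by
    intro q hq _
    obtain ⟨t, ht, rfl⟩ := exists_pr hτV q hq
    let := T.presheaf.algebra_section_stalk (⟨t, ht⟩ : (τ ⁻¹ᵁ V : T.Opens))
    have hloc : IsLocalization.AtPrime (T.presheaf.stalk t) (hτV.primeIdealOf ⟨t, ht⟩).asIdeal :=
      hτV.isLocalization_stalk ⟨t, ht⟩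
    rw [pr_eq hτV ht]
    obtain ⟨b, -, hb⟩ := exists_stalkIdeal_eq_span hE (ι t)
    refine genAt_of_localization _ (T.presheaf.stalk t) J ((ι.stalkMap t).hom b) ?_
    have h1 := Divis.CartierStalk.stalkIdeal_comap E ι t
    rw [hb, Ideal.map_span, Set.image_singleton] at h1
    rw [← h1, stalkIdeal_eq (E.comap ι) ⟨τ ⁻¹ᵁ V, hτV⟩ ht]
    rfl)
  refine ⟨Y.basicOpen a, ?_, Y.presheaf.map (homOfLE (Y.basicOpen_le a)).op g, fun y hy => ?_⟩
  · by_contra h
    exact ha ((mem_pr hyV a).2 h)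
  · have hyV' : y ∈ V := Y.basicOpen_le a hy
    have h1 : y ∉ Y.basicOpen (Y.presheaf.map (homOfLE (Y.basicOpen_le a)).op g) ↔ g ∈ pr hyV' := by
      rw [mem_pr, Scheme.basicOpen_res]
      constructor
      · intro h h'
        exact h ⟨hy, h'⟩
      · intro h h'
        exact h h'.2
    rw [h1, hg _ (pr_isPrime hyV') (fun h => (mem_pr hyV' a).1 h hy)]
    constructor
    · intro hηy
      have hcl : IsClosed (τ '' (ι ⁻¹' (E.support : Set X))) :=
        τ.isClosedMap _ (E.support.isClosed.preimage ι.continuous)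
      have hclT : IsClosed (Set.range τ) := by
        rw [← Set.image_univ]
        exact τ.isClosedMap _ isClosed_univ
      have hηT : η ∈ Set.range τ := by
        have h2 : closure {genericPoint Y} ⊆ Set.range τ :=
          closure_minimal (Set.singleton_subset_iff.2 ⟨_, hτgen⟩) hclT
        rw [genericPoint_closure] at h2
        exact h2 trivial
      obtain ⟨s, hs⟩ := hηT
      have hη : η ∈ τ '' (ι ⁻¹' (E.support : Set X)) := ⟨s, hE1 _ hs, hs⟩
      have hy' : y ∈ τ '' (ι ⁻¹' (E.support : Set X)) :=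
        (closure_minimal (Set.singleton_subset_iff.2 hη) hcl) (specializes_iff_mem_closure.1 hηy)
      obtain ⟨t, ht, rfl⟩ := hy'
      have htV : t ∈ τ ⁻¹ᵁ V := hyV'
      refine ⟨pr htV, pr_isPrime htV, comap_pr τ htV _, ?_⟩
      refine (pr_le_iff (U := ⟨τ ⁻¹ᵁ V, hτV⟩) htV (E.comap ι)).2 ?_
      rw [Scheme.IdealSheafData.support_comap]
      exact ht
    · rintro ⟨q, hq, hqp, hJq⟩
      obtain ⟨t, ht, rfl, rfl⟩ := hpts q hq hyV' hqp
      have h2 : t ∈ (E.comap ι).support := (pr_le_iff (U := ⟨τ ⁻¹ᵁ V, hτV⟩) ht (E.comap ι)).1 hJq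
      rw [Scheme.IdealSheafData.support_comap] at h2
      exact hE2 _ h2

end Groth.Agent.IntSh.K877.LocEqn
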