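import Groth.Agent.IntSh.K877.Cut
import Groth.Prelude.Def_RelProj

/-!
# Locally projective morphisms have enough good opens locally over the base
-/

set_option autoImplicit false
universe u
open CategoryTheory CategoryTheory.Limits AlgebraicGeometry TopologicalSpace

namespace Groth.Agent.IntSh.K877.LocProj

theorem exists_enough {X Y : Scheme.{u}} (π : X ⟶ Y) (h : RelProj.IsLocallyProjective π) (y : Y) :
    ∃ V : Y.Opens, y ∈ V ∧ IsAffineOpen V ∧ Cut.Enough ((π ⁻¹ᵁ V : X.Opens) : Scheme.{u}) := by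
  obtain ⟨U, hyU, 𝒮, P, p, chart, e, -, -, -, hep⟩ := h y
  obtain ⟨V', hV', hyV'⟩ : ∃ V' : (U : Scheme.{u}).Opens, IsAffineOpen V' ∧ (⟨y, hyU⟩ : U) ∈ V' := by
    obtain ⟨_, ⟨V', hV', rfl⟩, h1, -⟩ := (U : Scheme.{u}).isBasis_affineOpens.exists_subset_of_mem_open
      (Set.mem_univ (⟨y, hyU⟩ : U)) isOpen_univ
    exact ⟨V', hV', h1⟩
  have hE : Cut.Enough ((p ⁻¹ᵁ V' : P.Opens) : Scheme.{u}) :=
    (Cut.enough_proj (𝒮.deg V' hV')).of_iso (chart V' hV')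
  refine ⟨U.ι ''ᵁ V', ⟨⟨y, hyU⟩, hyV', rfl⟩, hV'.image_of_isOpenImmersion U.ι, ?_⟩
  let W' : ((π ⁻¹ᵁ U : X.Opens) : Scheme.{u}).Opens := (π ∣_ U) ⁻¹ᵁ V'
  have hr1 : Set.range (π ⁻¹ᵁ (U.ι ''ᵁ V')).ι = Set.range (W'.ι ≫ (π ⁻¹ᵁ U).ι) := by
    rw [Scheme.Hom.comp_base, TopCat.coe_comp, Set.range_comp]
    have h1 := image_morphismRestrict_preimage π U V'
    have h2 := congrArg (fun W : X.Opens => (W : Set X)) h1
    simp only [Scheme.Opens.range_ι]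
    exact h2.symm
  have hr2 : Set.range (W'.ι ≫ e.hom) = Set.range (p ⁻¹ᵁ V').ι := by
    have h1 : W' = e.hom ⁻¹ᵁ (p ⁻¹ᵁ V') := by
      rw [← Scheme.Hom.comp_preimage, hep]
    rw [Scheme.Hom.comp_base, TopCat.coe_comp, Set.range_comp]
    simp only [Scheme.Opens.range_ι, h1]
    exact Set.image_preimage_eq ((p ⁻¹ᵁ V' : P.Opens) : Set P) e.hom.surjective
  let i1 := IsOpenImmersion.isoOfRangeEq (π ⁻¹ᵁ (U.ι ''ᵁ V')).ι (W'.ι ≫ (π ⁻¹ᵁ U).ι) hr1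
  let i2 := IsOpenImmersion.isoOfRangeEq (W'.ι ≫ e.hom) (p ⁻¹ᵁ V').ι hr2
  exact hE.of_iso (i1 ≪≫ i2)

end Groth.Agent.IntSh.K877.LocProj
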