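import Groth.Agent.EGA2.K37.GenSurj
import Groth.Agent.EGA2.K35.RelProjBasic
import Groth.Agent.Ega3B.ProjProper
import Groth.Prelude.Def_RelProj

/-!
# `Proj` of a graded ring generated in degree one is closed in projective space; projective morphisms are proper
-/

set_option autoImplicit false
universe u
open CategoryTheory CategoryTheory.Limits AlgebraicGeometry TopologicalSpace
open scoped HomogeneousIdeal

namespace Groth.Agent.IntSh.K877.ProjEmb

variable {R A σ : Type u} [CommRing R] [CommRing A] [SetLike σ A] [AddSubgroupClass σ A] (𝒜 : ℕ → σ)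
  [GradedRing 𝒜] (s : R →+* 𝒜 0)

/-- The graded homomorphism `R[T_0, …, T_n] → A`, `T_i ↦ x_i`. -/
noncomputable def evalHom {n : ℕ} (x : Fin (n + 1) → A) (hx : ∀ i, x i ∈ 𝒜 1) :
    CohB1.polyGrading n R →+*ᵍ 𝒜 :=
  { MvPolynomial.eval₂Hom ((algebraMap (𝒜 0) A).comp s) x with
    map_mem := by
      intro d p hp
      change MvPolynomial.eval₂ ((algebraMap (𝒜 0) A).comp s) x p ∈ 𝒜 d
      rw [MvPolynomial.eval₂_eq]
      refine sum_mem fun m hm => ?_
      have h3 : ∏ i ∈ m.support, x i ^ m i ∈ 𝒜 (∑ i ∈ m.support, m i • 1) :=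
        SetLike.prod_mem_graded 𝒜 _ _ fun i _ => SetLike.pow_mem_graded (m i) (hx i)
      have h4 : ∑ i ∈ m.support, m i • 1 = d := by
        have := (MvPolynomial.mem_homogeneousSubmodule d p).1 hp
        have h2 := this (MvPolynomial.mem_support_iff.1 hm)
        rw [Finsupp.weight_apply] at h2
        exact h2
      rw [h4] at h3
      have h5 := SetLike.mul_mem_graded (A := 𝒜) (s (MvPolynomial.coeff m p)).2 h3
      rw [zero_add] at h5
      exact h5 }

theorem evalHom_apply {n : ℕ} (x : Fin (n + 1) → A) (hx : ∀ i, x i ∈ 𝒜 1) (p : MvPolynomial (Fin (n + 1)) R) :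
    evalHom 𝒜 s x hx p = MvPolynomial.eval₂ ((algebraMap (𝒜 0) A).comp s) x p := rfl

theorem exists_closedImmersion (hgen : Subring.closure ((𝒜 0 : Set A) ∪ (𝒜 1 : Set A)) = ⊤)
    (T : Finset A) (hT1 : (↑T : Set A) ⊆ (𝒜 1 : Set A))
    (hT : ∀ x ∈ 𝒜 1, ∃ c : A → R, x = ∑ y ∈ T, (s (c y) : A) * y) :
    ∃ (n : ℕ) (i : Proj 𝒜 ⟶ CohB1.ProjSpace n R), IsClosedImmersion i ∧
      i ≫ CohB1.ProjSpace.toSpec n R = Proj.toSpecZero 𝒜 ≫ Spec.map (CommRingCat.ofHom s) := by
  classical
  obtain ⟨x, hx, hxT⟩ : ∃ x : Fin (T.card + 1) → A, (∀ i, x i ∈ 𝒜 1) ∧ ∀ y ∈ T, ∃ i, x i = y := by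
    refine ⟨Fin.cons 0 (fun i => (T.equivFin.symm i : A)), ?_, ?_⟩
    · intro i
      refine Fin.cases ?_ (fun i => ?_) i
      · exact zero_mem _
      · exact hT1 (T.equivFin.symm i).2
    · intro y hy
      exact ⟨Fin.succ (T.equivFin ⟨y, hy⟩), by simp⟩
  have hsurj : K37.ProjRing.PosSurj (evalHom 𝒜 s x hx) := by
    refine K37.GenSurj.posSurj _ hgen ?_
    intro b hb
    obtain ⟨c, hc⟩ := hT b hb
    choose! j hj using hxT
    refine ⟨∑ y ∈ T, MvPolynomial.C (c y) * MvPolynomial.X (j y), ?_, ?_⟩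
    · refine sum_mem fun y _ => ?_
      rw [MvPolynomial.mem_homogeneousSubmodule]
      have := (MvPolynomial.isHomogeneous_C (Fin (T.card + 1)) (c y)).mul (MvPolynomial.isHomogeneous_X R (j y))
      rwa [zero_add] at this
    · rw [map_sum, hc]
      refine Finset.sum_congr rfl fun y hy => ?_
      rw [map_mul, evalHom_apply, evalHom_apply, MvPolynomial.eval₂_C, MvPolynomial.eval₂_X, hj y hy]
      rfl
  have hirr := K37.ProjRing.irrelevant_le_map hsurj
  refine ⟨T.card, Proj.map (evalHom 𝒜 s x hx) hirr, K37.ProjRing.isClosedImmersion_map hirr hsurj, ?_⟩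
  have := K35.ProjZero.map_toSpecZero_comp (evalHom 𝒜 s x hx) hirr
    (CommRingCat.ofHom (algebraMap R (CohB1.polyGrading T.card R 0))) (CommRingCat.ofHom s) (𝟙 _) (by
      intro r
      exact (MvPolynomial.eval₂_C ((algebraMap (𝒜 0) A).comp s) x r).symm)
  rw [Spec.map_id, Category.comp_id] at this
  exact this

theorem isProper_proj (hgen : Subring.closure ((𝒜 0 : Set A) ∪ (𝒜 1 : Set A)) = ⊤)
    (T : Finset A) (hT1 : (↑T : Set A) ⊆ (𝒜 1 : Set A))
    (hT : ∀ x ∈ 𝒜 1, ∃ c : A → R, x = ∑ y ∈ T, (s (c y) : A) * y) :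
    IsProper (Proj.toSpecZero 𝒜 ≫ Spec.map (CommRingCat.ofHom s)) := by
  obtain ⟨n, i, hi, h⟩ := exists_closedImmersion 𝒜 s hgen T hT1 hT
  rw [← h]
  have := Ega3B.ProjProper.isProper_toSpec n R
  infer_instance

/-- Projective morphisms are proper. -/
theorem isProper_of_isProjective {X S : Scheme.{u}} (f : X ⟶ S) (hf : RelProj.IsProjective f) : IsProper f := by
  obtain ⟨𝒮, P, p, chart, e, hgen, hft, hP, rfl⟩ := hf
  have hp : IsProper p := K35.RelProjBasic.of_charts hP @IsProper fun U hU => by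
    obtain ⟨T, hT1, hT⟩ := hft U hU
    exact isProper_proj (𝒮.deg U hU) (𝒮.strZero U hU).hom (hgen U hU) T hT1 hT
  infer_instance

/-- Locally projective morphisms are proper. -/
theorem isProper_of_isLocallyProjective {X S : Scheme.{u}} (f : X ⟶ S) (hf : RelProj.IsLocallyProjective f) :
    IsProper f := by
  choose U hU hUf using hf
  rw [IsZariskiLocalAtTarget.iff_of_iSup_eq_top (P := @IsProper) U (by
    rw [eq_top_iff]
    intro s _
    exact TopologicalSpace.Opens.mem_iSup.2 ⟨s, hU s⟩)]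
  exact fun s => isProper_of_isProjective _ (hUf s)

end Groth.Agent.IntSh.K877.ProjEmb
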