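import Groth.Agent.CohqB.ProjBC

/-!
Ring-valued points of projective space given by homogeneous coordinates.

* `coordPt β s j h : Spec C ⟶ ProjSpace n R` for `β : R →+* C`, `s : Fin (n+1) → C`, `s j` a unit.
* `coordPt_indep`, `coordPt_scale`, `coordPt_map`, `coordPt_toSpec`, `exists_coordPt`, `coordPt_inj`.
-/

set_option autoImplicit false
universe u
open CategoryTheory CategoryTheory.Limits AlgebraicGeometry HomogeneousLocalization MvPolynomial
open Groth.Agent.CohqB.ProjBC

namespace Groth.Agent.IntSh.K877.ProjPt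

open CohB1

variable {n : ℕ} {R : Type u} [CommRing R] {C : Type u} [CommRing C]

section away

variable (φ : MvPolynomial (Fin (n + 1)) R →+* C)

/-- The map from the degree zero localization. -/
noncomputable def awayHom (f : MvPolynomial (Fin (n + 1)) R) (h : IsUnit (φ f)) :
    Away (polyGrading n R) f →+* C :=
  (IsLocalization.Away.lift (S := Localization.Away f) f h).comp
    (algebraMap (Away (polyGrading n R) f) (Localization.Away f))

theorem awayHom_val (f : MvPolynomial (Fin (n + 1)) R) (h : IsUnit (φ f)) (z : Away (polyGrading n R) f) :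
    awayHom φ f h z = IsLocalization.Away.lift (S := Localization.Away f) f h z.val := rfl

theorem lift_mk (f : MvPolynomial (Fin (n + 1)) R) (h : IsUnit (φ f)) (a : MvPolynomial (Fin (n + 1)) R) (k : ℕ) :
    IsLocalization.Away.lift (S := Localization.Away f) f h (Localization.mk a ⟨f ^ k, k, rfl⟩) * φ f ^ k = φ a := by
  rw [← map_pow]
  have h1 : φ (f ^ k) = IsLocalization.Away.lift (S := Localization.Away f) f h
      (algebraMap _ (Localization.Away f) (f ^ k)) := (IsLocalization.Away.lift_eq f h _).symm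
  rw [h1, ← map_mul, ← Localization.mk_one_eq_algebraMap, Localization.mk_mul]
  have h2 : Localization.mk (a * f ^ k) (⟨f ^ k, k, rfl⟩ * 1 : Submonoid.powers f) =
      algebraMap (MvPolynomial (Fin (n + 1)) R) (Localization.Away f) a := by
    rw [← Localization.mk_one_eq_algebraMap, Localization.mk_eq_mk_iff, Localization.r_iff_exists]
    refine ⟨1, ?_⟩
    simp
    ring
  rw [h2, IsLocalization.Away.lift_eq]

theorem awayHom_mk (f : MvPolynomial (Fin (n + 1)) R) {m : ℕ} (hf : f ∈ polyGrading n R m) (h : IsUnit (φ f)) (k : ℕ)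
    (a : MvPolynomial (Fin (n + 1)) R) (ha : a ∈ polyGrading n R (k • m)) :
    awayHom φ f h (Away.mk _ hf k a ha) * φ f ^ k = φ a := by
  rw [awayHom_val, Away.val_mk]
  exact lift_mk φ f h a k

theorem awayHom_comp {C' : Type u} [CommRing C'] (ψ : C →+* C') (f : MvPolynomial (Fin (n + 1)) R)
    (h : IsUnit (φ f)) (h' : IsUnit ((ψ.comp φ) f)) :
    ψ.comp (awayHom φ f h) = awayHom (ψ.comp φ) f h' := by
  have h1 : ψ.comp (IsLocalization.Away.lift (S := Localization.Away f) f h) =
      IsLocalization.Away.lift (S := Localization.Away f) f h' := by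
    apply IsLocalization.ringHom_ext (M := Submonoid.powers f)
    ext i
    · simp
    · simp
  ext z
  exact congrArg (fun g => g z.val) h1

theorem awayHom_mul (f g : MvPolynomial (Fin (n + 1)) R) {m : ℕ} (hg : g ∈ polyGrading n R m)
    (h : IsUnit (φ f)) (h' : IsUnit (φ (f * g))) :
    (awayHom φ (f * g) h').comp (awayMap (polyGrading n R) hg rfl) = awayHom φ f h := by
  have h1 : (IsLocalization.Away.lift (S := Localization.Away (f * g)) (f * g) h').comp
      (Localization.awayLift (algebraMap (MvPolynomial (Fin (n + 1)) R) _) _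
        (isUnit_of_dvd_unit (map_dvd _ ⟨g, rfl⟩) (IsLocalization.Away.algebraMap_isUnit (f * g)))) =
      IsLocalization.Away.lift (S := Localization.Away f) f h := by
    apply IsLocalization.ringHom_ext (M := Submonoid.powers f)
    ext i
    · simp [Localization.awayLift]
    · simp [Localization.awayLift]
  ext z
  rw [RingHom.comp_apply, awayHom_val, val_awayMap]
  exact congrArg (fun g => g z.val) h1

/-- The point with the given coordinate function. -/
noncomputable def pt (f : MvPolynomial (Fin (n + 1)) R) {m : ℕ} (hf : f ∈ polyGrading n R m) (hm : 0 < m)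
    (h : IsUnit (φ f)) : Spec (CommRingCat.of C) ⟶ Proj (polyGrading n R) :=
  Spec.map (CommRingCat.ofHom (awayHom φ f h)) ≫ Proj.awayι (polyGrading n R) f hf hm

theorem pt_mul (f g : MvPolynomial (Fin (n + 1)) R) {m m' : ℕ} (hf : f ∈ polyGrading n R m) (hm : 0 < m)
    (hg : g ∈ polyGrading n R m') (h : IsUnit (φ f)) (h' : IsUnit (φ (f * g))) :
    pt φ (f * g) (SetLike.mul_mem_graded hf hg) (hm.trans_le (m.le_add_right m')) h' = pt φ f hf hm h := by
  rw [pt, pt, ← Proj.SpecMap_awayMap_awayι (polyGrading n R) hf hm hg rfl, ← Category.assoc, ← Spec.map_comp,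
    ← CommRingCat.ofHom_comp, awayHom_mul φ f g hg h h']

theorem pt_indep (f g : MvPolynomial (Fin (n + 1)) R) {m m' : ℕ} (hf : f ∈ polyGrading n R m) (hm : 0 < m)
    (hg : g ∈ polyGrading n R m') (hm' : 0 < m') (h : IsUnit (φ f)) (h' : IsUnit (φ g)) :
    pt φ f hf hm h = pt φ g hg hm' h' := by
  have h3 : IsUnit (φ (f * g)) := by rw [map_mul]; exact h.mul h'
  have h4 : IsUnit (φ (g * f)) := by rw [map_mul]; exact h'.mul h
  rw [← pt_mul φ f g hf hm hg h h3, ← pt_mul φ g f hg hm' hf h' h4]
  congr 1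
  · exact mul_comm f g
  · exact Nat.add_comm m m'

end away

/-- The point of projective space with homogeneous coordinates `s`. -/
noncomputable def coordPt (β : R →+* C) (s : Fin (n + 1) → C) (j : Fin (n + 1)) (h : IsUnit (s j)) :
    Spec (CommRingCat.of C) ⟶ ProjSpace n R :=
  pt (eval₂Hom β s) (X j) (X_mem n j) one_pos (by rwa [eval₂Hom_X'])

theorem coordPt_eq (β : R →+* C) (s : Fin (n + 1) → C) (j : Fin (n + 1)) (h : IsUnit (s j))
    (h' : IsUnit (eval₂Hom β s (X j))) :
    coordPt β s j h = Spec.map (CommRingCat.ofHom (awayHom (eval₂Hom β s) (X j) h')) ≫ chartι n j := rfl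

theorem coordPt_indep (β : R →+* C) (s : Fin (n + 1) → C) (j j' : Fin (n + 1)) (h : IsUnit (s j))
    (h' : IsUnit (s j')) : coordPt β s j h = coordPt β s j' h' :=
  pt_indep _ _ _ _ _ _ _ _ _

theorem awayHom_chartHom (β : R →+* C) (s : Fin (n + 1) → C) (j : Fin (n + 1)) (h : s j = 1)
    (h' : IsUnit (eval₂Hom β s (X j))) (p : MvPolynomial (Fin (n + 1)) R) :
    awayHom (eval₂Hom β s) (X j) h' (chartHom n j p) = eval₂Hom β s p := by
  have key : (awayHom (eval₂Hom β s) (X j) h').comp (chartHom n j) = eval₂Hom β s := by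
    refine MvPolynomial.ringHom_ext (fun r => ?_) fun l => ?_
    · rw [RingHom.comp_apply, chartHom_C, awayHom_val]
      have h1 : (chartAlg n j r).val = algebraMap _ (Localization.Away (X j : MvPolynomial (Fin (n + 1)) R)) (MvPolynomial.C r) :=
        val_awayAlg n (X j) r
      rw [h1, IsLocalization.Away.lift_eq]
    · rw [RingHom.comp_apply, chartHom_X]
      have h1 := awayHom_mk (eval₂Hom β s) (X j) (X_mem n j) h' 1 (X l) (by simpa using X_mem n l)
      rw [eval₂Hom_X', h, one_pow, mul_one] at h1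
      exact h1
  exact congrArg (fun g => g p) key

theorem awayHom_ext_of_coord {D : Type*} [CommRing D] (j : Fin (n + 1))
    (α α' : Away (polyGrading n R) (X j : MvPolynomial (Fin (n + 1)) R) →+* D)
    (h : α.comp (chartHom n j) = α'.comp (chartHom n j)) : α = α' := by
  ext z
  obtain ⟨p, rfl⟩ := chartHom_surjective n j z
  exact congrArg (fun g => g p) h

/-- Scaling the coordinates. -/
theorem coordPt_scale (β : R →+* C) (s : Fin (n + 1) → C) (j : Fin (n + 1)) (h : IsUnit (s j)) (c : C)
    (h' : IsUnit (c * s j)) : coordPt β (fun l => c * s l) j h' = coordPt β s j h := by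
  have hu : IsUnit (eval₂Hom β s (X j)) := by rwa [eval₂Hom_X']
  have hu' : IsUnit (eval₂Hom β (fun l => c * s l) (X j)) := by rwa [eval₂Hom_X']
  rw [coordPt_eq β s j h hu, coordPt_eq β _ j h' hu']
  congr 3
  apply awayHom_ext_of_coord
  refine MvPolynomial.ringHom_ext (fun r => ?_) fun l => ?_
  · rw [RingHom.comp_apply, RingHom.comp_apply, chartHom_C, awayHom_val, awayHom_val]
    have h1 : (chartAlg n j r).val = algebraMap _ (Localization.Away (X j : MvPolynomial (Fin (n + 1)) R)) (MvPolynomial.C r) :=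
      val_awayAlg n (X j) r
    rw [h1, IsLocalization.Away.lift_eq, IsLocalization.Away.lift_eq]
    simp
  · rw [RingHom.comp_apply, RingHom.comp_apply, chartHom_X]
    have h1 := awayHom_mk (eval₂Hom β s) (X j) (X_mem n j) hu 1 (X l) (by simpa using X_mem n l)
    have h2 := awayHom_mk (eval₂Hom β (fun l => c * s l)) (X j) (X_mem n j) hu' 1 (X l) (by simpa using X_mem n l)
    simp only [eval₂Hom_X', pow_one] at h1 h2
    apply h'.mul_right_cancel
    rw [h2, ← h1]
    ring

theorem coordPt_map {C' : Type u} [CommRing C'] (ψ : C →+* C') (β : R →+* C) (s : Fin (n + 1) → C)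
    (j : Fin (n + 1)) (h : IsUnit (s j)) :
    Spec.map (CommRingCat.ofHom ψ) ≫ coordPt β s j h = coordPt (ψ.comp β) (fun l => ψ (s l)) j (h.map ψ) := by
  have hu : IsUnit (eval₂Hom β s (X j)) := by rwa [eval₂Hom_X']
  have hu' : IsUnit (eval₂Hom (ψ.comp β) (fun l => ψ (s l)) (X j)) := by rw [eval₂Hom_X']; exact h.map ψ
  rw [coordPt_eq β s j h hu, coordPt_eq _ _ j _ hu', ← Category.assoc, ← Spec.map_comp, ← CommRingCat.ofHom_comp]
  have h1 : ψ.comp (eval₂Hom β s) = eval₂Hom (ψ.comp β) (fun l => ψ (s l)) := by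
    refine MvPolynomial.ringHom_ext (fun r => ?_) fun l => ?_ <;> simp
  rw [awayHom_comp (eval₂Hom β s) ψ (X j) hu (by rw [h1]; exact hu')]
  congr 3
  simp only [h1]

theorem coordPt_toSpec (β : R →+* C) (s : Fin (n + 1) → C) (j : Fin (n + 1)) (h : IsUnit (s j)) :
    coordPt β s j h ≫ ProjSpace.toSpec n R = Spec.map (CommRingCat.ofHom β) := by
  have hu : IsUnit (eval₂Hom β s (X j)) := by rwa [eval₂Hom_X']
  rw [coordPt_eq β s j h hu, Category.assoc, chartι_toSpec, ← Spec.map_comp, ← CommRingCat.ofHom_comp]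
  congr 2
  ext r
  rw [RingHom.comp_apply, awayHom_val, val_awayAlg, IsLocalization.Away.lift_eq]
  simp

/-- Uniqueness of normalized coordinates. -/
theorem coordPt_inj {β β' : R →+* C} {s s' : Fin (n + 1) → C} {j : Fin (n + 1)} {h : IsUnit (s j)}
    {h' : IsUnit (s' j)} (h1 : s j = 1) (h1' : s' j = 1) (heq : coordPt β s j h = coordPt β' s' j h') :
    β = β' ∧ s = s' := by
  have hu : IsUnit (eval₂Hom β s (X j)) := by rwa [eval₂Hom_X']
  have hu' : IsUnit (eval₂Hom β' s' (X j)) := by rwa [eval₂Hom_X']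
  rw [coordPt_eq β s j h hu, coordPt_eq _ _ j _ hu', cancel_mono] at heq
  have h2 : awayHom (eval₂Hom β s) (X j) hu = awayHom (eval₂Hom β' s') (X j) hu' :=
    congrArg CommRingCat.Hom.hom (Spec.map_injective heq)
  have h3 : ∀ p, eval₂Hom β s p = eval₂Hom β' s' p := by
    intro p
    rw [← awayHom_chartHom β s j h1 hu, ← awayHom_chartHom β' s' j h1' hu', h2]
  refine ⟨?_, ?_⟩
  · ext r
    simpa using h3 (MvPolynomial.C r)
  · funext l
    simpa using h3 (X l)

/-- A morphism landing in a standard chart is given by coordinates. -/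
theorem exists_coordPt_of_fac (q : Spec (CommRingCat.of C) ⟶ ProjSpace n R) (j : Fin (n + 1))
    (h : Set.range q ⊆ Set.range (chartι (A := R) n j)) :
    ∃ (β : R →+* C) (s : Fin (n + 1) → C) (h1 : s j = 1), q = coordPt β s j (by rw [h1]; exact isUnit_one) := by
  let l := IsOpenImmersion.lift (chartι (A := R) n j) q h
  have hl : l ≫ chartι n j = q := IsOpenImmersion.lift_fac _ _ _
  obtain ⟨α, hα⟩ := Spec.map_surjective l
  have h1 : α.hom (chartHom n j (X j)) = 1 := by rw [chartHom_X_self, map_one]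
  refine ⟨α.hom.comp (chartAlg n j), fun l => α.hom (chartHom n j (X l)), h1, ?_⟩
  have hu : IsUnit (eval₂Hom (α.hom.comp (chartAlg n j)) (fun l => α.hom (chartHom n j (X l))) (X j)) := by
    rw [eval₂Hom_X', h1]; exact isUnit_one
  rw [coordPt_eq _ _ j _ hu, ← hl, ← hα]
  congr 2
  apply CommRingCat.hom_ext
  rw [CommRingCat.hom_ofHom]
  apply awayHom_ext_of_coord
  refine RingHom.ext fun p => ?_
  rw [RingHom.comp_apply, RingHom.comp_apply, awayHom_chartHom _ _ _ h1 hu]
  have key : α.hom.comp (chartHom n j) =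
      eval₂Hom (α.hom.comp (chartAlg n j)) (fun l => α.hom (chartHom n j (X l))) := by
    refine MvPolynomial.ringHom_ext (fun r => ?_) fun l => ?_
    · rw [RingHom.comp_apply, chartHom_C, eval₂Hom_C, RingHom.comp_apply]
    · rw [RingHom.comp_apply, eval₂Hom_X']
  exact congrArg (fun g => g p) key

theorem exists_coordPt [IsLocalRing C] (q : Spec (CommRingCat.of C) ⟶ ProjSpace n R) :
    ∃ (j : Fin (n + 1)) (β : R →+* C) (s : Fin (n + 1) → C) (h1 : s j = 1),
      q = coordPt β s j (by rw [h1]; exact isUnit_one) := by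
  obtain ⟨j', y, hy⟩ := (stdCover (A := R) n).openCover.exists_eq (q (IsLocalRing.closedPoint C))
  obtain ⟨j, rfl⟩ : ∃ j : Fin (n + 1), j = j' := ⟨j', rfl⟩
  have hy' : chartι (A := R) n j y = q (IsLocalRing.closedPoint C) := hy
  refine ⟨j, exists_coordPt_of_fac q j ?_⟩
  have h1 : q ⁻¹ᵁ (chartι (A := R) n j).opensRange = ⊤ := by
    refine IsLocalRing.closed_point_mem_iff.mp ?_
    exact ⟨y, hy'⟩
  rintro _ ⟨z, rfl⟩
  have h2 : z ∈ q ⁻¹ᵁ (chartι (A := R) n j).opensRange := by rw [h1]; trivial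
  exact h2

theorem range_coordPt_subset (β : R →+* C) (s : Fin (n + 1) → C) (j : Fin (n + 1)) (h : IsUnit (s j)) :
    Set.range (coordPt β s j h) ⊆ Set.range (chartι (A := R) n j) := by
  have hu : IsUnit (eval₂Hom β s (X j)) := by rwa [eval₂Hom_X']
  rw [coordPt_eq β s j h hu]
  rintro _ ⟨z, rfl⟩
  exact ⟨_, rfl⟩

theorem ne_zero_of_mem {L : Type u} [CommRing L] [IsDomain L] (β : R →+* L) (s : Fin (n + 1) → L) (j j' : Fin (n + 1))
    (h : IsUnit (s j)) (z : Spec (CommRingCat.of L))
    (hz : coordPt β s j h z ∈ Set.range (chartι (A := R) n j')) : s j' ≠ 0 := by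
  intro h0
  have hu : IsUnit (eval₂Hom β s (X j)) := by rwa [eval₂Hom_X']
  have h1 : coordPt β s j h z = Proj.awayι (polyGrading n R) (X j) (X_mem n j) one_pos
      (Spec.map (CommRingCat.ofHom (awayHom (eval₂Hom β s) (X j) hu)) z) := rfl
  have h2 : coordPt β s j h z ∈ Proj.basicOpen (polyGrading n R) (X j') := by
    rw [← Proj.opensRange_awayι (polyGrading n R) (X j') (X_mem n j') one_pos]
    exact hz
  rw [h1] at h2
  have h3 : Spec.map (CommRingCat.ofHom (awayHom (eval₂Hom β s) (X j) hu)) z ∈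
      Proj.awayι (polyGrading n R) (X j) (X_mem n j) one_pos ⁻¹ᵁ Proj.basicOpen (polyGrading n R) (X j') := h2
  rw [Proj.awayι_preimage_basicOpen (polyGrading n R) (X_mem n j) one_pos (X_mem n j') one_pos] at h3
  have h4 : awayHom (eval₂Hom β s) (X j) hu (Away.isLocalizationElem (X_mem n j) (X_mem n j')) ∉
      PrimeSpectrum.asIdeal z := h3
  apply h4
  have h5 := awayHom_mk (eval₂Hom β s) (X j) (X_mem n j) hu 1 (X j' ^ 1) (by simpa using X_mem n j')
  have h5a : eval₂Hom β s (X j' ^ 1) = 0 := by rw [pow_one, eval₂Hom_X', h0]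
  have h5b : eval₂Hom β s (X j) ^ 1 = s j := by rw [pow_one, eval₂Hom_X']
  rw [h5a, h5b] at h5
  have h6 : awayHom (eval₂Hom β s) (X j) hu (Away.isLocalizationElem (X_mem n j) (X_mem n j')) = 0 := by
    rcases mul_eq_zero.1 h5 with h | h'
    · rw [← h]
    · exact absurd h' h.ne_zero
  rw [h6]
  exact Submodule.zero_mem _

/-- Uniqueness of homogeneous coordinates over a field. -/
theorem coordPt_eq_imp {L : Type u} [CommRing L] (hL : IsField L) {β β' : R →+* L} {s s' : Fin (n + 1) → L}
    {j j' : Fin (n + 1)} {h : IsUnit (s j)} {h' : IsUnit (s' j')}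
    (heq : coordPt β s j h = coordPt β' s' j' h') :
    β = β' ∧ ∃ c : L, IsUnit c ∧ ∀ l, s' l = c * s l := by
  have hdom : IsDomain L := hL.isDomain
  have hloc : IsLocalRing L := by
    let _ := hL.toField
    infer_instance
  have hj : s j' ≠ 0 := by
    refine ne_zero_of_mem β s j j' h (IsLocalRing.closedPoint L) ?_
    rw [heq]
    exact range_coordPt_subset β' s' j' h' ⟨_, rfl⟩
  obtain ⟨a, ha⟩ := hL.mul_inv_cancel hj
  obtain ⟨a', ha'⟩ := hL.mul_inv_cancel h'.ne_zero
  have hsj : IsUnit (s j') := IsUnit.of_mul_eq_one _ ha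
  have ha2 : a * s j' = 1 := by rw [mul_comm]; exact ha
  have ha2' : a' * s' j' = 1 := by rw [mul_comm]; exact ha'
  have h1 : coordPt β s j h = coordPt β (fun l => a * s l) j' (by rw [ha2]; exact isUnit_one) := by
    rw [coordPt_scale β s j' hsj, coordPt_indep β s j j' h hsj]
  have h2 : coordPt β' s' j' h' = coordPt β' (fun l => a' * s' l) j' (by rw [ha2']; exact isUnit_one) := by
    rw [coordPt_scale β' s' j' h']
  rw [h1, h2] at heq
  obtain ⟨h3, h4⟩ := coordPt_inj ha2 ha2' heq
  refine ⟨h3, s' j' * a, h'.mul (IsUnit.of_mul_eq_one _ ha2), fun l => ?_⟩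
  have h5 : a * s l = a' * s' l := congrFun h4 l
  rw [mul_assoc, h5, ← mul_assoc, ha', one_mul]

end Groth.Agent.IntSh.K877.ProjPt
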