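import Groth.Agent.IntSh.K877.LocProj
import Groth.Agent.IntSh.K877.ProjEmb
import Mathlib.AlgebraicGeometry.ZariskisMainTheorem

/-!
# Finite quasi-sections of locally projective morphisms with fibres of constant dimension

`exists_point`: `π : X → Y` locally projective over an integral `Y` with all fibres of dimension `d`, `y ∈ Y`: there is a
point over the generic point whose closure has finite fibre over `y`.
-/

set_option autoImplicit false
universe u
open CategoryTheory CategoryTheory.Limits AlgebraicGeometry TopologicalSpace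

namespace Groth.Agent.IntSh.K877.QuasiSec

theorem dim_fiber {X Y : Scheme.{u}} (π : X ⟶ Y) (y : Y) :
    topologicalKrullDim (π.fiber y) = topologicalKrullDim (π ⁻¹' {y}) :=
  (π.fiberHomeo y).isHomeomorph.topologicalKrullDim_eq

theorem ι_restrict {X Y : Scheme.{u}} (π : X ⟶ Y) (V : Y.Opens) (x : ((π ⁻¹ᵁ V : X.Opens) : Scheme.{u})) :
    V.ι ((π ∣_ V) x) = π ((π ⁻¹ᵁ V).ι x) := by
  rw [← Scheme.Hom.comp_apply, ← Scheme.Hom.comp_apply, morphismRestrict_ι]

theorem dim_fiber_restrict {X Y : Scheme.{u}} (π : X ⟶ Y) (V : Y.Opens) (v : (V : Scheme.{u})) :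
    topologicalKrullDim ((π ∣_ V).fiber v) = topologicalKrullDim (π.fiber (V.ι v)) := by
  rw [dim_fiber, dim_fiber]
  let φ : ((π ∣_ V) ⁻¹' {v}) → (π ⁻¹' {V.ι v}) := fun x => ⟨(π ⁻¹ᵁ V).ι x.1, by
    have h1 : (π ∣_ V) x.1 = v := x.2
    have h2 := ι_restrict π V x.1
    rw [h1] at h2
    exact h2.symm⟩
  have hφ : Topology.IsEmbedding φ := by
    have h1 : Topology.IsEmbedding (Subtype.val ∘ φ) :=
      (π ⁻¹ᵁ V).ι.isOpenEmbedding.isEmbedding.comp Topology.IsEmbedding.subtypeVal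
    exact Topology.IsEmbedding.of_comp (by fun_prop) continuous_subtype_val h1
  have hs : Function.Surjective φ := by
    rintro ⟨x, hx⟩
    have hx' : π x = V.ι v := hx
    have hxV : x ∈ π ⁻¹ᵁ V := by
      change π x ∈ V
      rw [hx']; exact v.2
    obtain ⟨w, rfl⟩ : ∃ w, (π ⁻¹ᵁ V).ι w = x := ⟨⟨x, hxV⟩, rfl⟩
    refine ⟨⟨w, ?_⟩, rfl⟩
    exact V.ι.isOpenEmbedding.injective ((ι_restrict π V w).trans hx')
  exact (hφ.toHomeomorphOfSurjective hs).isHomeomorph.topologicalKrullDim_eq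

theorem exists_point {X Y : Scheme.{u}} [IsIntegral Y] (π : X ⟶ Y) (hπ : RelProj.IsLocallyProjective π)
    (d : ℕ) (hd : ∀ y : Y, topologicalKrullDim (π.fiber y) = d) (y : Y) :
    ∃ x : X, π x = genericPoint Y ∧ (closure {x} ∩ π ⁻¹' {y}).Finite := by
  have hp : IsProper π := ProjEmb.isProper_of_isLocallyProjective π hπ
  obtain ⟨V, hyV, hV, hE⟩ := LocProj.exists_enough π hπ y
  have hVaff : IsAffine V := hV
  have : Nonempty V := ⟨⟨y, hyV⟩⟩
  obtain ⟨v, rfl⟩ : ∃ v : (V : Scheme.{u}), V.ι v = y := ⟨⟨y, hyV⟩, rfl⟩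
  have hfib : ∀ v : (V : Scheme.{u}), topologicalKrullDim ((π ∣_ V).fiber v) = d := by
    intro v
    rw [← hd (V.ι v), dim_fiber_restrict]
  obtain ⟨x, hx, hfin⟩ := Cut.exists_quasiSection (π ∣_ V) hE v d (hfib _) (hfib _)
  have hgen : V.ι (genericPoint V) = genericPoint Y := genericPoint_eq_of_isOpenImmersion V.ι
  refine ⟨(π ⁻¹ᵁ V).ι x, ?_, ?_⟩
  · rw [← hgen, ← hx, ι_restrict]
  · refine (hfin.image (π ⁻¹ᵁ V).ι).subset ?_
    rintro z ⟨hz, hzy⟩
    have hzy' : π z = V.ι v := hzy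
    have hzV : z ∈ π ⁻¹ᵁ V := by
      change π z ∈ V
      rw [hzy']; exact hyV
    obtain ⟨w, rfl⟩ : ∃ w, (π ⁻¹ᵁ V).ι w = z := ⟨⟨z, hzV⟩, rfl⟩
    refine ⟨w, ⟨?_, ?_⟩, rfl⟩
    · rw [← specializes_iff_mem_closure] at hz ⊢
      exact (π ⁻¹ᵁ V).ι.isOpenEmbedding.isInducing.specializes_iff.1 hz
    · exact V.ι.isOpenEmbedding.injective ((ι_restrict π V w).trans hzy')

end Groth.Agent.IntSh.K877.QuasiSec
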